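import Cfsg.Agent.H664.Eight.Base
import Cfsg.Agent.H113.PSL.Main
import Cfsg.Agent.H167.HasSt
import Cfsg.Agent.Nodes.RGDClass
import Cfsg.Agent.H363.PslThree
import Cfsg.Agent.H934.Eight.U4_mg_m3
import Cfsg.Agent.H561.Eight.Blk
import Cfsg.Agent.S0285
import Cfsg.Agent.H167.HasStLie
import Cfsg.Agent.H677.DG.Tri42
import Cfsg.Agent.H677.WeilIrr
import Cfsg.Agent.H809.SelfCentPSU
import Cfsg.Agent.H113.PSU.Main
import Cfsg.Agent.H362.Dl.SpSmall
import Cfsg.Agent.SmallSimple.TheoremB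
import Cfsg.Agent.SmallSimple.TheoremBCor
import Cfsg.Agent.H607.BP.NonSelf
import Cfsg.Agent.MTwelve.SmallDegree
import Cfsg.Agent.S0270
import Cfsg.Agent.H471.Eight.CertFi22_m3
import Cfsg.Agent.H600.AltIM_m3
import Cfsg.Agent.H996.Eight.RowTwE6_m3
import Cfsg.Agent.H477.HC.Rk3Chars_m3
import Cfsg.Agent.Characters.Counting
import Cfsg.Agent.Characters.Linear
import Cfsg.Agent.H674.Dl.OrthMinus
import Mathlib.GroupTheory.FiniteAbelian.Duality
import Cfsg.Agent.Nodes.WittInst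
import Cfsg.Agent.Characters.Ito
import Cfsg.Agent.S0296
import Cfsg.Agent.H612.Eight.Fam
import Cfsg.Agent.H732.SelfCentO
import Cfsg.Agent.H420.DFourThree
import Cfsg.Agent.H150.SpForm
import Cfsg.Agent.H113.Two.PsuChars
import Cfsg.Agent.S0157
import Cfsg.Agent.LieClassical.HermBasic
import Cfsg.Agent.H477.HC.Arith_m3
import Cfsg.Agent.H670.PSing
import Cfsg.Agent.H996.Eight.Interval
import Cfsg.Agent.S2347
import Cfsg.Agent.CharDeep.PowerDegrees
import Cfsg.Agent.CharDeep.LinearChar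
import Cfsg.Agent.S0245
import Cfsg.Agent.S0246
import Cfsg.Agent.S0290
import Cfsg.Agent.S0297
import Cfsg.Agent.H175.Eight.Blk
import Cfsg.Agent.PermChar.SymAlt
import Cfsg.Agent.H570.Ore.Blk_m3
import Cfsg.Agent.H215.CC.LyThirtySeven
import Cfsg.Agent.H655.LyThirtySeven
import Cfsg.Agent.H314.LyOrb.Deg
import Cfsg.Agent.H843.IMC.Co1D
import Cfsg.Agent.H208.DS.Cent
import Cfsg.Agent.H417.JFourDeg
import Cfsg.Agent.H492.IMJ4
import Cfsg.Agent.H289.Eight.He
import Cfsg.Agent.H678.DG.FiDeg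
import Cfsg.Agent.H590.MElevenDeg
import Cfsg.Agent.H417.DegMTwelve
import Cfsg.Agent.H417.DegMTwentyTwo
import Cfsg.Agent.H970.Sep.Co3Seven
import Cfsg.Agent.H769.PB.CoThreeRank5
import Cfsg.Agent.H678.DG.McLDeg
import Cfsg.Agent.H904.McLCent
import Cfsg.Agent.H848.McLLocal
import Cfsg.Agent.H669.Dl.Th
import Cfsg.Agent.H596.Degree
import Cfsg.Agent.H30.GraphFi24A
import Cfsg.Agent.H968.Tor.FiFour
import Cfsg.Agent.FastGrp
import Cfsg.Agent.Prune
set_option linter.all false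

section
prune_inst 0x7f00000000000000000000000000000000000000000000000000000000000000000000000000000000000000000000000000000000000000000000000000000000000000000000000000000000000000003ffffffffffffffffffff7ffffffaeffbdf3feffff

-- part: H733/Eight/FillB
section
prune_inst 0xfdbdfdffad73ffffff7e37fed9dffe33c7cfffbcdffb4bffe8e99fafdfb39219656fa51de0d8ff0ed6c6b618a87803fbfffeffea6ffc7ffffdfff41ffbee5ff7ffb50831d58c340f706fff8bf07f8e7f00000000000000000000080000001000420c010000
set_option linter.all false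
open scoped Cfsg.Agent.FastGrp

-- part: H117/Eight/L3
section
/-!
# S4899, row `PSL₃(q)`, `q ≥ 5`: at least eight character degrees (helper117)

`1`, `q³`, `q² + q`, `(q - 1)²(q + 1)/t`, `(q - 1)(q² + q + 1)/t`, `(q² + q + 1)/t`, `q(q² + q + 1)/t`,
`(q + 1)(q² + q + 1)/t`, each `t` a divisor of `gcd(3, q - 1)`.
-/

set_option autoImplicit false
set_option linter.unusedSectionVars false

open Cfsg Matrix

namespace Cfsg.Agent.H117.Eight.L3

open Cfsg.Agent.Characters Cfsg.Agent.H113.PSL Three Hyper Degrees Cfsg.Agent.H113.BorelInd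
open Cfsg.Agent.H664.Eight

universe u v

section

variable {F : Type u} [Field F] [Fintype F]

/-- **a character of degree `(q² + q + 1) / t`** -/
theorem exists_lin (hq : Fintype.card F ≠ 2) (hq' : Fintype.card F ≠ 4) :
    ∃ (φ : IrrCharacter (ProjectiveSpecialLinearGroup (Fin 3) F)) (t : ℕ),
      t ∣ Nat.gcd 3 (Fintype.card F - 1) ∧
        charDegree (φ : ProjectiveSpecialLinearGroup (Fin 3) F → ℂ) * t * (Fintype.card F - 1) =
        (Fintype.card F ^ 3 - 1) * 1 := by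
  classical
  have hq1 := Fintype.one_lt_card (α := F)
  obtain ⟨χ, hχ⟩ := MulChar.exists_mulChar_orderOf F (dvd_refl (Fintype.card F - 1))
    (Complex.isPrimitiveRoot_exp (Fintype.card F - 1) (by omega))
  have hne : χ ≠ (χ ^ 2)⁻¹ := by
    intro h
    have h2 : χ ^ 3 = 1 := by
      rw [pow_succ]
      nth_rewrite 2 [h]
      exact mul_inv_cancel (χ ^ 2)
    have h3 := orderOf_dvd_of_pow_eq_one h2
    rw [hχ, Nat.dvd_prime Nat.prime_three] at h3
    omega
  have h1 : linDet χ.toUnitHom 2 1 = 1 := by simp only [linDet, _root_.Cfsg.Agent.H113.PSL.Hyper.linDet, _root_.MulChar.toUnitHom_eq, _root_.map_one, _root_.Units.val_one]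
  refine exists_three (isIrr_linDet (F := F) (n := 2) χ.toUnitHom) (d := 1) (by rw [h1]; simp)
    (J := fun c => χ c) (fun c => ?_) (χ ^ 2)⁻¹ ?_ ?_
  · rw [Finset.sum_congr rfl fun y _ => linDet_mir χ c y, Finset.sum_const, Finset.card_univ, nsmul_eq_mul]
  · rw [sum_units_mul_conj, if_neg hne]
  · intro c
    have h0 : linDet χ.toUnitHom 2 (GeneralLinearGroup.scalar (Fin 2) c) = χ c * χ c := by
      unfold linDet
      rw [MulChar.coe_toUnitHom, GeneralLinearGroup.val_det_apply, GeneralLinearGroup.coe_scalar, Matrix.det_fin_two]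
      simp
    have h2 : (χ c * χ c) * (χ ^ 2)⁻¹ c = 1 := by
      rw [← pow_two, ← MulChar.pow_apply_coe, ← MulChar.mul_apply, mul_inv_cancel, MulChar.one_apply_coe]
    rw [h0, h1, h2]

/-- the Steinberg degree -/
theorem steinberg : Fintype.card F ^ 3 ∈ charDegrees (ProjectiveSpecialLinearGroup (Fin 3) F) := by
  obtain ⟨p, hp⟩ := CharP.exists F
  have hpp : Fact p.Prime := ⟨CharP.char_is_prime F p⟩
  obtain ⟨n, -, hn⟩ := FiniteField.card F p
  have hfin : Finite (ProjectiveSpecialLinearGroup (Fin 3) F) := by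
    unfold ProjectiveSpecialLinearGroup
    infer_instance
  obtain ⟨χ, hχ, h1, -⟩ := H167.StChar.HasSt.of_hasRGD (Nodes.RGDClass.hasRGD_PSL (F := F) 2 (p := p))
  refine ⟨⟨χ, hχ⟩, ?_⟩
  apply H670.PSing.charDegree_eq_of
  change χ 1 = _
  rw [h1]
  have hq1 := Fintype.one_lt_card (α := F)
  have hc := H363.PslThree.card_psl_three (F := F)
  have hpq : p ∣ Fintype.card F := by rw [hn]; exact dvd_pow_self p n.pos.ne'
  have hcop : ∀ k : ℕ, k ≠ 0 → ¬ p ∣ Fintype.card F ^ k - 1 := by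
    intro k hk h
    have h2 : 1 ≤ Fintype.card F ^ k := Nat.one_le_pow _ _ (by omega)
    have h3 := (Nat.dvd_sub_iff_right h2 (hpq.trans (dvd_pow_self _ hk))).1 h
    exact hpp.out.one_lt.ne' (Nat.dvd_one.1 h3)
  have hc1 := hcop 1 one_ne_zero
  have hc2 := hcop 2 two_ne_zero
  have hc3 := hcop 3 three_ne_zero
  rw [pow_one] at hc1
  have hg : ¬ p ∣ Nat.gcd 3 (Fintype.card F - 1) := fun h => hc1 (h.trans (Nat.gcd_dvd_right _ _))
  have hg0 : Nat.gcd 3 (Fintype.card F - 1) ≠ 0 := fun h => hg (by rw [h]; exact dvd_zero _)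
  have h20 : Fintype.card F ^ 2 - 1 ≠ 0 := fun h => hc2 (by rw [h]; exact dvd_zero _)
  have h30 : Fintype.card F ^ 3 - 1 ≠ 0 := fun h => hc3 (by rw [h]; exact dvd_zero _)
  have hq0 : Fintype.card F ^ 3 ≠ 0 := pow_ne_zero _ (by omega)
  have hf := congrArg (fun m : ℕ => m.factorization p) hc
  rw [Nat.factorization_mul hg0 Nat.card_pos.ne', Nat.factorization_mul hq0 (mul_ne_zero h20 h30),
    Nat.factorization_mul h20 h30, Finsupp.add_apply, Finsupp.add_apply, Finsupp.add_apply,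
    Nat.factorization_eq_zero_of_not_dvd hg, Nat.factorization_eq_zero_of_not_dvd hc2,
    Nat.factorization_eq_zero_of_not_dvd hc3, add_zero, zero_add, add_zero] at hf
  rw [hf, hn, ← pow_mul, hpp.out.factorization_pow, Finsupp.single_eq_same]

end

/-- arithmetic: the eight degrees are different (`A = y²`, `B = y³`, `q = y + 5`) -/
theorem nodup_aux {y A B s c a₃ a₄ a₅ a₆ a₇ t₃ t₄ t₅ t₆ t₇ : ℕ}
    (hs : s = A + 10 * y + 25) (hc : c = B + 15 * A + 75 * y + 125)
    (h3 : t₃ = 1 ∨ t₃ = 3) (h4 : t₄ = 1 ∨ t₄ = 3) (h5 : t₅ = 1 ∨ t₅ = 3) (h6 : t₆ = 1 ∨ t₆ = 3)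
    (h7 : t₇ = 1 ∨ t₇ = 3)
    (e3 : a₃ * t₃ + s + (y + 5) = c + 1) (e4 : a₄ * t₄ + 1 = c)
    (e5 : a₅ * t₅ = s + (y + 5) + 1) (e6 : a₆ * t₆ = c + s + (y + 5))
    (e7 : a₇ * t₇ = c + 2 * s + 2 * (y + 5) + 1) :
    [1, c, s + (y + 5), a₃, a₄, a₅, a₆, a₇].Nodup := by
  subst hs hc
  have n01 : ¬ 1 = B + 15 * A + 75 * y + 125 := (by
    clear h3 e3 h4 e4 h5 e5 h6 e6 h7 e7
    omega)
  have n02 : ¬ 1 = A + 10 * y + 25 + (y + 5) := (by
    clear h3 e3 h4 e4 h5 e5 h6 e6 h7 e7
    omega)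
  have n03 : ¬ 1 = a₃ := (by
    clear h4 e4 h5 e5 h6 e6 h7 e7
    rcases h3 with rfl | rfl <;> omega)
  have n04 : ¬ 1 = a₄ := (by
    clear h3 e3 h5 e5 h6 e6 h7 e7
    rcases h4 with rfl | rfl <;> (clear * - e4; omega))
  have n05 : ¬ 1 = a₅ := (by
    clear h3 e3 h4 e4 h6 e6 h7 e7
    rcases h5 with rfl | rfl <;> omega)
  have n06 : ¬ 1 = a₆ := (by
    clear h3 e3 h4 e4 h5 e5 h7 e7
    rcases h6 with rfl | rfl <;> omega)
  have n07 : ¬ 1 = a₇ := (by
    clear h3 e3 h4 e4 h5 e5 h6 e6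
    rcases h7 with rfl | rfl <;> omega)
  have n12 : ¬ B + 15 * A + 75 * y + 125 = A + 10 * y + 25 + (y + 5) := (by
    clear h3 e3 h4 e4 h5 e5 h6 e6 h7 e7
    omega)
  have n13 : ¬ B + 15 * A + 75 * y + 125 = a₃ := (by
    clear h4 e4 h5 e5 h6 e6 h7 e7
    rcases h3 with rfl | rfl <;> omega)
  have n14 : ¬ B + 15 * A + 75 * y + 125 = a₄ := (by
    clear h3 e3 h5 e5 h6 e6 h7 e7
    rcases h4 with rfl | rfl <;> omega)
  have n15 : ¬ B + 15 * A + 75 * y + 125 = a₅ := (by
    clear h3 e3 h4 e4 h6 e6 h7 e7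
    rcases h5 with rfl | rfl <;> omega)
  have n16 : ¬ B + 15 * A + 75 * y + 125 = a₆ := (by
    clear h3 e3 h4 e4 h5 e5 h7 e7
    rcases h6 with rfl | rfl <;> omega)
  have n17 : ¬ B + 15 * A + 75 * y + 125 = a₇ := (by
    clear h3 e3 h4 e4 h5 e5 h6 e6
    rcases h7 with rfl | rfl <;> omega)
  have n23 : ¬ A + 10 * y + 25 + (y + 5) = a₃ := (by
    clear h4 e4 h5 e5 h6 e6 h7 e7
    rcases h3 with rfl | rfl <;> (clear * - e3; omega))
  have n24 : ¬ A + 10 * y + 25 + (y + 5) = a₄ := (by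
    clear h3 e3 h5 e5 h6 e6 h7 e7
    rcases h4 with rfl | rfl <;> (clear * - e4; omega))
  have n25 : ¬ A + 10 * y + 25 + (y + 5) = a₅ := (by
    clear h3 e3 h4 e4 h6 e6 h7 e7
    rcases h5 with rfl | rfl <;> (clear * - e5; omega))
  have n26 : ¬ A + 10 * y + 25 + (y + 5) = a₆ := (by
    clear h3 e3 h4 e4 h5 e5 h7 e7
    rcases h6 with rfl | rfl <;> (clear * - e6; omega))
  have n27 : ¬ A + 10 * y + 25 + (y + 5) = a₇ := (by
    clear h3 e3 h4 e4 h5 e5 h6 e6
    rcases h7 with rfl | rfl <;> (clear * - e7; omega))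
  have n34 : ¬ a₃ = a₄ := (by
    clear h5 e5 h6 e6 h7 e7
    rcases h3 with rfl | rfl <;> rcases h4 with rfl | rfl <;> (clear * - e3 e4; solve | lia | omega))
  have n35 : ¬ a₃ = a₅ := (by
    clear h4 e4 h6 e6 h7 e7
    rcases h3 with rfl | rfl <;> rcases h5 with rfl | rfl <;> (clear * - e3 e5; solve | lia | omega))
  have n36 : ¬ a₃ = a₆ := (by
    clear h4 e4 h5 e5 h7 e7
    rcases h3 with rfl | rfl <;> rcases h6 with rfl | rfl <;> (clear * - e3 e6; solve | lia | omega))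
  have n37 : ¬ a₃ = a₇ := (by
    clear h4 e4 h5 e5 h6 e6
    rcases h3 with rfl | rfl <;> rcases h7 with rfl | rfl <;> (clear * - e3 e7; solve | lia | omega))
  have n45 : ¬ a₄ = a₅ := (by
    clear h3 e3 h6 e6 h7 e7
    rcases h4 with rfl | rfl <;> rcases h5 with rfl | rfl <;> (clear * - e4 e5; solve | lia | omega))
  have n46 : ¬ a₄ = a₆ := (by
    clear h3 e3 h5 e5 h7 e7
    rcases h4 with rfl | rfl <;> rcases h6 with rfl | rfl <;> (clear * - e4 e6; solve | lia | omega))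
  have n47 : ¬ a₄ = a₇ := (by
    clear h3 e3 h5 e5 h6 e6
    rcases h4 with rfl | rfl <;> rcases h7 with rfl | rfl <;> (clear * - e4 e7; solve | lia | omega))
  have n56 : ¬ a₅ = a₆ := (by
    clear h3 e3 h4 e4 h7 e7
    rcases h5 with rfl | rfl <;> rcases h6 with rfl | rfl <;> (clear * - e5 e6; solve | lia | omega))
  have n57 : ¬ a₅ = a₇ := (by
    clear h3 e3 h4 e4 h6 e6
    rcases h5 with rfl | rfl <;> rcases h7 with rfl | rfl <;> (clear * - e5 e7; solve | lia | omega))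
  have n67 : ¬ a₆ = a₇ := (by
    clear h3 e3 h4 e4 h5 e5
    rcases h6 with rfl | rfl <;> rcases h7 with rfl | rfl <;> (clear * - e6 e7; solve | lia | omega))
  simp only [List.nodup_cons, List.mem_cons, List.not_mem_nil, or_false, not_or, List.nodup_nil, not_false_eq_true,
    and_true]
  exact ⟨⟨n01, n02, n03, n04, n05, n06, n07⟩, ⟨n12, n13, n14, n15, n16, n17⟩, ⟨n23, n24, n25, n26, n27⟩,
    ⟨n34, n35, n36, n37⟩, ⟨n45, n46, n47⟩, ⟨n56, n57⟩, n67⟩

/-- arithmetic: the eight degrees are different -/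
theorem nodup {q a₃ a₄ a₅ a₆ a₇ t₃ t₄ t₅ t₆ t₇ : ℕ} (hq : 5 ≤ q)
    (h3 : t₃ = 1 ∨ t₃ = 3) (h4 : t₄ = 1 ∨ t₄ = 3) (h5 : t₅ = 1 ∨ t₅ = 3) (h6 : t₆ = 1 ∨ t₆ = 3)
    (h7 : t₇ = 1 ∨ t₇ = 3)
    (e3 : a₃ * t₃ + q ^ 2 + q = q ^ 3 + 1) (e4 : a₄ * t₄ + 1 = q ^ 3)
    (e5 : a₅ * t₅ = q ^ 2 + q + 1) (e6 : a₆ * t₆ = q ^ 3 + q ^ 2 + q)
    (e7 : a₇ * t₇ = q ^ 3 + 2 * q ^ 2 + 2 * q + 1) :
    [1, q ^ 3, q ^ 2 + q, a₃, a₄, a₅, a₆, a₇].Nodup := by
  obtain ⟨y, rfl⟩ : ∃ y, q = y + 5 := ⟨q - 5, by (clear * - hq; omega)⟩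
  exact nodup_aux (y := y) (A := y ^ 2) (B := y ^ 3) (by ring) (by ring) h3 h4 h5 h6 h7 e3 e4 e5 e6 e7

/-- **S4899, row `PSL₃(q)`, `q ≥ 5`.** -/
theorem eight_l3 {F : Type u} [Field F] [Fintype F] (h : 5 ≤ Fintype.card F) :
    Eight (Matrix.ProjectiveSpecialLinearGroup (Fin 3) F) := by
  classical
  have hfin : Finite (ProjectiveSpecialLinearGroup (Fin 3) F) := by
    unfold ProjectiveSpecialLinearGroup
    infer_instance
  have hC : ∀ m, 1 ≤ m → HasCusp F m := fun m hm => Main.hasCusp F m hm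
  obtain ⟨φ2, h2⟩ := Facts.t3 (F := F) (n := 3) (by norm_num)
  obtain ⟨φ3, t3, ht3, h3⟩ := exists_cusp (F := F) (n := 3) (by norm_num) (hC 3 (by norm_num))
  obtain ⟨φ4, t4, ht4, h4⟩ := exists_hyper (F := F) (m := 2) (by norm_num) (hC 2 (by norm_num))
  obtain ⟨φ5, t5, ht5, h5⟩ := exists_lin (F := F) (by omega) (by omega)
  obtain ⟨φ6, t6, ht6, h6⟩ := exists_st (F := F) (by omega) (by omega)
  obtain ⟨φ7, t7, ht7, h7⟩ := exists_ps (F := F) (by omega)
  have h1 := steinberg (F := F)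
  have hdt : ∀ {t : ℕ}, t ∣ Nat.gcd 3 (Fintype.card F - 1) → t = 1 ∨ t = 3 := fun ht =>
    (Nat.dvd_prime Nat.prime_three).1 (ht.trans (Nat.gcd_dvd_left _ _))
  obtain ⟨x, hx⟩ : ∃ x, Fintype.card F = x + 1 := ⟨Fintype.card F - 1, by omega⟩
  rw [hx] at h h1 h2 h3 h4 h5 h6 h7
  have p2 : (x + 1) ^ 2 - 1 = x * (x + 2) := by
    have : (x + 1) ^ 2 = x * (x + 2) + 1 := by ring
    omega
  have p3 : (x + 1) ^ 3 - 1 = x * (x ^ 2 + 3 * x + 3) := by
    have : (x + 1) ^ 3 = x * (x ^ 2 + 3 * x + 3) + 1 := by ring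
    omega
  have hx0 : 0 < x := by omega
  simp only [Finset.prod_range_succ, Finset.prod_range_zero, Finset.sum_range_succ, Finset.sum_range_zero,
    Nat.add_sub_cancel, zero_add, one_mul, pow_one, pow_zero, Nat.reduceAdd, Nat.reduceSub] at h2 h3 h4 h5 h6 h7
  rw [p2] at h3
  rw [p3] at h4 h5 h6 h7
  refine eight_of_list [1, (x + 1) ^ 3, (x + 1) ^ 2 + (x + 1), charDegree φ3.1, charDegree φ4.1, charDegree φ5.1,
    charDegree φ6.1, charDegree φ7.1] ?_ (by simp only [_root_.Nat.reduceAdd, _root_.List.length_cons, _root_.List.length_nil, _root_.zero_add, _root_.Std.le_refl]) ?_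
  · refine nodup h (hdt ht3) (hdt ht4) (hdt ht5) (hdt ht6) (hdt ht7) ?_ ?_ ?_ ?_ ?_
    · rw [h3]; ring
    · have : charDegree φ4.1 * t4 = x * (x ^ 2 + 3 * x + 3) := by
        apply Nat.eq_of_mul_eq_mul_right hx0
        rw [h4]; try ring
      rw [this]; ring
    · apply Nat.eq_of_mul_eq_mul_right hx0
      rw [h5]; ring
    · apply Nat.eq_of_mul_eq_mul_right hx0
      rw [h6]; ring
    · apply Nat.eq_of_mul_eq_mul_right hx0
      rw [h7]; ring
  · intro d hd
    simp only [List.mem_cons, List.not_mem_nil, or_false] at hd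
    rcases hd with rfl | rfl | rfl | rfl | rfl | rfl | rfl | rfl
    · exact _root_.Cfsg.Agent.H664.Eight.one_mem
    · exact h1
    · refine ⟨φ2, ?_⟩
      rw [h2]; ring
    · exact ⟨φ3, rfl⟩
    · exact ⟨φ4, rfl⟩
    · exact ⟨φ5, rfl⟩
    · exact ⟨φ6, rfl⟩
    · exact ⟨φ7, rfl⟩

end Cfsg.Agent.H117.Eight.L3
end

-- part: H289/Eight/LinMain
section
/-!
# `PSL_n(q)`, `n ≥ 4`, has at least eight character degrees: conclusion (helper289, S4899)
-/

set_option autoImplicit false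
set_option linter.unusedSectionVars false

open Cfsg Matrix Module

namespace Cfsg.Agent.H289.Eight

open Cfsg.Agent.H53.HC Cfsg.Agent.Characters
open Cfsg.Agent.H113.PSL.Pass Cfsg.Agent.H113.PSL.Degrees Cfsg.Agent.H113.PSL.Facts Cfsg.Agent.H113.PSL.Main
  Cfsg.Agent.H113.PSL.Three Cfsg.Agent.H113.PSL.Para
open Cfsg.Agent.H664.Eight (Eight)

universe u

variable {F : Type u} [Field F] [Fintype F]

local notation "𝔮" => Fintype.card F

/-- the Steinberg character -/
theorem exS {p : ℕ} [Fact p.Prime] [CharP F p] {n : ℕ} (hn : 2 ≤ n) :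
    ∃ d ∈ charDegrees (ProjectiveSpecialLinearGroup (Fin n) F),
      d.factorization p = n * (n - 1) / 2 * (𝔮).factorization p := by
  have hfin : Finite (ProjectiveSpecialLinearGroup (Fin n) F) :=
    Finite.of_surjective _ (QuotientGroup.mk'_surjective _)
  have hp : p.Prime := Fact.out
  obtain ⟨k, -, hk⟩ := FiniteField.card F p
  have hpq : p ∣ 𝔮 := by rw [hk]; exact dvd_pow_self p k.ne_zero
  have hq := one_lt_q (F := F)
  obtain ⟨χ, hχ, h⟩ := Cfsg.Agent.S2544.result (F := F) p n hn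
  obtain ⟨P⟩ : Nonempty (Sylow p (ProjectiveSpecialLinearGroup (Fin n) F)) := inferInstance
  refine ⟨Nat.card P, ⟨⟨χ, hχ⟩, H670.PSing.charDegree_eq_of (h P).1⟩, ?_⟩
  rw [P.card_eq_multiplicity, hp.factorization_pow, Finsupp.single_eq_same]
  have h1 := H277.ClsPsl.card_psl (F := F) rfl hn
  refine val_eq (q := 𝔮) (s := Nat.gcd n (𝔮 - 1)) (m := ∏ i ∈ Finset.range (n - 1), (𝔮 ^ (i + 2) - 1)) (by omega) ?_ ?_ ?_
  · intro h2
    exact not_dvd_pow_sub (i := 1) hp hpq (by omega) le_rfl (by rw [pow_one]; exact h2.trans (Nat.gcd_dvd_right _ _))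
  · intro h2
    obtain ⟨i, -, hi⟩ := (Prime.dvd_finsetProd_iff hp.prime _).1 h2
    exact not_dvd_pow_sub hp hpq (by omega) (by omega) hi
  · rw [← h1, mul_comm]

/-- the eight degrees are different -/
theorem nodup {p q m A B C D T X S tA tB tC tD tX : ℕ} (hp : p.Prime) (hq : 2 ≤ q) (hpq : p ∣ q)
    (ht : ∀ {t : ℕ}, t ∣ Nat.gcd (m + 4) (q - 1) → ¬ p ∣ t ∧ 0 < t ∧ t ≤ q - 1)
    (htA : tA ∣ Nat.gcd (m + 4) (q - 1)) (htB : tB ∣ Nat.gcd (m + 4) (q - 1)) (htC : tC ∣ Nat.gcd (m + 4) (q - 1))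
    (htD : tD ∣ Nat.gcd (m + 4) (q - 1)) (htX : tX ∣ Nat.gcd (m + 4) (q - 1))
    (hA : A * tA = ∏ i ∈ Finset.range (m + 3), (q ^ (i + 1) - 1))
    (hB : B * tB * (q - 1) = (q ^ (m + 4) - 1) * ∏ i ∈ Finset.range (m + 2), (q ^ (i + 1) - 1))
    (hC : C * tC * ((q ^ 2 - 1) * (q - 1)) =
      (q ^ (m + 4) - 1) * (q ^ (m + 3) - 1) * ∏ i ∈ Finset.range (m + 1), (q ^ (i + 1) - 1))
    (hD : D * tD * ((q ^ 2 - 1) * (q - 1)) =
      (q ^ (m + 4) - 1) * (q ^ (m + 3) - 1) * ((∏ i ∈ Finset.range (m + 1), (q ^ (i + 1) - 1)) * q))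
    (hT : T * (q - 1) = q * (q ^ (m + 3) - 1))
    (hX : X * tX * ((q ^ 2 - 1) * (q - 1)) = q ^ 2 * ((q ^ (m + 4) - 1) * (q ^ (m + 1) - 1)))
    (hS : 6 * q.factorization p ≤ S.factorization p) : [1, A, B, C, T, D, X, S].Nodup := by
  have he : 0 < q.factorization p := hp.factorization_pos_of_dvd (by omega) hpq
  have nd : ∀ {i : ℕ}, 1 ≤ i → ¬ p ∣ q ^ i - 1 := fun hi => not_dvd_pow_sub hp hpq (by omega) hi
  have nd1 : ¬ p ∣ q - 1 := by have := nd (i := 1) le_rfl; rwa [pow_one] at this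
  have ndP : ∀ m : ℕ, ¬ p ∣ ∏ i ∈ Finset.range m, (q ^ (i + 1) - 1) := fun m => not_dvd_prod hp hpq (by omega)
  have posP : ∀ m : ℕ, 0 < ∏ i ∈ Finset.range m, (q ^ (i + 1) - 1) := fun m => Finset.prod_pos fun i _ => by
    have := Nat.one_lt_pow (show i + 1 ≠ 0 by omega) (show 1 < q by omega)
    omega
  have P3 : (∏ i ∈ Finset.range (m + 3), (q ^ (i + 1) - 1)) =
      (∏ i ∈ Finset.range (m + 2), (q ^ (i + 1) - 1)) * (q ^ (m + 3) - 1) := Finset.prod_range_succ _ _
  have P2 : (∏ i ∈ Finset.range (m + 2), (q ^ (i + 1) - 1)) =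
      (∏ i ∈ Finset.range (m + 1), (q ^ (i + 1) - 1)) * (q ^ (m + 2) - 1) := Finset.prod_range_succ _ _
  have hN : q ^ 4 - 1 ≤ q ^ (m + 4) - 1 := Nat.sub_le_sub_right (Nat.pow_le_pow_right (by omega) (by omega)) 1
  have hN0 : 0 < q ^ (m + 4) - 1 := by
    have := Nat.one_lt_pow (show m + 4 ≠ 0 by omega) (show 1 < q by omega)
    omega
  have hN' : q ^ 2 - 1 ≤ q ^ (m + 3) - 1 := Num.sq_sub_le (by omega) (by omega)
  have hN0' : 0 < q ^ (m + 3) - 1 := by
    have := Nat.one_lt_pow (show m + 3 ≠ 0 by omega) (show 1 < q by omega)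
    omega
  obtain ⟨nA, pA, lA⟩ := ht htA
  obtain ⟨nB, pB, lB⟩ := ht htB
  obtain ⟨nC, pC, lC⟩ := ht htC
  obtain ⟨nD, pD, lD⟩ := ht htD
  obtain ⟨nX, pX, lX⟩ := ht htX
  have ndd : ¬ p ∣ (q ^ 2 - 1) * (q - 1) := not_dvd_mul hp (nd (by norm_num)) nd1
  have ndN : ¬ p ∣ (q ^ (m + 4) - 1) * (q ^ (m + 3) - 1) := not_dvd_mul hp (nd (by omega)) (nd (by omega))
  have vA : A.factorization p = 0 * q.factorization p :=
    val_eq (by omega) nA (ndP (m + 3)) (by rw [pow_zero, one_mul]; exact hA)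
  have vB : B.factorization p = 0 * q.factorization p :=
    val_eq (by omega) (not_dvd_mul hp nB nd1) (not_dvd_mul hp (nd (i := m + 4) (by omega)) (ndP (m + 2)))
      (by rw [pow_zero, one_mul, ← mul_assoc]; exact hB)
  have vC : C.factorization p = 0 * q.factorization p :=
    val_eq (by omega) (not_dvd_mul hp nC ndd) (not_dvd_mul hp ndN (ndP (m + 1)))
      (by rw [pow_zero, one_mul, ← mul_assoc]; exact hC)
  have vD : D.factorization p = 1 * q.factorization p :=
    val_eq (by omega) (not_dvd_mul hp nD ndd) (not_dvd_mul hp ndN (ndP (m + 1)))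
      (by rw [pow_one, ← mul_assoc, hD]; ring)
  have vT : T.factorization p = 1 * q.factorization p :=
    val_eq (by omega) nd1 (nd (i := m + 3) (by omega)) (by rw [pow_one]; exact hT)
  have vX : X.factorization p = 2 * q.factorization p :=
    val_eq (by omega) (not_dvd_mul hp nX ndd) (not_dvd_mul hp (nd (i := m + 4) (by omega)) (nd (i := m + 1) (by omega)))
      (by rw [← mul_assoc]; exact hX)
  have v1 : (1 : ℕ).factorization p = 0 := by simp
  have hv : ∀ {x y : ℕ}, x.factorization p ≠ y.factorization p → x ≠ y := fun h h' => h (by rw [h'])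
  have q1 : 1 ≠ A := by
    intro h
    rw [← h] at hA
    exact Num.one_a (m := m + 3) hq (by omega) (posP (m + 2)) lA (by rw [hA, P3])
  have q2 : 1 ≠ B := by
    intro h
    rw [← h] at hB
    exact Num.one_b hq hN (posP (m + 2)) lB hB
  have q3 : 1 ≠ C := by
    intro h
    rw [← h] at hC
    exact Num.one_c hq hN hN' (posP (m + 1)) lC hC
  have q4 : A ≠ B := by
    intro h
    rw [← h] at hB
    exact Num.ab (m := m + 3) hq (by omega) (posP (m + 2)) pA lA (by rw [hA, P3]) hB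
  have q5 : A ≠ C := by
    intro h
    rw [← h] at hC
    exact Num.ac (m := m + 2) hq (by omega) (posP (m + 1)) pA lA pC lC (by rw [hA, P3, P2]) hC
  have q6 : B ≠ C := by
    intro h
    rw [← h] at hC
    exact Num.bc (m := m + 2) hq (by omega) (posP (m + 1)) hN0 pB lB (by rw [hB, P2]) hC
  have q7 : T ≠ D := by
    intro h
    rw [← h] at hD
    exact Num.tc hq hN hN0' (posP (m + 1)) lD hT hD
  simp only [List.nodup_cons, List.mem_cons, List.not_mem_nil, or_false, not_or, List.nodup_nil, and_true,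
    not_false_eq_true]
  exact ⟨⟨q1, q2, q3, hv (by omega), hv (by omega), hv (by omega), hv (by (clear * - hS he v1; omega))⟩,
    ⟨q4, q5, hv (by omega), hv (by omega), hv (by omega), hv (by omega)⟩,
    ⟨q6, hv (by omega), hv (by omega), hv (by omega), hv (by omega)⟩,
    ⟨hv (by omega), hv (by omega), hv (by omega), hv (by omega)⟩, ⟨q7, hv (by omega), hv (by omega)⟩,
    ⟨hv (by omega), hv (by omega)⟩, hv (by (clear * - hS he vX; omega))⟩

/-- **`PSL_n(q)`, `n ≥ 4`, has at least eight character degrees.** -/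
theorem eight_ln {n : ℕ} (hn : 4 ≤ n) : Eight (ProjectiveSpecialLinearGroup (Fin n) F) := by
  classical
  have hfin : Finite (ProjectiveSpecialLinearGroup (Fin n) F) :=
    Finite.of_surjective _ (QuotientGroup.mk'_surjective _)
  obtain ⟨p, hchar⟩ := CharP.exists F
  have hp : p.Prime := CharP.char_is_prime F p
  have hpF : Fact p.Prime := ⟨hp⟩
  obtain ⟨k, -, hk⟩ := FiniteField.card F p
  have hpq : p ∣ 𝔮 := by rw [hk]; exact dvd_pow_self p k.ne_zero
  have hq := one_lt_q (F := F)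
  -- the characters
  obtain ⟨S, hS, vS⟩ := exS (F := F) (p := p) (n := n) (by omega)
  obtain ⟨φT, hT⟩ := t3 (F := F) (n := n) (by omega)
  obtain ⟨φX, tX, htX, hX⟩ := exX (F := F) hn
  obtain ⟨φA, tA, htA, hA⟩ := exists_cusp (F := F) (n := n) (by omega) (hasCusp F n (by omega))
  obtain ⟨m, rfl⟩ : ∃ m, n = m + 4 := ⟨n - 4, by omega⟩
  obtain ⟨φB, tB, htB, hB⟩ := exists_hyper (F := F) (m := m + 3) (by omega) (hasCusp F (m + 3) (by omega))
  obtain ⟨φC, tC, htC, hC⟩ := exC (F := F) hn (Core.isIrr_one (G := GL (Fin 2) F)) (d := 1) (by simp) (fun c => rfl)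
    (fun Ψ hΨ _ => not_isCusp_one hΨ)
  obtain ⟨φD, tD, htD, hD⟩ := exC (F := F) hn (isIrr_st (F := F) 1) (d := 𝔮) (st_one _) (fun c => by
      rw [st_scalar, st_one]; simp) (fun Ψ _ hd h => by
      rw [h, st_one] at hd
      have : 𝔮 = 𝔮 - 1 := by exact_mod_cast hd
      omega)
  have e1 : m + 4 - 1 = m + 3 := by omega
  have e2 : m + 4 - 3 = m + 1 := by omega
  have e3 : m + 3 - 1 = m + 2 := by (clear * - hn e1 e2; omega)
  rw [e1] at hA hT
  rw [e1, e2] at hC hD
  rw [e2] at hX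
  rw [e3] at hB
  rw [mul_one] at hC
  have hT' : charDegree (φT : ProjectiveSpecialLinearGroup (Fin (m + 4)) F → ℂ) * (𝔮 - 1) = 𝔮 * (𝔮 ^ (m + 3) - 1) := by
    rw [hT, mul_assoc, geom]
  have hexp : 6 ≤ (m + 4) * (m + 4 - 1) / 2 := by
    rw [e1, Nat.le_div_iff_mul_le (by norm_num)]
    nlinarith only []
  have vS' : 6 * (𝔮).factorization p ≤ S.factorization p := by
    rw [vS]
    exact Nat.mul_le_mul_right _ hexp
  refine H664.Eight.eight_of_list _ (nodup hp hq hpq (fun {t} ht => ?_) htA htB htC htD htX hA hB hC hD hT' hX vS')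
    (by simp only [_root_.List.length_cons, _root_.List.length_nil, _root_.zero_add, _root_.Nat.reduceAdd, _root_.Std.le_refl]) ?_
  · have h1 := ht.trans (Nat.gcd_dvd_right _ _)
    refine ⟨fun h => ?_, Nat.pos_of_dvd_of_pos h1 (by omega), Nat.le_of_dvd (by omega) h1⟩
    exact not_dvd_pow_sub (i := 1) hp hpq (by omega) le_rfl (by rw [pow_one]; exact h.trans h1)
  · intro d hd
    simp only [List.mem_cons, List.not_mem_nil, or_false] at hd
    rcases hd with rfl | rfl | rfl | rfl | rfl | rfl | rfl | rfl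
    · exact H664.Eight.one_mem
    · exact ⟨φA, rfl⟩
    · exact ⟨φB, rfl⟩
    · exact ⟨φC, rfl⟩
    · exact ⟨φT, rfl⟩
    · exact ⟨φD, rfl⟩
    · exact ⟨φX, rfl⟩
    · exact hS

end Cfsg.Agent.H289.Eight
end

-- part: H561/Eight/SmallU
section
/-!
# At least eight character degrees: `PSU_n(2)`, `4 ≤ n ≤ 7`, and `PSp_4(3)` (S4899, helper561)

`eight_u42`, `eight_sp43`, `eight_u52`, `eight_u62`, `eight_u72`: the rank 3 characters, the Steinberg character, the
Harish-Chandra induced cuspidal characters, and the principal `p`-block for `p = 5, 11, 11, 43`.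
-/

set_option autoImplicit false
set_option linter.unusedSectionVars false

namespace Cfsg.Agent.H561.Eight

open Cfsg Subgroup Cfsg.Agent.H664.Eight Cfsg.Agent.SmallSimple.DegreeData Cfsg.Agent.H424
open Cfsg.Agent.H113.PSU.Levi Cfsg.Agent.H113.PSU.Facts Cfsg.Agent.H477.HC

universe u

section Tools

variable {G : Type u} [Group G] [Finite G]

/-- the Steinberg degree -/
theorem st_mem {p : ℕ} [Fact p.Prime] (h : H167.StChar.HasSt p G) :
    p ^ (Nat.card G).factorization p ∈ charDegrees G := by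
  obtain ⟨χ, hχ, h1, -⟩ := h
  exact H677.Tri42.deg_of_one hχ h1

theorem psu_simple {F : Type} [Field F] [Fintype F] (hF : Fintype.card F = 2 ^ 2) {n : ℕ} (hn : 4 ≤ n) :
    IsSimpleGroup (PSU n F 2) :=
  S0283.result hF n (by omega) (by rintro ⟨h, -⟩; omega)

theorem charTwo {F : Type} [Field F] [Fintype F] (hF : Fintype.card F = 2 ^ 2) : CharP F 2 := by
  obtain ⟨p, hp⟩ := CharP.exists F
  have hpr : p.Prime := (CharP.char_is_prime_or_zero F p).resolve_right (CharP.char_ne_zero_of_finite F p)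
  have : Fact p.Prime := ⟨hpr⟩
  obtain ⟨s, -, hs⟩ := FiniteField.card F p
  rw [hF] at hs
  have h1 : p ∣ 2 ^ 2 := by rw [hs]; exact dvd_pow_self _ s.2.ne'
  have h2 : p = 2 := (Nat.prime_dvd_prime_iff_eq hpr Nat.prime_two).1 (hpr.dvd_of_dvd_pow h1)
  rwa [h2] at hp

theorem lie_psu {F : Type} [Field F] [Fintype F] (hF : Fintype.card F = 2 ^ 2) {n : ℕ} (hn : 4 ≤ n) :
    IsLieTypeChar 2 (PSU n F 2) := by
  have := charTwo hF
  refine Or.inr (Or.inr (Or.inl ⟨F, inferInstance, inferInstance, this, n, 2, hF, by omega, ?_, ⟨MulEquiv.refl _⟩⟩))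
  rintro ⟨h, -⟩
  omega

theorem st_psu {F : Type} [Field F] [Fintype F] (hF : Fintype.card F = 2 ^ 2) {n N k m : ℕ} (hn : 4 ≤ n)
    (hN : Nat.card (PSU n F 2) = N) (h : N = 2 ^ k * m) (hm : ¬ 2 ∣ m) : 2 ^ k ∈ charDegrees (PSU n F 2) := by
  have := psu_simple hF hn
  have h2 : Fact (Nat.Prime 2) := ⟨Nat.prime_two⟩
  have h1 := st_mem (H167.StChar.hasSt_of_lie Nat.prime_two (lie_psu hF hn))
  have h3 : m ≠ 0 := by rintro rfl; exact hm (dvd_zero _)
  rwa [hN, h, Nat.factorization_mul (by positivity) h3, Nat.Prime.factorization_pow Nat.prime_two,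
    Finsupp.add_apply, Finsupp.single_eq_same, Nat.factorization_eq_zero_of_not_dvd hm, add_zero] at h1

/-- the Harish-Chandra induced cuspidal characters -/
theorem hc_deg {F : Type} [Field F] [Fintype F] (hF : Fintype.card F = 2 ^ 2) (hq : Nat.card F = 2 ^ 2) {k n' : ℕ}
    (hk : 2 ≤ k) : ∃ d ∈ charDegrees (PSU (k + (k + n')) F 2), ∃ t, t ∣ 3 ∧
      d * t = dg (CForm.hermF F hq (k + (k + n'))) k := by
  obtain ⟨c, hc⟩ := hasCusU F 2 hq k hk
  obtain ⟨χ, hχ, hχ1, hχz⟩ := gu_char (n' := n') hq hc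
  obtain ⟨η, e, hη, he, he0, hed, hdt⟩ := H113.PSU.Descent.exists_psu hF (by omega) hχ hχ1 hχz
  exact ⟨e, H677.Tri42.deg_of_one hη he, _, hdt, Nat.mul_div_cancel' hed⟩

/-- the divisibility and the bound for the degree -/
theorem hc_dvd {F : Type} [Field F] [Fintype F] (hF : Fintype.card F = 2 ^ 2) (hq : Nat.card F = 2 ^ 2) {k n' M : ℕ}
    (hk : 2 ≤ k) (hM : Odd M) (h : M * (2 ^ (2 * k) - 1) ∣ ∏ i ∈ Finset.Ico n' (k + (k + n')), uu 2 (i + 1)) :
    M ∣ dg (CForm.hermF F hq (k + (k + n'))) k := by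
  have := charTwo hF
  have h2 : Fact (Nat.Prime 2) := ⟨Nat.prime_two⟩
  obtain ⟨e, he⟩ := dvd_dg hq (p := 2) (k := k) (n' := n') (by omega)
  have h1 : 1 < 2 ^ (2 * k) := Nat.one_lt_pow (by omega) (by omega)
  have h3 := h.trans he
  rw [← mul_assoc] at h3
  have h4 := Nat.dvd_of_mul_dvd_mul_right (by omega) h3
  exact (Nat.Coprime.pow_right e (Nat.coprime_two_right.2 hM)).dvd_of_dvd_mul_left h4

theorem dg_two_le {F : Type} [Field F] [Fintype F] (hq : Nat.card F = 2 ^ 2) (n : ℕ)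
    {N : ℕ} (hN : Nat.card {v : Fin n → F // hermForm n F 2 v v = 0} = N) :
    60 * dg (CForm.hermF F hq n) 2 ≤ N * N := by
  classical
  have h1 := H362.Dl.card_tup (CForm.hermF F hq n) 2
  have h2 : Nat.card (H362.Dl.Tup (CForm.hermF F hq n) 2) ≤ N * N := by
    rw [← hN, ← Nat.card_prod]
    refine Nat.card_le_card_of_injective (fun s => (⟨s.1 0, s.2.2.1 0⟩, ⟨s.1 1, s.2.2.1 1⟩)) fun s s' h => ?_
    apply Subtype.ext
    funext i
    have h3 := congrArg Prod.fst h
    have h4 := congrArg Prod.snd h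
    have h3' : s.1 0 = s'.1 0 := congrArg Subtype.val h3
    have h4' : s.1 1 = s'.1 1 := congrArg Subtype.val h4
    fin_cases i
    · exact h3'
    · exact h4'
  rw [h1, hq] at h2
  norm_num only [Finset.prod_range_succ, _root_.Nat.card_eq_fintype_card, _root_.Fintype.card_ofFinset] at h2
  unfold dg
  rw [hq]
  norm_num only [_root_.Nat.card_eq_fintype_card, _root_.Fintype.card_ofFinset, _root_.Nat.Ico_succ_singleton, _root_.Finset.prod_singleton, _root_.ge_iff_le]
  omega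

theorem zero_not_mem : ¬ 0 ∈ charDegrees G := by
  rintro ⟨χ, hχ⟩
  exact (Blocks.Basic.charDegree_pos χ.2).ne' hχ

/-- a new member of a list of degrees -/
theorem exists_new {l : List ℤ} {a b : ℤ} (hab : a ≠ b) (ha : a ∈ l) (hb : b ∈ l) :
    ∃ l' : List ℤ, l.Perm (a :: b :: l') := by
  have h1 := List.perm_cons_erase ha
  have h2 : b ∈ l.erase a := (List.mem_erase_of_ne hab.symm).2 hb
  exact ⟨(l.erase a).erase b, h1.trans (List.Perm.cons a (List.perm_cons_erase h2))⟩

end Tools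

section Rows

variable {F : Type} [Field F] [Fintype F]

/-! ### `PSU_5(2)` -/

/-- the degrees which may occur, up to sign, in the principal `11`-block of `PSU_5(2)` -/
def cand5 : List ℕ := (List.range 3700).filter fun d => decide (3 ≤ d) && 13685760 % d == 0 && (d % 11 == 1 || d % 11 == 10)

/-- the signed degree -/
def sg5 (d : ℕ) : ℤ := if d % 11 = 1 then d else -d

/-- the search for the remaining members of the principal `11`-block of `PSU_5(2)` -/
def ok5 : Bool := cand5.all fun a => cand5.all fun b =>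
  !(decide ((905 + sg5 a + sg5 b).natAbs ≠ 0) && 13685760 % (905 + sg5 a + sg5 b).natAbs == 0 &&
    decide (a ^ 2 + b ^ 2 + 2 * (905 + sg5 a + sg5 b).natAbs ^ 2 ≤ 12622783)) ||
  (decide (a ≠ b) && !([120, 1024].contains a) && !([120, 1024].contains b))

theorem ok5_true : ok5 = true := by decide +kernel

theorem card_u5 (hF : Fintype.card F = 2 ^ 2) : Nat.card (PSU 5 F 2) = 13685760 := by
  have h := S0280.result hF 5 (by norm_num)
  rw [show Nat.gcd 5 (2 + 1) = 1 by decide] at h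
  simp only [Finset.prod_range_succ, Finset.prod_range_zero] at h
  norm_num only [Nat.even_iff, _root_.one_mul, _root_.ite_true, _root_.ite_false] at h
  omega

theorem arith5 {x y : ℤ} {a b f : ℕ} (ha : a = x.natAbs) (hb : b = y.natAbs) (hf : f = (905 + x + y).natAbs)
    (x1 : x % 11 = 1) (y1 : y % 11 = 1) (f1 : (905 + x + y) % 11 = 5) (x2 : a ∣ 13685760) (y2 : b ∣ 13685760)
    (f2 : f ∣ 13685760) (x4 : 3 ≤ a) (y4 : 3 ≤ b) (hsq : a ^ 2 + b ^ 2 + 2 * f ^ 2 ≤ 12622783) :
    a ≠ b ∧ a ≠ 120 ∧ a ≠ 1024 ∧ b ≠ 120 ∧ b ≠ 1024 := by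
  have x5 : a % 11 = 1 ∨ a % 11 = 10 := by (clear * - ha y1 f1; omega)
  have y5 : b % 11 = 1 ∨ b % 11 = 10 := by (clear * - hb y1; omega)
  have x6 : sg5 a = x := by unfold sg5; split_ifs <;> (solve | lia | omega)
  have y6 : sg5 b = y := by unfold sg5; split_ifs <;> omega
  have f6 : f % 11 = 5 ∨ f % 11 = 6 := by (clear * - hf f1; (solve | lia | omega))
  have hab : ∀ c : ℕ, 3 ≤ c → c ∣ 13685760 → (c % 11 = 1 ∨ c % 11 = 10) → c ^ 2 ≤ 12622783 → c ∈ cand5 := by
    intro c c1 c2 c3 c4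
    have c5 : c < 3700 := by nlinarith only [c4]
    unfold cand5
    rw [List.mem_filter, List.mem_range]
    refine ⟨c5, ?_⟩
    simp only [Bool.and_eq_true, Bool.or_eq_true, decide_eq_true_eq, beq_iff_eq]
    exact ⟨⟨c1, Nat.mod_eq_zero_of_dvd c2⟩, c3⟩
  have ka := hab a x4 x2 x5 (by linarith only [hsq, _root_.sq_nonneg (↑b : ℤ), _root_.sq_nonneg (↑f : ℤ)])
  have kb := hab b y4 y2 y5 (by linarith only [hsq, _root_.sq_nonneg (↑a : ℤ), _root_.sq_nonneg (↑f : ℤ)])
  have hok := ok5_true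
  unfold ok5 at hok
  rw [List.all_eq_true] at hok
  have hok := hok a ka
  rw [List.all_eq_true] at hok
  have hok := hok b kb
  rw [x6, y6, ← hf] at hok
  have hf0 : f ≠ 0 := by omega
  rw [Bool.or_eq_true] at hok
  rcases hok with h | h
  · exfalso
    rw [Bool.not_eq_true', Bool.and_eq_false_iff, Bool.and_eq_false_iff, decide_eq_false_iff_not,
      decide_eq_false_iff_not, beq_eq_false_iff_ne] at h
    rcases h with (h | h) | h
    · exact h hf0
    · exact h (Nat.mod_eq_zero_of_dvd f2)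
    · exact h hsq
  · rw [Bool.and_eq_true, Bool.and_eq_true, decide_eq_true_eq, Bool.not_eq_true', Bool.not_eq_true',
      List.contains_eq_mem, List.contains_eq_mem, decide_eq_false_iff_not, decide_eq_false_iff_not] at h
    simp only [List.mem_cons, List.not_mem_nil, or_false, not_or] at h
    obtain ⟨⟨k1, k2, k3⟩, k4, k5⟩ := h
    exact ⟨k1, k2, k3, k4, k5⟩

theorem distinct5 {a b f d w : ℕ} (ha : a % 11 = 1 ∨ a % 11 = 10) (hb : b % 11 = 1 ∨ b % 11 = 10)
    (hf : f % 11 = 5 ∨ f % 11 = 6) (hw : 3 * d = 891 * w) (hd0 : d ≠ 0) (ha3 : 3 ≤ a) (hb3 : 3 ≤ b)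
    (h : a ≠ b ∧ a ≠ 120 ∧ a ≠ 1024 ∧ b ≠ 120 ∧ b ≠ 1024) : [1, 44, 120, 1024, d, a, b, f].Nodup := by
  obtain ⟨k1, k2, k3, k4, k5⟩ := h
  simp only [List.nodup_cons, List.mem_cons, List.not_mem_nil, or_false, not_or, List.nodup_nil, and_true,
    not_false_eq_true]
  refine ⟨⟨?_, ?_, ?_, ?_, ?_, ?_, ?_⟩, ⟨?_, ?_, ?_, ?_, ?_, ?_⟩, ⟨?_, ?_, ?_, ?_, ?_⟩, ⟨?_, ?_, ?_, ?_⟩, ⟨?_, ?_, ?_⟩,
    ⟨?_, ?_⟩, ?_⟩ <;> (clear * - hw ha3 hb3 hf ha hb k2 k3 k4 k5 k1; omega)

theorem lines5 (hF : Fintype.card F = 2 ^ 2) : ∃ d ∈ charDegrees (PSU 5 F 2), ∃ w, 3 * d = 891 * w := by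
  have hq : Nat.card F = 2 ^ 2 := by rw [Nat.card_eq_fintype_card, hF]
  obtain ⟨d, hd, t, ht3, hdt⟩ := hc_deg hF hq (k := 2) (n' := 1) le_rfl
  have h891 := hc_dvd hF hq (k := 2) (n' := 1) (M := 891) le_rfl (by decide) (by
    rw [Finset.prod_Ico_eq_prod_range]
    norm_num only [Finset.prod_range_succ, uu, Nat.even_iff, _root_.Cfsg.Agent.H113.PSU.Levi.uu, _root_.Nat.even_iff, _root_.Finset.prod_range_succ, _root_.Finset.range_one, _root_.Finset.prod_singleton, _root_.ite_true, _root_.ite_false, _root_.dvd_refl])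
  obtain ⟨w, hw⟩ : 891 ∣ 3 * d := h891.trans (by rw [← hdt, mul_comm 3]; exact mul_dvd_mul_left d ht3)
  exact ⟨d, hd, w, hw⟩

theorem rank3_5 (hF : Fintype.card F = 2 ^ 2) : 44 ∈ charDegrees (PSU 5 F 2) ∧ 120 ∈ charDegrees (PSU 5 F 2) := by
  obtain ⟨φF, hφF⟩ := exF (n := 5) hF (by norm_num)
  obtain ⟨φG, hφG⟩ := exG (n := 5) hF (by norm_num)
  norm_num only [uu, Nat.even_iff, _root_.Cfsg.Agent.H113.PSU.Levi.uu, _root_.ite_false, _root_.ite_true] at hφF hφG
  exact ⟨⟨φF, by omega⟩, ⟨φG, by omega⟩⟩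

theorem block5 (hF : Fintype.card F = 2 ^ 2) (h120 : 120 ∈ charDegrees (PSU 5 F 2))
    (hst : 1024 ∈ charDegrees (PSU 5 F 2)) : ∃ a ∈ charDegrees (PSU 5 F 2), ∃ b ∈ charDegrees (PSU 5 F 2),
    ∃ f ∈ charDegrees (PSU 5 F 2), (a % 11 = 1 ∨ a % 11 = 10) ∧ (b % 11 = 1 ∨ b % 11 = 10) ∧ (f % 11 = 5 ∨ f % 11 = 6) ∧
      3 ≤ a ∧ 3 ≤ b ∧ (a ≠ b ∧ a ≠ 120 ∧ a ≠ 1024 ∧ b ≠ 120 ∧ b ≠ 1024) := by
  have hS := psu_simple hF (n := 5) (by norm_num)
  have hc := card_u5 hF
  have h11 : Fact (Nat.Prime 11) := ⟨by norm_num⟩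
  obtain ⟨M, P, hM, hP, hC, ⟨D⟩⟩ := exists_blk (G := PSU 5 F 2) (p := 11) (by norm_num)
    (H809.SelfCent.psu_irred hF (by norm_num) (by decide) (by norm_num) (by norm_num) (by norm_num)
      (by norm_num) (by norm_num) (k := 341) (by norm_num) (by norm_num) (by decide) (by norm_num) (by norm_num))
    (by rw [hc]; norm_num) (e := 5) (t := 2) (by norm_num) (by rw [hc])
  have m1 : (-120 : ℤ) ∈ D.degs := mem_degs hM D hP hC rfl (d := -120) h120 (by decide) (by decide) (by decide)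
    (by decide) (by decide)
  have m2 : (1024 : ℤ) ∈ D.degs := mem_degs hM D hP hC rfl (d := 1024) hst (by decide) (by decide) (by decide)
    (by decide) (by decide)
  obtain ⟨l', hl'⟩ := exists_new (by norm_num) m1 m2
  have hlen := D.length_degs
  rw [hl'.length_eq, List.length_cons, List.length_cons] at hlen
  obtain ⟨x, y, rfl⟩ := List.length_eq_two.1 (by omega : l'.length = 2)
  have hsum := hl'.sum_eq
  have hsq := D.sum_sq_le
  rw [(hl'.map (· ^ 2)).sum_eq, hc] at hsq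
  have hx : x ∈ D.degs := hl'.mem_iff.2 (by simp)
  have hy : y ∈ D.degs := hl'.mem_iff.2 (by simp)
  simp only [List.map_cons, List.map_nil, List.sum_cons, List.sum_nil] at hsq hsum
  have hN : ¬ (Nat.card (PSU 5 F 2)).Prime := by rw [hc]; norm_num
  have h2N : 2 ∣ Nat.card (PSU 5 F 2) := by rw [hc]; norm_num
  obtain ⟨x1, x2, x3⟩ := D.degs_spec hP x hx
  obtain ⟨y1, y2, y3⟩ := D.degs_spec hP y hy
  have x4 := BlockTools.degs_three_le hN h2N D x hx
  have y4 := BlockTools.degs_three_le hN h2N D y hy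
  have f1 := D.dexc_modEq hP rfl
  have f2 := D.f_dvd rfl
  have f3 := BlockTools.dexc_mem D rfl
  have f4 := D.natAbs_dexc
  rw [← D.dexc_eq rfl] at f1 f4
  have f5 : 1 + D.degs.sum = 905 + x + y := by rw [hsum]; ring
  rw [f5] at f1 f3 f4
  rw [hc] at x2 y2 f2
  have hxm := BlockTools.degs_mem D hx
  have hym := BlockTools.degs_mem D hy
  rw [← f4] at hsq f2
  obtain ⟨a, ha⟩ : ∃ a, a = x.natAbs := ⟨_, rfl⟩
  obtain ⟨b, hb⟩ : ∃ b, b = y.natAbs := ⟨_, rfl⟩
  obtain ⟨f, hf⟩ : ∃ f, f = (905 + x + y).natAbs := ⟨_, rfl⟩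
  rw [← ha] at hxm x2 x4
  rw [← hb] at hym y2 y4
  rw [← hf] at f2 f3 hsq
  have e1 : (x : ℤ) ^ 2 = (a : ℤ) ^ 2 := by rw [ha, Int.natAbs_pow_two]
  have e2 : (y : ℤ) ^ 2 = (b : ℤ) ^ 2 := by rw [hb, Int.natAbs_pow_two]
  rw [e1, e2] at hsq
  have hsq' : a ^ 2 + b ^ 2 + 2 * f ^ 2 ≤ 12622783 := by
    zify
    push_cast at hsq
    linarith only [hsq]
  unfold Int.ModEq at x1 y1 f1
  norm_num at x1 y1 f1
  refine ⟨a, hxm, b, hym, f, f3, by (clear * - ha y1 f1; omega), by (clear * - hb y1; omega), by (clear * - hf f1; omega), x4, y4,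
    arith5 ha hb hf x1 y1 f1 x2 y2 f2 x4 y4 hsq'⟩

theorem eight_u52 (hF : Fintype.card F = 2 ^ 2) : Eight (PSU 5 F 2) := by
  have hst : 2 ^ 10 ∈ charDegrees (PSU 5 F 2) :=
    st_psu hF (by norm_num) (card_u5 hF) (k := 10) (m := 13365) (by norm_num) (by norm_num)
  norm_num at hst
  obtain ⟨h44, h120⟩ := rank3_5 hF
  obtain ⟨d, hd, w, hw⟩ := lines5 hF
  obtain ⟨a, ha, b, hb, f, hf, a1, b1, f1, a3, b3, h⟩ := block5 hF h120 hst
  have hS := psu_simple hF (n := 5) (by norm_num)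
  refine eight_of_list [1, 44, 120, 1024, d, a, b, f] (distinct5 a1 b1 f1 hw ?_ a3 b3 h) le_rfl ?_
  · rintro rfl
    exact zero_not_mem hd
  · simp only [List.mem_cons, List.not_mem_nil, or_false]
    rintro c (rfl | rfl | rfl | rfl | rfl | rfl | rfl | rfl)
    · exact _root_.Cfsg.Agent.H664.Eight.one_mem
    · exact h44
    · exact h120
    · exact hst
    · exact hd
    · exact ha
    · exact hb
    · exact hf

/-! ### `PSU_6(2)` -/

theorem card_u6 (hF : Fintype.card F = 2 ^ 2) : Nat.card (PSU 6 F 2) = 9196830720 := by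
  have h := S0280.result hF 6 (by norm_num)
  rw [show Nat.gcd 6 (2 + 1) = 3 by decide] at h
  simp only [Finset.prod_range_succ, Finset.prod_range_zero] at h
  norm_num only [Nat.even_iff, _root_.ite_true, _root_.one_mul, _root_.ite_false] at h
  omega

theorem rank3_6 (hF : Fintype.card F = 2 ^ 2) : 252 ∈ charDegrees (PSU 6 F 2) ∧ 440 ∈ charDegrees (PSU 6 F 2) := by
  obtain ⟨φF, hφF⟩ := exF (n := 6) hF (by norm_num)
  obtain ⟨φG, hφG⟩ := exG (n := 6) hF (by norm_num)
  norm_num only [uu, Nat.even_iff, _root_.Cfsg.Agent.H113.PSU.Levi.uu, _root_.ite_true, _root_.ite_false] at hφF hφG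
  exact ⟨⟨φF, by omega⟩, ⟨φG, by omega⟩⟩

/-- the two Harish-Chandra induced cuspidal characters -/
theorem lines6 (hF : Fintype.card F = 2 ^ 2) : ∃ d ∈ charDegrees (PSU 6 F 2), ∃ d' ∈ charDegrees (PSU 6 F 2),
    6237 ∣ d ∧ 13365 ∣ d' ∧ d ≠ d' ∧ d ≠ 0 ∧ d' ≠ 0 := by
  have hq : Nat.card F = 2 ^ 2 := by rw [Nat.card_eq_fintype_card, hF]
  have hS := psu_simple hF (n := 6) (by norm_num)
  obtain ⟨d, hd, t, ht3, hdt⟩ := hc_deg hF hq (k := 2) (n' := 2) le_rfl
  have h1 := hc_dvd hF hq (k := 2) (n' := 2) (M := 18711) le_rfl (by decide) (by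
    rw [Finset.prod_Ico_eq_prod_range]
    norm_num only [Finset.prod_range_succ, uu, Nat.even_iff, _root_.Cfsg.Agent.H113.PSU.Levi.uu, _root_.Nat.even_iff, _root_.Finset.prod_range_succ, _root_.Finset.range_one, _root_.Finset.prod_singleton, _root_.ite_false, _root_.ite_true, _root_.dvd_refl])
  obtain ⟨w, hw⟩ : 18711 ∣ 3 * d := h1.trans (by rw [← hdt, mul_comm 3]; exact mul_dvd_mul_left d ht3)
  obtain ⟨d', hd', t', ht3', hdt'⟩ := hc_deg hF hq (k := 3) (n' := 0) (by norm_num)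
  have h1' := hc_dvd hF hq (k := 3) (n' := 0) (M := 40095) (by norm_num) (by decide) (by
    rw [Finset.prod_Ico_eq_prod_range]
    norm_num only [Finset.prod_range_succ, uu, Nat.even_iff, _root_.Cfsg.Agent.H113.PSU.Levi.uu, _root_.zero_add, _root_.Nat.even_iff, _root_.Finset.prod_range_succ, _root_.Finset.range_one, _root_.Finset.prod_singleton, _root_.ite_false, _root_.ite_true, _root_.dvd_refl])
  obtain ⟨w', hw'⟩ : 40095 ∣ 3 * d' := h1'.trans (by rw [← hdt', mul_comm 3]; exact mul_dvd_mul_left d' ht3')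
  have hb := dg_two_le hq 6 (S0285.result hF 6)
  norm_num [Nat.even_iff] at hb
  have hd0 : d ≠ 0 := by rintro rfl; exact zero_not_mem hd
  have hd0' : d' ≠ 0 := by rintro rfl; exact zero_not_mem hd'
  have ht0 : 0 < t := Nat.pos_of_dvd_of_pos ht3 (by norm_num)
  have h2 : 6237 ∣ d := ⟨w, by omega⟩
  have h3 : 13365 ∣ d' := ⟨w', by omega⟩
  refine ⟨d, hd, d', hd', h2, h3, ?_, hd0, hd0'⟩
  intro h
  have h4 : d ≤ dg (CForm.hermF F hq 6) 2 := hdt.symm ▸ Nat.le_mul_of_pos_right d ht0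
  have h5 : Nat.lcm 6237 13365 ∣ d := Nat.lcm_dvd h2 (h ▸ h3)
  have h6 : Nat.lcm 6237 13365 = 93555 := by norm_num
  rw [h6] at h5
  have h7 := Nat.le_of_dvd (Nat.pos_of_ne_zero hd0) h5
  (clear * - hb h4 h7; omega)

theorem block6 (hF : Fintype.card F = 2 ^ 2) (h252 : 252 ∈ charDegrees (PSU 6 F 2))
    (hst : 32768 ∈ charDegrees (PSU 6 F 2)) : ∃ a ∈ charDegrees (PSU 6 F 2),
    ∃ f ∈ charDegrees (PSU 6 F 2), (a % 11 = 1 ∨ a % 11 = 10) ∧ (f % 11 = 5 ∨ f % 11 = 6) ∧
      3 ≤ a ∧ a ≠ 252 ∧ a ≠ 32768 := by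
  have hS := psu_simple hF (n := 6) (by norm_num)
  have hc := card_u6 hF
  have h11 : Fact (Nat.Prime 11) := ⟨by norm_num⟩
  obtain ⟨M, P, hM, hP, hC, ⟨D⟩⟩ := exists_blk (G := PSU 6 F 2) (p := 11) (by norm_num)
    (H809.SelfCent.psu_selfcent 6 2 11 (by decide) F hF)
    (by rw [hc]; norm_num) (e := 5) (t := 2) (by norm_num) (by rw [hc])
  have m1 : (-252 : ℤ) ∈ D.degs := mem_degs hM D hP hC rfl (d := -252) h252 (by decide) (by decide) (by decide)
    (by decide) (by decide)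
  have m2 : (-32768 : ℤ) ∈ D.degs := mem_degs hM D hP hC rfl (d := -32768) hst (by decide) (by decide) (by decide)
    (by decide) (by decide)
  obtain ⟨l', hl'⟩ := exists_new (by norm_num) m1 m2
  have hlen := D.length_degs
  rw [hl'.length_eq, List.length_cons, List.length_cons] at hlen
  obtain ⟨x, y, rfl⟩ := List.length_eq_two.1 (by omega : l'.length = 2)
  have hsum := hl'.sum_eq
  simp only [List.sum_cons, List.sum_nil] at hsum
  have hN : ¬ (Nat.card (PSU 6 F 2)).Prime := by rw [hc]; norm_num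
  have h2N : 2 ∣ Nat.card (PSU 6 F 2) := by rw [hc]; norm_num
  have f1 := D.dexc_modEq hP rfl
  have f2 := D.f_dvd rfl
  have f3 := BlockTools.dexc_mem D rfl
  have f4 := D.natAbs_dexc
  rw [← D.dexc_eq rfl] at f1 f4
  have f5 : 1 + D.degs.sum = -33019 + x + y := by rw [hsum]; ring
  rw [f5] at f1 f3 f4
  rw [hc] at f2
  rw [← f4] at f2
  unfold Int.ModEq at f1
  have hnew : ∃ z ∈ D.degs, z ≠ -252 ∧ z ≠ -32768 := by
    have hx : x ∈ D.degs := hl'.mem_iff.2 (by simp)
    have hy : y ∈ D.degs := hl'.mem_iff.2 (by simp)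
    by_contra hno
    push Not at hno
    have hx' : x = -252 ∨ x = -32768 := or_iff_not_imp_left.2 (hno x hx)
    have hy' : y = -252 ∨ y = -32768 := or_iff_not_imp_left.2 (hno y hy)
    rcases hx' with rfl | rfl <;> rcases hy' with rfl | rfl <;> norm_num at f2
  obtain ⟨z, hz, z1, z2⟩ := hnew
  obtain ⟨z3, z4, z5⟩ := D.degs_spec hP z hz
  have z6 := BlockTools.degs_three_le hN h2N D z hz
  unfold Int.ModEq at z3
  refine ⟨z.natAbs, BlockTools.degs_mem D hz, _, f3, ?_, ?_, z6, ?_, ?_⟩ <;> (clear * - z3 f1 z1 z2; omega)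

theorem distinct6 {a f d d' : ℕ} (ha : a % 11 = 1 ∨ a % 11 = 10) (hf : f % 11 = 5 ∨ f % 11 = 6) (h1 : 6237 ∣ d)
    (h2 : 13365 ∣ d') (h3 : d ≠ d') (hd0 : d ≠ 0) (hd0' : d' ≠ 0) (ha3 : 3 ≤ a) (h4 : a ≠ 252) (h5 : a ≠ 32768) :
    [1, 252, 440, 32768, d, d', a, f].Nodup := by
  simp only [List.nodup_cons, List.mem_cons, List.not_mem_nil, or_false, not_or, List.nodup_nil, and_true,
    not_false_eq_true]
  refine ⟨⟨?_, ?_, ?_, ?_, ?_, ?_, ?_⟩, ⟨?_, ?_, ?_, ?_, ?_, ?_⟩, ⟨?_, ?_, ?_, ?_, ?_⟩, ⟨?_, ?_, ?_, ?_⟩, ⟨?_, ?_, ?_⟩,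
    ⟨?_, ?_⟩, ?_⟩ <;> (clear * - h1 h2 ha3 hf h4 h5 ha h3; omega)

theorem eight_u62 (hF : Fintype.card F = 2 ^ 2) : Eight (PSU 6 F 2) := by
  have hst : 2 ^ 15 ∈ charDegrees (PSU 6 F 2) :=
    st_psu hF (by norm_num) (card_u6 hF) (k := 15) (m := 280665) (by norm_num) (by norm_num)
  norm_num at hst
  obtain ⟨h252, h440⟩ := rank3_6 hF
  obtain ⟨d, hd, d', hd', h1, h2, h3, hd0, hd0'⟩ := lines6 hF
  obtain ⟨a, ha, f, hf, a1, f1, a3, h4, h5⟩ := block6 hF h252 hst
  refine eight_of_list [1, 252, 440, 32768, d, d', a, f] (distinct6 a1 f1 h1 h2 h3 hd0 hd0' a3 h4 h5) le_rfl ?_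
  simp only [List.mem_cons, List.not_mem_nil, or_false]
  rintro c (rfl | rfl | rfl | rfl | rfl | rfl | rfl | rfl)
  · exact _root_.Cfsg.Agent.H664.Eight.one_mem
  · exact h252
  · exact h440
  · exact hst
  · exact hd
  · exact hd'
  · exact ha
  · exact hf

/-! ### `PSU_7(2)` -/

theorem card_u7 (hF : Fintype.card F = 2 ^ 2) : Nat.card (PSU 7 F 2) = 227787103272960 := by
  have h := S0280.result hF 7 (by norm_num)
  rw [show Nat.gcd 7 (2 + 1) = 1 by decide] at h
  simp only [Finset.prod_range_succ, Finset.prod_range_zero] at h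
  norm_num only [Nat.even_iff, _root_.one_mul, _root_.ite_true, _root_.ite_false] at h
  omega

theorem rank3_7 (hF : Fintype.card F = 2 ^ 2) : 860 ∈ charDegrees (PSU 7 F 2) ∧ 1848 ∈ charDegrees (PSU 7 F 2) := by
  obtain ⟨φF, hφF⟩ := exF (n := 7) hF (by norm_num)
  obtain ⟨φG, hφG⟩ := exG (n := 7) hF (by norm_num)
  norm_num only [uu, Nat.even_iff, _root_.Cfsg.Agent.H113.PSU.Levi.uu, _root_.ite_false, _root_.ite_true] at hφF hφG
  exact ⟨⟨φF, by omega⟩, ⟨φG, by omega⟩⟩

/-- the two Harish-Chandra induced cuspidal characters -/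
theorem lines7 (hF : Fintype.card F = 2 ^ 2) : ∃ d ∈ charDegrees (PSU 7 F 2), ∃ d' ∈ charDegrees (PSU 7 F 2),
    89397 ∣ d ∧ 574695 ∣ d' ∧ d ≠ d' ∧ d ≠ 0 ∧ d' ≠ 0 := by
  have hq : Nat.card F = 2 ^ 2 := by rw [Nat.card_eq_fintype_card, hF]
  have hS := psu_simple hF (n := 7) (by norm_num)
  obtain ⟨d, hd, t, ht3, hdt⟩ := hc_deg hF hq (k := 2) (n' := 3) le_rfl
  have h1 := hc_dvd hF hq (k := 2) (n' := 3) (M := 268191) le_rfl (by decide) (by
    rw [Finset.prod_Ico_eq_prod_range]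
    norm_num only [Finset.prod_range_succ, uu, Nat.even_iff, _root_.Cfsg.Agent.H113.PSU.Levi.uu, _root_.Nat.even_iff, _root_.Finset.prod_range_succ, _root_.Finset.range_one, _root_.Finset.prod_singleton, _root_.ite_true, _root_.ite_false, _root_.dvd_refl])
  obtain ⟨w, hw⟩ : 268191 ∣ 3 * d := h1.trans (by rw [← hdt, mul_comm 3]; exact mul_dvd_mul_left d ht3)
  obtain ⟨d', hd', t', ht3', hdt'⟩ := hc_deg hF hq (k := 3) (n' := 1) (by norm_num)
  have h1' := hc_dvd hF hq (k := 3) (n' := 1) (M := 1724085) (by norm_num) (by decide) (by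
    rw [Finset.prod_Ico_eq_prod_range]
    norm_num only [Finset.prod_range_succ, uu, Nat.even_iff, _root_.Cfsg.Agent.H113.PSU.Levi.uu, _root_.Nat.even_iff, _root_.Finset.prod_range_succ, _root_.Finset.range_one, _root_.Finset.prod_singleton, _root_.ite_true, _root_.ite_false, _root_.dvd_refl])
  obtain ⟨w', hw'⟩ : 1724085 ∣ 3 * d' := h1'.trans (by rw [← hdt', mul_comm 3]; exact mul_dvd_mul_left d' ht3')
  have hb := dg_two_le hq 7 (S0285.result hF 7)
  norm_num [Nat.even_iff] at hb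
  have hd0 : d ≠ 0 := by rintro rfl; exact zero_not_mem hd
  have hd0' : d' ≠ 0 := by rintro rfl; exact zero_not_mem hd'
  have ht0 : 0 < t := Nat.pos_of_dvd_of_pos ht3 (by norm_num)
  have h2 : 89397 ∣ d := ⟨w, by omega⟩
  have h3 : 574695 ∣ d' := ⟨w', by omega⟩
  refine ⟨d, hd, d', hd', h2, h3, ?_, hd0, hd0'⟩
  intro h
  have h4 : d ≤ dg (CForm.hermF F hq 7) 2 := hdt.symm ▸ Nat.le_mul_of_pos_right d ht0
  have h5 : Nat.lcm 89397 574695 ∣ d := Nat.lcm_dvd h2 (h ▸ h3)
  have h6 : Nat.lcm 89397 574695 = 4022865 := by norm_num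
  rw [h6] at h5
  have h7 := Nat.le_of_dvd (Nat.pos_of_ne_zero hd0) h5
  (clear * - hb h4 h7; omega)

theorem block7 (hF : Fintype.card F = 2 ^ 2) (h1848 : 1848 ∈ charDegrees (PSU 7 F 2))
    (hst : 2097152 ∈ charDegrees (PSU 7 F 2)) : ∃ a ∈ charDegrees (PSU 7 F 2),
    ∃ f ∈ charDegrees (PSU 7 F 2), (a % 43 = 1 ∨ a % 43 = 42) ∧ (f % 43 = 7 ∨ f % 43 = 36) ∧
      3 ≤ a ∧ a ≠ 1848 ∧ a ≠ 2097152 := by
  have hS := psu_simple hF (n := 7) (by norm_num)
  have hc := card_u7 hF
  have h43 : Fact (Nat.Prime 43) := ⟨by norm_num⟩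
  obtain ⟨M, P, hM, hP, hC, ⟨D⟩⟩ := exists_blk (G := PSU 7 F 2) (p := 43) (by norm_num)
    (H809.SelfCent.psu_irred hF (by norm_num) (by decide) (by norm_num) (by norm_num) (by norm_num)
      (by norm_num) (by norm_num) (k := 5461) (by norm_num) (by norm_num) (by decide) (by norm_num) (by norm_num))
    (by rw [hc]; norm_num) (e := 7) (t := 6) (by norm_num) (by rw [hc])
  have m1 : (-1848 : ℤ) ∈ D.degs := mem_degs hM D hP hC rfl (d := -1848) h1848 (by decide) (by decide) (by decide)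
    (by decide) (by decide)
  have m2 : (-2097152 : ℤ) ∈ D.degs := mem_degs hM D hP hC rfl (d := -2097152) hst (by decide) (by decide) (by decide)
    (by decide) (by decide)
  obtain ⟨l', hl'⟩ := exists_new (by norm_num) m1 m2
  have hlen := D.length_degs
  rw [hl'.length_eq, List.length_cons, List.length_cons] at hlen
  obtain ⟨x, l₁, rfl⟩ : ∃ x l, l' = x :: l := List.exists_cons_of_length_pos (by omega) |>.imp fun _ h => h
  obtain ⟨y, l₂, rfl⟩ : ∃ x l, l₁ = x :: l := List.exists_cons_of_length_pos (by rw [List.length_cons] at hlen; omega)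
  rw [List.length_cons, List.length_cons] at hlen
  obtain ⟨z, u, rfl⟩ := List.length_eq_two.1 (by omega : l₂.length = 2)
  have hsum := hl'.sum_eq
  simp only [List.sum_cons, List.sum_nil] at hsum
  have hN : ¬ (Nat.card (PSU 7 F 2)).Prime := by rw [hc]; norm_num
  have h2N : 2 ∣ Nat.card (PSU 7 F 2) := by rw [hc]; norm_num
  have f1 := D.dexc_modEq hP rfl
  have f2 := D.f_dvd rfl
  have f3 := BlockTools.dexc_mem D rfl
  have f4 := D.natAbs_dexc
  rw [← D.dexc_eq rfl] at f1 f4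
  have f5 : 1 + D.degs.sum = -2098999 + x + y + z + u := by rw [hsum]; ring
  rw [f5] at f1 f3 f4
  rw [hc] at f2
  rw [← f4] at f2
  unfold Int.ModEq at f1
  have hnew : ∃ z ∈ D.degs, z ≠ -1848 ∧ z ≠ -2097152 := by
    have hx : x ∈ D.degs := hl'.mem_iff.2 (by simp)
    have hy : y ∈ D.degs := hl'.mem_iff.2 (by simp)
    have hz : z ∈ D.degs := hl'.mem_iff.2 (by simp)
    have hu : u ∈ D.degs := hl'.mem_iff.2 (by simp)
    by_contra hno
    push Not at hno
    have hx' : x = -1848 ∨ x = -2097152 := or_iff_not_imp_left.2 (hno x hx)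
    have hy' : y = -1848 ∨ y = -2097152 := or_iff_not_imp_left.2 (hno y hy)
    have hz' : z = -1848 ∨ z = -2097152 := or_iff_not_imp_left.2 (hno z hz)
    have hu' : u = -1848 ∨ u = -2097152 := or_iff_not_imp_left.2 (hno u hu)
    rcases hx' with rfl | rfl <;> rcases hy' with rfl | rfl <;> rcases hz' with rfl | rfl <;>
      rcases hu' with rfl | rfl <;> norm_num at f2
  obtain ⟨v, hv, v1, v2⟩ := hnew
  obtain ⟨v3, v4, v5⟩ := D.degs_spec hP v hv
  have v6 := BlockTools.degs_three_le hN h2N D v hv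
  unfold Int.ModEq at v3
  refine ⟨v.natAbs, BlockTools.degs_mem D hv, _, f3, ?_, ?_, v6, ?_, ?_⟩ <;> (clear * - v3 f1 v1 v2; omega)

theorem distinct7 {a f d d' : ℕ} (ha : a % 43 = 1 ∨ a % 43 = 42) (hf : f % 43 = 7 ∨ f % 43 = 36) (h1 : 89397 ∣ d)
    (h2 : 574695 ∣ d') (h3 : d ≠ d') (hd0 : d ≠ 0) (hd0' : d' ≠ 0) (ha3 : 3 ≤ a) (h4 : a ≠ 1848) (h5 : a ≠ 2097152) :
    [1, 860, 1848, 2097152, d, d', a, f].Nodup := by
  simp only [List.nodup_cons, List.mem_cons, List.not_mem_nil, or_false, not_or, List.nodup_nil, and_true,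
    not_false_eq_true]
  refine ⟨⟨?_, ?_, ?_, ?_, ?_, ?_, ?_⟩, ⟨?_, ?_, ?_, ?_, ?_, ?_⟩, ⟨?_, ?_, ?_, ?_, ?_⟩, ⟨?_, ?_, ?_, ?_⟩, ⟨?_, ?_, ?_⟩,
    ⟨?_, ?_⟩, ?_⟩ <;> (clear * - h1 h2 ha3 hf ha h4 h5 h3; omega)

theorem eight_u72 (hF : Fintype.card F = 2 ^ 2) : Eight (PSU 7 F 2) := by
  have hst : 2 ^ 21 ∈ charDegrees (PSU 7 F 2) :=
    st_psu hF (by norm_num) (card_u7 hF) (k := 21) (m := 108617355) (by norm_num) (by norm_num)
  norm_num at hst
  obtain ⟨h860, h1848⟩ := rank3_7 hF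
  obtain ⟨d, hd, d', hd', h1, h2, h3, hd0, hd0'⟩ := lines7 hF
  obtain ⟨a, ha, f, hf, a1, f1, a3, h4, h5⟩ := block7 hF h1848 hst
  refine eight_of_list [1, 860, 1848, 2097152, d, d', a, f] (distinct7 a1 f1 h1 h2 h3 hd0 hd0' a3 h4 h5) le_rfl ?_
  simp only [List.mem_cons, List.not_mem_nil, or_false]
  rintro c (rfl | rfl | rfl | rfl | rfl | rfl | rfl | rfl)
  · exact _root_.Cfsg.Agent.H664.Eight.one_mem
  · exact h860
  · exact h1848
  · exact hst
  · exact hd
  · exact hd'
  · exact ha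
  · exact hf

/-! ### `PSU_4(2) = PSp_4(3)` -/

theorem card_u4 (hF : Fintype.card F = 2 ^ 2) : Nat.card (PSU 4 F 2) = 25920 := by
  have h := S0280.result hF 4 (by norm_num)
  rw [show Nat.gcd 4 (2 + 1) = 1 by decide] at h
  simp only [Finset.prod_range_succ, Finset.prod_range_zero] at h
  norm_num only [Nat.even_iff, _root_.one_mul, _root_.ite_true, _root_.ite_false] at h
  omega

/-- the principal `5`-block of `PSU_4(2)` -/
theorem block4 (hF : Fintype.card F = 2 ^ 2) (h24 : 24 ∈ charDegrees (PSU 4 F 2))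
    (h64 : 64 ∈ charDegrees (PSU 4 F 2)) (h81 : 81 ∈ charDegrees (PSU 4 F 2)) : 6 ∈ charDegrees (PSU 4 F 2) := by
  have hS := psu_simple hF (n := 4) (by norm_num)
  have hc := card_u4 hF
  have h5 : Fact (Nat.Prime 5) := ⟨by norm_num⟩
  obtain ⟨M, P, hM, hP, hC, ⟨D⟩⟩ := exists_blk (G := PSU 4 F 2) (p := 5) (by norm_num)
    (H809.SelfCent.psu_selfcent 4 2 5 (by decide) F hF)
    (by rw [hc]; norm_num) (e := 4) (t := 1) (by norm_num) (by rw [hc])
  have hlen := D.length_degs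
  obtain ⟨x, y, z, hl⟩ := List.length_eq_three.1 (by omega : D.degs.length = 3)
  have f1 := D.dexc_modEq hP rfl
  have f3 := BlockTools.dexc_mem D rfl
  rw [← D.dexc_eq rfl] at f1
  have c24 := BlockTools2.degree_cases hM D hP hC rfl h24 (by norm_num)
  have c64 := BlockTools2.degree_cases hM D hP hC rfl h64 (by norm_num)
  have c81 := BlockTools2.degree_cases hM D hP hC rfl h81 (by norm_num)
  have f5 : 1 + D.degs.sum = 1 + x + y + z := by
    rw [hl]
    simp only [List.sum_cons, List.sum_nil]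
    ring
  rw [f5] at f1 f3 c24 c64 c81
  have hx : x ∈ D.degs := by rw [hl]; simp
  have hy : y ∈ D.degs := by rw [hl]; simp
  have hz : z ∈ D.degs := by rw [hl]; simp
  have x1 := (D.degs_spec hP x hx).1
  have y1 := (D.degs_spec hP y hy).1
  have z1 := (D.degs_spec hP z hz).1
  have x2 := BlockTools.degs_mem D hx
  have y2 := BlockTools.degs_mem D hy
  have z2 := BlockTools.degs_mem D hz
  rw [hl] at c24 c64 c81
  simp only [List.mem_cons, List.not_mem_nil, or_false, exists_eq_or_imp, exists_eq_left] at c24 c64 c81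
  unfold Int.ModEq at x1 y1 z1 f1
  obtain ⟨w, hw⟩ : ∃ w, w = 1 + x + y + z := ⟨_, rfl⟩
  rw [← hw] at f1 f3 c24 c64 c81
  have key : x.natAbs = 6 ∨ y.natAbs = 6 ∨ z.natAbs = 6 ∨ w.natAbs = 6 := by
    rcases c24 with c24 | (c24 | c24 | c24) | c24
    · omega
    all_goals
      rcases c64 with c64 | (c64 | c64 | c64) | c64
      · omega
      all_goals
        rcases c81 with c81 | (c81 | c81 | c81) | c81 <;> (clear * - c24 c64 c81 f1 hw z1 y1; omega)
  rcases key with h | h | h | h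
  · rwa [h] at x2
  · rwa [h] at y2
  · rwa [h] at z2
  · rwa [h] at f3

theorem two_ne_zero_three : (2 : ZMod 3) ≠ 0 := by decide

theorem eight_u42 (hF : Fintype.card F = 2 ^ 2) : Eight (PSU 4 F 2) := by
  have hK : Fintype.card (ZMod 3) = 3 := ZMod.card 3
  have hK' : Nat.card (ZMod 3) = 3 := by rw [Nat.card_eq_fintype_card, hK]
  obtain ⟨e⟩ := Cfsg.Agent.S0822.result (F := F) (K := ZMod 3) (by rw [hF]; norm_num) hK
  have hS := psu_simple hF (n := 4) (by norm_num)
  have hcd := charDegrees_congr e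
  have hS' : IsSimpleGroup (PSp 2 (ZMod 3)) := e.symm.isSimpleGroup
  have hc := card_u4 hF
  have hc' : Nat.card (PSp 2 (ZMod 3)) = 25920 := by rw [← Nat.card_congr e.toEquiv, hc]
  have h3 : Fact (Nat.Prime 3) := ⟨Nat.prime_three⟩
  obtain ⟨χ₁, χ₂, h1, h2, hd1, hd2⟩ := H113.PSU.Left43.u42 hF
  have h20 : 20 ∈ charDegrees (PSU 4 F 2) := H677.Tri42.deg_of_one h1 (by rw [hd1]; norm_num)
  have h24 : 24 ∈ charDegrees (PSU 4 F 2) := H677.Tri42.deg_of_one h2 (by rw [hd2]; norm_num)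
  have h15 : 15 ∈ charDegrees (PSU 4 F 2) := by
    rw [hcd]
    exact H677.Tri42.fifteen hK
  have h64 : 2 ^ 6 ∈ charDegrees (PSU 4 F 2) :=
    st_psu hF (by norm_num) hc (k := 6) (m := 405) (by norm_num) (by norm_num)
  norm_num at h64
  have h81 : 81 ∈ charDegrees (PSU 4 F 2) := by
    rw [hcd]
    have h := st_mem (p := 3) (G := PSp 2 (ZMod 3)) (H167.StChar.hasSt_of_lie Nat.prime_three
      (Or.inr (Or.inl ⟨ZMod 3, inferInstance, inferInstance, inferInstance, 2, le_rfl, fun _ => hK.ge,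
        ⟨MulEquiv.refl _⟩⟩)))
    rw [hc', show 25920 = 3 ^ 4 * 320 by norm_num, Nat.factorization_mul (by norm_num) (by norm_num),
      Nat.Prime.factorization_pow Nat.prime_three, Finsupp.add_apply, Finsupp.single_eq_same,
      Nat.factorization_eq_zero_of_not_dvd (by norm_num), add_zero] at h
    norm_num at h
    exact h
  have h6 := block4 hF h24 h64 h81
  obtain ⟨w, hw, hw'⟩ : ∃ w ∈ charDegrees (PSU 4 F 2), w = 4 ∨ w = 5 := by
    obtain ⟨χ, hχ⟩ := H677.WeilIrr.exists_irr_psp (F := ZMod 3) (n := 2) (by norm_num) two_ne_zero_three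
    rw [hK'] at hχ
    refine ⟨charDegree (χ : PSp 2 (ZMod 3) → ℂ), ?_, ?_⟩
    · rw [hcd]
      exact ⟨χ, rfl⟩
    · omega
  refine eight_of_list [1, w, 6, 15, 20, 24, 64, 81] ?_ le_rfl ?_
  · rcases hw' with rfl | rfl <;> decide
  · simp only [List.mem_cons, List.not_mem_nil, or_false]
    rintro c (rfl | rfl | rfl | rfl | rfl | rfl | rfl | rfl)
    · exact _root_.Cfsg.Agent.H664.Eight.one_mem
    · exact hw
    · exact h6
    · exact h15
    · exact h20
    · exact h24
    · exact h64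
    · exact h81

theorem eight_sp43 (hF : Fintype.card F = 3) : Eight (PSp 2 F) := by
  have : Fact (Nat.Prime 2) := ⟨Nat.prime_two⟩
  have hfin : Finite (GaloisField 2 2) := Finite.of_finite_univ (by
    have := GaloisField.card 2 2 (by norm_num)
    exact Set.finite_univ_iff.2 (Nat.finite_of_card_ne_zero (by rw [this]; norm_num)))
  let _ : Fintype (GaloisField 2 2) := Fintype.ofFinite _
  have h4 : Fintype.card (GaloisField 2 2) = 2 ^ 2 := by
    rw [← Nat.card_eq_fintype_card, GaloisField.card 2 2 (by norm_num)]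
  obtain ⟨e⟩ := Cfsg.Agent.S0822.result (F := GaloisField 2 2) (K := F) (by rw [h4]; norm_num) hF
  exact (eight_u42 h4).of_equiv e.symm

end Rows

end Cfsg.Agent.H561.Eight
end

-- part: H272/Eight/Sev
section
/-!
# The eighth degree of `PSp₄(4)`, from the principal 17-block (helper272, for S4899)
-/

set_option autoImplicit false
set_option linter.unusedSectionVars false

open Cfsg

namespace Cfsg.Agent.H272.Eight

open Module Cfsg.Agent.Characters

universe u v

/-- An exceptional character of the principal block of a Sylow subgroup of order `p`. -/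
theorem exists_exc {G : Type u} [Group G] [Finite G] (hperf : commutator G = ⊤) {p : ℕ} (hp : p.Prime) (hp3 : 3 ≤ p)
    (hd : p ∣ Nat.card G) (hd2 : ¬ p ^ 2 ∣ Nat.card G)
    (hnc : ∀ x : G, orderOf x = p → ∃ k, 0 < k ∧ k < p ∧ ¬ IsConj x (x ^ k)) :
    ∃ (e : ℕ) (d : ℕ), e ∣ p - 1 ∧ 1 < e ∧ e < p - 1 ∧ d ∈ charDegrees G ∧
      ∃ m : ℕ, (d : ℤ) = e + p * m ∨ (d : ℤ) = - e + p * m := by
  classical
  have : Fact p.Prime := ⟨hp⟩
  let P : Sylow p G := default
  have hP : Nat.card P = p := by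
    obtain ⟨k, hk⟩ := (IsPGroup.iff_card (p := p)).1 P.isPGroup'
    have h1 : p ^ k ∣ Nat.card G := by rw [← hk]; exact Subgroup.card_subgroup_dvd_card _
    have h2 : k < 2 := by
      by_contra h
      exact hd2 ((pow_dvd_pow p (by omega)).trans h1)
    have h3 : k ≠ 0 := by
      rintro rfl
      rw [pow_zero] at hk
      have h4 := P.not_dvd_index
      have h5 := (P : Subgroup G).card_mul_index
      have h6 : Nat.card P * (P : Subgroup G).index = Nat.card G := h5
      rw [hk, one_mul] at h6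
      rw [h6] at h4
      exact h4 hd
    have h4 : k = 1 := by omega
    rw [hk, h4, pow_one]
  obtain ⟨M, hM⟩ := Blocks.ExistsModular.exists_isPModular hp
  obtain ⟨e, he⟩ : ∃ e, (Subgroup.centralizer (P : Set G)).relIndex (Subgroup.normalizer (P : Set G)) = e :=
    ⟨_, rfl⟩
  have hcls := Cfsg.Agent.Blocks.CyclicClasses.card_cls P hP
  have he' : (Subgroup.centralizer ((P : Subgroup G) : Set G)).relIndex
      (Subgroup.normalizer ((P : Subgroup G) : Set G)) = e := he
  rw [he'] at hcls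
  obtain ⟨t, ht0, ht⟩ : ∃ t, t = Nat.card (Cfsg.Agent.Blocks.CyclicClasses.Cls P) ∧ e * t = p - 1 :=
    ⟨_, rfl, by rw [mul_comm]; exact hcls⟩
  have he2 : 2 ≤ e := by
    by_contra h
    have he0 : e ≠ 0 := by
      intro h0
      rw [h0, zero_mul] at ht
      omega
    have he1 : e = 1 := by omega
    have h1 : Subgroup.normalizer (P : Set G) ≤ Subgroup.centralizer (P : Set G) := by
      rw [← Subgroup.relIndex_eq_one, he, he1]
    exact Cfsg.Agent.H607.BP.NonSelf.not_le hperf P hP h1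
  have htpos : 0 < t := by
    rcases Nat.eq_zero_or_pos t with h | h
    · rw [h, mul_zero] at ht; omega
    · exact h
  have ht1 : t ≠ 1 := by
    intro h1
    rw [h1] at ht0
    obtain ⟨hsub, -⟩ := Nat.card_eq_one_iff_unique.1 ht0.symm
    obtain ⟨x, hx, hx1⟩ := Cfsg.Agent.H607.BP.NonSelf.exists_ne_one P hP
    have hox : orderOf x = p := by
      have h2 : orderOf x ∣ p := by
        have := Subgroup.orderOf_dvd_natCard (P : Subgroup G) hx
        rwa [show Nat.card (P : Subgroup G) = p from hP] at this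
      rcases (Nat.dvd_prime hp).1 h2 with h3 | h3
      · exact absurd (orderOf_eq_one_iff.1 h3) hx1
      · exact h3
    obtain ⟨k, hk0, hk, hkc⟩ := hnc x hox
    apply hkc
    have hxk : x ^ k ≠ 1 := by
      intro h
      have h2 := orderOf_dvd_of_pow_eq_one h
      rw [hox] at h2
      exact absurd (Nat.le_of_dvd hk0 h2) (by omega)
    have h2 := congrArg Subtype.val (hsub.elim (⟨ConjClasses.mk x, x, hx, hx1, rfl⟩ : Cfsg.Agent.Blocks.CyclicClasses.Cls P)
      ⟨ConjClasses.mk (x ^ k), x ^ k, pow_mem hx k, hxk, rfl⟩)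
    exact ConjClasses.mk_eq_mk_iff_isConj.1 h2
  obtain ⟨NE, X, ε, d, S, hB, h1, h2, h3, h4, h5, ⟨χ₁, h6, h6', h6''⟩, h7, h8, h9, h10⟩ :=
    Cfsg.Agent.SmallSimple.TheoremB.theoremB p (by omega) M hM P hP e t he ht
  obtain ⟨Θ, hΘ⟩ : X.Nonempty := by
    rw [← Finset.card_pos, h3]
    exact htpos
  have hone : ¬ p ∣ orderOf (1 : G) := by
    rw [orderOf_one]; exact fun h => hp.one_lt.ne' (Nat.dvd_one.1 h)
  obtain ⟨h11, h12, h13⟩ := h8 Θ hΘ
  obtain ⟨m, hm⟩ := Cfsg.Agent.SmallSimple.TheoremBCor.degree_exc hP (Core.isIrr_isCharacter Θ.2) h12 (by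
    intro x hx
    have := h13 x hx 1 (one_mem _) hone
    rwa [mul_one] at this)
  obtain ⟨n, hn⟩ := Core.isCharacter_apply_one (Core.isIrr_isCharacter Θ.2)
  refine ⟨e, n, ⟨t, ht.symm⟩, he2, ?_, ⟨Θ, Blocks.Basic.charDegree_of_eq hn⟩, m, ?_⟩
  · rw [← ht]
    have : 2 ≤ t := by omega
    calc e < e * 2 := by omega
      _ ≤ e * t := Nat.mul_le_mul_left _ this
  · rw [hn, h11] at hm
    rcases h5 with h | h
    · left
      rw [h] at hm
      have : (n : ℂ) = ((e + p * m : ℤ) : ℂ) := by rw [hm]; push_cast; ring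
      exact_mod_cast this
    · right
      rw [h] at hm
      have : (n : ℂ) = ((- e + p * m : ℤ) : ℂ) := by rw [hm]; push_cast; ring
      exact_mod_cast this

/-- In characteristic 2, an element of order 17 of `GL₄` is not conjugate to all its powers. -/
theorem not_all_conj {K : Type u} [Field K] [CharP K 2] {n : Type v} [Fintype n] [DecidableEq n]
    (hn : Fintype.card n = 4) (A : Matrix n n K) (h17 : A ^ 17 = 1) (h1 : A ≠ 1)
    (hc : ∀ k, 0 < k → k < 17 → ∃ U : (Matrix n n K)ˣ, (U : Matrix n n K) * A * ((U⁻¹ : (Matrix n n K)ˣ) : Matrix n n K) = A ^ k) :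
    False := by
  classical
  let L := AlgebraicClosure K
  let f : Matrix n n K →+* Matrix n n L := (algebraMap K L).mapMatrix
  have hfinj : Function.Injective f := by
    intro X Y h
    ext i j
    have h2 := congrFun (congrFun h i) j
    exact (algebraMap K L).injective h2
  set B : Matrix n n L := f A with hB
  have hB17 : B ^ 17 = 1 := by rw [hB, ← map_pow, h17, map_one]
  have hB1 : B ≠ 1 := by
    intro h
    apply h1
    apply hfinj
    rw [map_one]
    exact h
  have hchar : CharP L 2 := charP_of_injective_algebraMap (algebraMap K L).injective 2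
  have hnt : Nonempty n := Fintype.card_pos_iff.1 (by omega)
  have hroot : ∀ z : L, z ∈ spectrum L B ↔ z ∈ B.charpoly.roots := by
    intro z
    rw [Polynomial.mem_roots B.charpoly_monic.ne_zero, Matrix.mem_spectrum_iff_isRoot_charpoly]
  -- an eigenvalue different from `1`
  obtain ⟨z, hz, hz1⟩ : ∃ z ∈ spectrum L B, z ≠ 1 := by
    by_contra hcon
    push Not at hcon
    have h2 : B.charpoly.roots = Multiset.replicate 4 1 := by
      rw [Multiset.eq_replicate]
      refine ⟨?_, fun z hz => hcon z ((hroot z).2 hz)⟩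
      rw [← (IsAlgClosed.splits B.charpoly).natDegree_eq_card_roots, Matrix.charpoly_natDegree_eq_dim, hn]
    have h3 : B.charpoly = (Polynomial.X - Polynomial.C 1) ^ 4 := by
      have h4 := (IsAlgClosed.splits B.charpoly).eq_prod_roots_of_monic B.charpoly_monic
      rw [h4, h2, Multiset.map_replicate, Multiset.prod_replicate]
    have h5 := Matrix.aeval_self_charpoly B
    rw [h3] at h5
    simp only [map_pow, map_sub, Polynomial.aeval_X, map_one] at h5
    have hcm : CharP (Matrix n n L) 2 := inferInstance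
    have h6 : (B - 1) ^ 4 = B ^ 4 - 1 := by
      have := sub_pow_char_pow_of_commute (p := 2) (n := 2) (x := B) (y := 1) (Commute.one_right B)
      norm_num at this
      exact this
    rw [h6] at h5
    have h7 : B ^ 4 = 1 := sub_eq_zero.1 h5
    apply hB1
    calc B = B ^ 17 := by
          have : (17 : ℕ) = 4 * 4 + 1 := rfl
          rw [this, pow_succ, pow_mul, h7, one_pow, one_mul]
      _ = 1 := hB17
  have hz17 : z ^ 17 = 1 := by
    have h2 := spectrum.pow_mem_pow B 17 hz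
    rw [hB17, spectrum.one_eq] at h2
    exact h2
  have hzo : orderOf z = 17 := by
    have h2 := orderOf_dvd_of_pow_eq_one hz17
    rcases (Nat.dvd_prime (by norm_num : Nat.Prime 17)).1 h2 with h3 | h3
    · exact absurd (orderOf_eq_one_iff.1 h3) hz1
    · exact h3
  have hall : ∀ k, 0 < k → k < 17 → z ^ k ∈ B.charpoly.roots := by
    intro k hk0 hk
    rw [← hroot]
    obtain ⟨U, hU⟩ := hc k hk0 hk
    have h2 := spectrum.pow_mem_pow B k hz
    have h3 : B ^ k = (Units.map f.toMonoidHom U : (Matrix n n L)ˣ) * B *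
        (((Units.map f.toMonoidHom U)⁻¹ : (Matrix n n L)ˣ) : Matrix n n L) := by
      rw [hB, ← map_pow, ← hU, map_mul, map_mul]
      rfl
    rw [h3, spectrum.units_conjugate] at h2
    exact h2
  have hinj : Set.InjOn (fun k => z ^ k) (Finset.Icc 1 16 : Finset ℕ) := by
    intro a ha b hb hab
    rw [Finset.mem_coe, Finset.mem_Icc] at ha hb
    exact pow_injOn_Iio_orderOf (by rw [hzo]; exact Set.mem_Iio.2 (by omega)) (by rw [hzo]; exact Set.mem_Iio.2 (by omega)) hab
  have hle : 16 ≤ 4 := by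
    calc 16 = ((Finset.Icc 1 16 : Finset ℕ).image (fun k => z ^ k)).card := by
          rw [Finset.card_image_of_injOn hinj]
          rfl
      _ ≤ B.charpoly.roots.toFinset.card := by
          apply Finset.card_le_card
          intro y hy
          rw [Finset.mem_image] at hy
          obtain ⟨k, hk, rfl⟩ := hy
          rw [Finset.mem_Icc] at hk
          rw [Multiset.mem_toFinset]
          exact hall k (by omega) (by omega)
      _ ≤ B.charpoly.roots.card := Multiset.toFinset_card_le _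
      _ ≤ B.charpoly.natDegree := Polynomial.card_roots' _
      _ = 4 := by rw [Matrix.charpoly_natDegree_eq_dim, hn]
  omega

section

variable (K : Type u) [Field K] [Finite K]

/-- The eighth degree of `PSp₄(4)`. -/
theorem deg_sev (hq : Nat.card K = 4) : ∃ (e d : ℕ), (e = 2 ∨ e = 4 ∨ e = 8) ∧ d ∈ charDegrees (PSp 2 K) ∧
    ∃ m : ℕ, (d : ℤ) = e + 17 * m ∨ (d : ℤ) = - e + 17 * m := by
  classical
  have hfin' : Finite (PSp 2 K) := by unfold PSp; infer_instance
  let _ := Fintype.ofFinite K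
  have h2K : (2 : K) = 0 := by
    have h1 : ((Nat.card K : ℕ) : K) = 0 := by
      rw [Nat.card_eq_fintype_card]
      exact FiniteField.cast_card_eq_zero K
    rw [hq] at h1
    push_cast at h1
    have h2 : (2 : K) * 2 = 0 := by linear_combination h1
    rcases mul_eq_zero.1 h2 with h | h <;> exact h
  have hchar : CharP K 2 := CharTwo.of_one_ne_zero_of_two_eq_zero one_ne_zero h2K
  have hcard : Nat.card (PSp 2 K) = 979200 := by
    have h1 := card_eq K
    rw [hq] at h1
    generalize Nat.card (PSp 2 K) = N at h1 ⊢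
    norm_num at h1
    exact h1
  have hsimple : IsSimpleGroup (PSp 2 K) := S0270.result 2 le_rfl (fun _ => by
    rw [← Nat.card_eq_fintype_card, hq]
    norm_num)
  have hperf : commutator (PSp 2 K) = ⊤ := MTwelve.SmallDegree.commutator_eq_top_of_card (by
    rw [hcard]
    norm_num)
  have hcen : ∀ z ∈ Subgroup.center (Matrix.symplecticGroup (Fin 2) K), z = 1 := by
    intro z hz
    have hneg : (-1 : Matrix (Fin 2 ⊕ Fin 2) (Fin 2 ⊕ Fin 2) K) = 1 := by
      ext i j
      rw [Matrix.neg_apply]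
      have h3 : ∀ x : K, -x = x := fun x => by linear_combination (-x) * h2K
      exact h3 _
    rcases Cfsg.Agent.ClassicalGeometry.SympInvolutions.center_eq hz with h | h
    · exact Subtype.ext h
    · apply Subtype.ext
      rw [h, hneg]
      rfl
  obtain ⟨e, d, he, he1, he2, hd, m, hm⟩ := exists_exc hperf (p := 17) (by norm_num) (by norm_num)
    (by rw [hcard]; norm_num) (by rw [hcard]; norm_num) (by
      intro x hx
      by_contra hcon
      push Not at hcon
      obtain ⟨A, rfl⟩ := QuotientGroup.mk_surjective x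
      have hA17 : A ^ 17 = 1 := by
        apply hcen
        rw [← QuotientGroup.eq_one_iff, QuotientGroup.mk_pow, ← hx, pow_orderOf_eq_one]
      refine not_all_conj (n := Fin 2 ⊕ Fin 2) (by simp) (A : Matrix (Fin 2 ⊕ Fin 2) (Fin 2 ⊕ Fin 2) K) ?_ ?_ ?_
      · have := congrArg Subtype.val hA17
        exact this
      · intro h
        have h2 : A = 1 := Subtype.ext h
        rw [h2, QuotientGroup.mk_one, orderOf_one] at hx
        omega
      · intro k hk0 hk
        obtain ⟨c, hc⟩ := isConj_iff.1 (hcon k hk0 hk)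
        obtain ⟨C, rfl⟩ := QuotientGroup.mk_surjective c
        have h3 : C * A * C⁻¹ = A ^ k := by
          have h4 : (C * A * C⁻¹)⁻¹ * A ^ k = 1 := by
            apply hcen
            rw [← QuotientGroup.eq]
            exact hc
          exact (inv_mul_eq_one.1 h4)
        refine ⟨⟨C, ((C⁻¹ : Matrix.symplecticGroup (Fin 2) K) : Matrix _ _ K), ?_, ?_⟩, ?_⟩
        · exact congrArg Subtype.val (mul_inv_cancel C)
        · exact congrArg Subtype.val (inv_mul_cancel C)
        · exact congrArg Subtype.val h3)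
  refine ⟨e, d, ?_, hd, m, hm⟩
  have h16 : e ∣ 16 := he
  have h3 : e < 16 := he2
  interval_cases e <;> omega

end

end Cfsg.Agent.H272.Eight
end

-- part: H272/Eight/SpFour
section
/-!
# At least eight character degrees of `PSp₄(q)`, `q ≥ 4` (helper272, for S4899)
-/

set_option autoImplicit false
set_option linter.unusedSectionVars false

open Cfsg

namespace Cfsg.Agent.H272.Eight

open Cfsg.Agent.H664.Eight

universe u

theorem eight_odd (K : Type u) [Field K] [Finite K] (hq : 5 ≤ Nat.card K) (h2 : (2 : K) ≠ 0) : Eight (PSp 2 K) := by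
  have hfin' : Finite (PSp 2 K) := by unfold PSp; infer_instance
  obtain ⟨hF, hG⟩ := deg_FG K (by omega)
  have hE := deg_E K (by omega)
  obtain ⟨⟨C, hC, hC'⟩, D, hD, hD'⟩ := deg_CD K
  obtain ⟨w, hw, hw'⟩ := deg_W K h2
  have hSt := deg_St K
  obtain ⟨x, hx⟩ : ∃ x, Nat.card K = x + 5 := ⟨Nat.card K - 5, by omega⟩
  rw [hx] at hF hG hE hC hD hw hSt
  have e1 : 1 < w := by
    have h3 : 25 ≤ (x + 5) ^ 2 := by nlinarith only [hx]
    omega
  have e2 : w < D := by
    have h3 : 2 * w ≤ (x + 5) ^ 2 + 1 := by omega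
    nlinarith only [hD, h3]
  have e3 : D < C := by nlinarith only [hD, hC]
  have e4 : C < (x + 5 + 1) * ((x + 5) ^ 2 + 1) := by linarith only [hD, hC]
  have e5 : (x + 5 + 1) * ((x + 5) ^ 2 + 1) < (x + 5) ^ 4 - 1 := by
    have : (x + 5 + 1) * ((x + 5) ^ 2 + 1) + 1 < (x + 5) ^ 4 := by
      have h : (x + 5) ^ 4 = (x + 5 + 1) * ((x + 5) ^ 2 + 1) + 1 + (x ^ 4 + 19 * x ^ 3 + 134 * x ^ 2 + 414 * x + 468) := by ring
      rw [h]
      omega
    omega
  have e6 : (x + 5) ^ 4 - 1 < (x + 5) ^ 4 := Nat.sub_lt (by positivity) one_pos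
  have e7 : (x + 5) ^ 4 < (x + 5 + 1) * ((x + 5) ^ 2 + 1) * (x + 5) := by
    have h : (x + 5 + 1) * ((x + 5) ^ 2 + 1) * (x + 5) = (x + 5) ^ 4 + ((x + 5) ^ 3 + (x + 5) ^ 2 + (x + 5)) := by ring
    rw [h]
    have : 0 < (x + 5) ^ 3 + (x + 5) ^ 2 + (x + 5) := by (clear * -; positivity)
    omega
  refine eight_of_chain [1, w, D, C, (x + 5 + 1) * ((x + 5) ^ 2 + 1), (x + 5) ^ 4 - 1, (x + 5) ^ 4,
    (x + 5 + 1) * ((x + 5) ^ 2 + 1) * (x + 5)] ?_ le_rfl ?_
  rotate_left
  · intro d hd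
    simp only [List.mem_cons, List.not_mem_nil, or_false] at hd
    rcases hd with rfl | rfl | rfl | rfl | rfl | rfl | rfl | rfl
    · exact _root_.Cfsg.Agent.H664.Eight.one_mem
    · exact hw'
    · exact hD'
    · exact hC'
    · exact hF
    · exact hE
    · exact hSt
    · exact hG
  · rw [← List.isChain_iff_pairwise]
    simp only [List.isChain_cons_cons, List.isChain_singleton, and_true]
    exact ⟨e1, e2, e3, e4, e5, e6, e7⟩

theorem eight_even (K : Type u) [Field K] [Finite K] (hq : 8 ≤ Nat.card K) (h2 : (2 : K) = 0) : Eight (PSp 2 K) := by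
  have hfin' : Finite (PSp 2 K) := by unfold PSp; infer_instance
  obtain ⟨hF, hG⟩ := deg_FG K (by omega)
  have hE := deg_E K (by omega)
  obtain ⟨⟨C, hC, hC'⟩, D, hD, hD'⟩ := deg_CD K
  have hM := deg_M K hq h2
  have hSt := deg_St K
  obtain ⟨x, hx⟩ : ∃ x, Nat.card K = x + 5 := ⟨Nat.card K - 5, by omega⟩
  rw [hx] at hF hG hE hC hD hM hSt
  have e2 : 1 < D := by nlinarith only [hD]
  have e3 : D < C := by nlinarith only [hD, hC]
  have e4 : C < (x + 5 + 1) * ((x + 5) ^ 2 + 1) := by linarith only [hD, hC]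
  have e5 : (x + 5 + 1) * ((x + 5) ^ 2 + 1) < (x + 5) ^ 4 - 1 := by
    have : (x + 5 + 1) * ((x + 5) ^ 2 + 1) + 1 < (x + 5) ^ 4 := by
      have h : (x + 5) ^ 4 = (x + 5 + 1) * ((x + 5) ^ 2 + 1) + 1 + (x ^ 4 + 19 * x ^ 3 + 134 * x ^ 2 + 414 * x + 468) := by ring
      rw [h]
      omega
    omega
  have e6 : (x + 5) ^ 4 - 1 < (x + 5) ^ 4 := Nat.sub_lt (by positivity) one_pos
  have e7 : (x + 5) ^ 4 < (x + 5 + 1) * ((x + 5) ^ 2 + 1) * (x + 5) := by
    have h : (x + 5 + 1) * ((x + 5) ^ 2 + 1) * (x + 5) = (x + 5) ^ 4 + ((x + 5) ^ 3 + (x + 5) ^ 2 + (x + 5)) := by ring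
    rw [h]
    have : 0 < (x + 5) ^ 3 + (x + 5) ^ 2 + (x + 5) := by (clear * -; positivity)
    omega
  have e8 : (x + 5 + 1) * ((x + 5) ^ 2 + 1) * (x + 5) < (x + 5 + 1) * ((x + 5 + 1) * ((x + 5) ^ 2 + 1)) := by
    have h : (x + 5 + 1) * ((x + 5 + 1) * ((x + 5) ^ 2 + 1)) =
      (x + 5 + 1) * ((x + 5) ^ 2 + 1) * (x + 5) + (x + 5 + 1) * ((x + 5) ^ 2 + 1) := by ring
    rw [h]
    have : 0 < (x + 5 + 1) * ((x + 5) ^ 2 + 1) := by (clear * -; positivity)
    omega
  refine eight_of_chain [1, D, C, (x + 5 + 1) * ((x + 5) ^ 2 + 1), (x + 5) ^ 4 - 1, (x + 5) ^ 4,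
    (x + 5 + 1) * ((x + 5) ^ 2 + 1) * (x + 5), (x + 5 + 1) * ((x + 5 + 1) * ((x + 5) ^ 2 + 1))] ?_ le_rfl ?_
  rotate_left
  · intro d hd
    simp only [List.mem_cons, List.not_mem_nil, or_false] at hd
    rcases hd with rfl | rfl | rfl | rfl | rfl | rfl | rfl | rfl
    · exact _root_.Cfsg.Agent.H664.Eight.one_mem
    · exact hD'
    · exact hC'
    · exact hF
    · exact hE
    · exact hSt
    · exact hG
    · exact hM
  · rw [← List.isChain_iff_pairwise]
    simp only [List.isChain_cons_cons, List.isChain_singleton, and_true]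
    exact ⟨e2, e3, e4, e5, e6, e7, e8⟩

theorem eight_four (K : Type u) [Field K] [Finite K] (hq : Nat.card K = 4) : Eight (PSp 2 K) := by
  have hfin' : Finite (PSp 2 K) := by unfold PSp; infer_instance
  obtain ⟨hF, hG⟩ := deg_FG K (by omega)
  have hE := deg_E K (by omega)
  obtain ⟨⟨C, hC, hC'⟩, D, hD, hD'⟩ := deg_CD K
  have hSt := deg_St K
  obtain ⟨e, d, he, hd, m, hm⟩ := deg_sev K hq
  rw [hq] at hF hG hE hC hD hSt
  norm_num at hF hG hE hC hD hSt
  have hC2 : C = 50 := by omega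
  have hD2 : D = 34 := by omega
  subst hC2 hD2
  have hdm : (d : ℤ) % 17 ≠ 0 ∧ (d : ℤ) % 17 ≠ 1 ∧ (d : ℤ) % 17 ≠ 16 := by
    rcases he with rfl | rfl | rfl <;> rcases hm with h | h <;> push_cast at h <;> (clear * - h; omega)
  refine eight_of_list [1, 34, 50, 85, 255, 256, 340, d] ?_ le_rfl ?_
  rotate_left
  · intro d' hd'
    simp only [List.mem_cons, List.not_mem_nil, or_false] at hd'
    rcases hd' with rfl | rfl | rfl | rfl | rfl | rfl | rfl | rfl
    · exact _root_.Cfsg.Agent.H664.Eight.one_mem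
    · exact hD'
    · exact hC'
    · exact hF
    · exact hE
    · exact hSt
    · exact hG
    · exact hd
  · simp only [List.nodup_cons, List.mem_cons, List.not_mem_nil, or_false, not_false_iff, List.nodup_nil, and_true]
    refine ⟨?_, ?_, ?_, ?_, ?_, ?_, ?_⟩ <;> (clear * - hdm; omega)

/-- **`PSp₄(q)` has at least eight character degrees for `q ≥ 4`.** -/
theorem eight_sp4 (K : Type u) [Field K] [Finite K] (hq : 4 ≤ Nat.card K) : Eight (PSp 2 K) := by
  by_cases h2 : (2 : K) = 0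
  · have hchar : CharP K 2 := CharTwo.of_one_ne_zero_of_two_eq_zero one_ne_zero h2
    let _ := Fintype.ofFinite K
    obtain ⟨s, -, hs⟩ := FiniteField.card K 2
    rw [← Nat.card_eq_fintype_card] at hs
    rcases Nat.lt_or_ge (s : ℕ) 3 with h3 | h3
    · have h4 : (s : ℕ) = 2 := by
        have h5 : ∀ s : ℕ, s < 3 → 4 ≤ 2 ^ s → s = 2 := by decide
        exact h5 s h3 (by rw [← hs]; exact hq)
      rw [h4] at hs
      exact eight_four K hs
    · exact eight_even K (by
        rw [hs]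
        exact (Nat.pow_le_pow_right (by norm_num) h3 : 2 ^ 3 ≤ _)) h2
  · refine eight_odd K ?_ h2
    by_contra h
    have h3 : Nat.card K = 4 := by omega
    have h1 : ((Nat.card K : ℕ) : K) = 0 := by
      let _ := Fintype.ofFinite K
      rw [Nat.card_eq_fintype_card]
      exact FiniteField.cast_card_eq_zero K
    rw [h3] at h1
    push_cast at h1
    have h4 : (2 : K) * 2 = 0 := by linear_combination h1
    rcases mul_eq_zero.1 h4 with h | h <;> exact h2 h

end Cfsg.Agent.H272.Eight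
end

-- part: H733/Eight/FillB
section
/-!
# S4899 : the classical rows
-/

set_option autoImplicit false

open Cfsg Cfsg.Agent.H664.Eight

namespace Cfsg.Agent.H733.Eight

theorem classical_of
    (un : ∀ (F : Type) [Field F] [Fintype F] (n q : ℕ), Fintype.card F = q ^ 2 → 5 ≤ n → ¬ (n = 5 ∧ q = 2) →
      ¬ (n = 6 ∧ q = 2) → ¬ (n = 7 ∧ q = 2) → Eight (PSU n F q))
    (sp : ∀ (F : Type) [Field F] [Fintype F] (m : ℕ), 3 ≤ m → Eight (PSp m F))
    (op : ∀ (F : Type) [Field F] [Fintype F] (m : ℕ), 4 ≤ m → Eight (POmega F (quadFormPlus m F)))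
    (om : ∀ (F : Type) [Field F] [Fintype F] (m : ℕ) (a b : F), 4 ≤ m →
      (∀ z₁ z₂ : F, z₁ ^ 2 + a * z₁ * z₂ + b * z₂ ^ 2 = 0 → z₁ = 0 ∧ z₂ = 0) →
      Eight (POmega F (quadFormMinus (m - 1) F a b))) : Classical where
  alt _ h := H600.EightAlt.eight_alt h
  l3 _ _ _ h := H117.Eight.L3.eight_l3 h
  ln _ _ _ _ h := H289.Eight.eight_ln h
  u3 _ _ _ _ hF hq := eight_u3 hF hq (MulEquiv.refl _)
  u4 _ _ _ _ hF hq := H934.Eight.eight_u4 hF hq
  un := un
  u42 _ _ _ h := H561.Eight.eight_u42 h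
  u52 _ _ _ h := H561.Eight.eight_u52 h
  u62 _ _ _ h := H561.Eight.eight_u62 h
  u72 _ _ _ h := H561.Eight.eight_u72 h
  sp43 _ _ _ h := H561.Eight.eight_sp43 h
  sp4 F _ _ h := H272.Eight.eight_sp4 F (by rwa [Nat.card_eq_fintype_card])
  sp := sp
  oo _ _ _ _ hm ho := H539.Eight.eight_oo ho hm
  op := op
  om := om

end Cfsg.Agent.H733.Eight
end
end

-- part: H925/Eight/PlusAll
section
prune_inst 0x800000010000008000000
set_option linter.all false
open scoped Cfsg.Agent.FastGrp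

-- part: H925/Eight/Ind
section
/-!
# A character of degree prime to `p` from a linear character of a subgroup of index prime to `p` (helper925, S4899)

`exists_pprime` : `f : H →* ℂˣ`, `f ≠ 1`, `f = 1` on the centre, `p ∤ |G : H|` : `G / Z(G)` has an irreducible character
of degree prime to `p`, `≠ 1`, at most `|G : H|`.
-/

set_option autoImplicit false

open scoped ComplexConjugate
open Cfsg

namespace Cfsg.Agent.H925.Eight

open Cfsg.Agent.Characters Cfsg.Agent.H477.HC

universe u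

variable {G : Type u} [Group G] [Finite G]

/-- `∑ χ(1) ⟨χ|_H, λ⟩ = |G : H| λ(1)` -/
theorem sum_one_inner [Fintype (IrrCharacter G)] (H : Subgroup G) [Fintype H] {l : H → ℂ} (hl : ∃ n : ℕ, l 1 = n) :
    ∑ χ : IrrCharacter G, (χ : G → ℂ) 1 * classInner (fun h : H => (χ : G → ℂ) h) l = H.index * l 1 := by
  classical
  have hH : (Nat.card H : ℂ) ≠ 0 := Core.card_ne_zero_complex
  have h1 : ∀ h : H, ∑ χ : IrrCharacter G, (χ : G → ℂ) 1 * (χ : G → ℂ) h = if h = 1 then (Nat.card G : ℂ) else 0 := by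
    intro h
    rw [Counting.sum_irr_one_mul]
    by_cases hh : h = 1
    · subst hh; simp only [_root_.OneMemClass.coe_one, ↓ _root_.reduceIte]
    · have h' : (h : G) ≠ 1 := fun h' => hh (Subtype.ext h')
      rw [if_neg hh, if_neg h']
  have h2 : ∑ χ : IrrCharacter G, (χ : G → ℂ) 1 * classInner (fun h : H => (χ : G → ℂ) h) l =
      (Nat.card H : ℂ)⁻¹ * ∑ h : H, (∑ χ : IrrCharacter G, (χ : G → ℂ) 1 * (χ : G → ℂ) h) * conj (l h) := by
    simp only [Core.classInner_def, Finset.sum_mul, Finset.mul_sum]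
    rw [Finset.sum_comm]
    refine Finset.sum_congr rfl fun h _ => Finset.sum_congr rfl fun χ _ => ?_
    ring
  rw [h2, Finset.sum_congr rfl fun h _ => by rw [h1 h]]
  simp only [ite_mul, zero_mul, Finset.sum_ite_eq', Finset.mem_univ, if_true]
  obtain ⟨n, hn⟩ := hl
  have h3 : (Nat.card G : ℂ) = Nat.card H * H.index := by
    rw [← Nat.cast_mul, Subgroup.card_mul_index]
  rw [hn, map_natCast, h3]
  field_simp

/-- a linear character as a function -/
noncomputable def lin {H : Type*} [Group H] (f : H →* ℂˣ) : H → ℂ := fun h => (f h : ℂ)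

theorem isIrr_lin {H : Type*} [Group H] (f : H →* ℂˣ) : IsIrrCharacter H (lin f) := Linear.isIrrCharacter_hom f

theorem exists_pprime {H : Subgroup G} (f : H →* ℂˣ) (hf : f ≠ 1) {p : ℕ} (hp : ¬ p ∣ H.index)
    (hZ : ∀ z ∈ Subgroup.center G, ∃ hz : z ∈ H, f ⟨z, hz⟩ = 1)
    (hS : ∀ η : G ⧸ Subgroup.center G → ℂ, IsIrrCharacter _ η → η 1 = 1 → η = 1) :
    ∃ e, Ch (G ⧸ Subgroup.center G) e ∧ 1 < e ∧ ¬ p ∣ e ∧ e ≤ H.index := by
  classical
  have := Core.finite_irr (G := G)
  have := Fintype.ofFinite (IrrCharacter G)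
  have := Fintype.ofFinite H
  have := Fintype.ofFinite G
  have hl := isIrr_lin f
  have hm : ∀ χ : IrrCharacter G, ∃ m : ℕ, classInner (fun h : H => (χ : G → ℂ) h) (lin f) = m := fun χ =>
    Core.classInner_isNat (Core.isCharacter_comp H.subtype (Core.isIrr_isCharacter χ.2)) (Core.isIrr_isCharacter hl)
  choose m hm using hm
  have hd : ∀ χ : IrrCharacter G, ∃ n : ℕ, 0 < n ∧ (χ : G → ℂ) 1 = n := fun χ => Core.isIrr_apply_one χ.2
  choose d hd0 hd using hd
  have hl1 : lin f 1 = 1 := by unfold lin; simp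
  have hsum := sum_one_inner H (l := lin f) ⟨1, by rw [hl1]; simp⟩
  have hsum' : ∑ χ : IrrCharacter G, d χ * m χ = H.index := by
    rw [hl1, mul_one] at hsum
    have : ((∑ χ : IrrCharacter G, d χ * m χ : ℕ) : ℂ) = (H.index : ℂ) := by
      rw [← hsum]
      push_cast
      exact Finset.sum_congr rfl fun χ _ => by rw [hd, hm]
    exact_mod_cast this
  obtain ⟨χ, hχ⟩ : ∃ χ : IrrCharacter G, ¬ p ∣ d χ * m χ := by
    by_contra hcon
    push Not at hcon
    exact hp (hsum' ▸ Finset.dvd_sum fun χ _ => hcon χ)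
  have hm0 : m χ ≠ 0 := fun h => hχ (by rw [h, mul_zero]; exact dvd_zero _)
  have hle : d χ ≤ H.index := by
    rw [← hsum']
    calc d χ ≤ d χ * m χ := Nat.le_mul_of_pos_right _ (Nat.pos_of_ne_zero hm0)
      _ ≤ _ := Finset.single_le_sum (f := fun χ => d χ * m χ) (fun _ _ => Nat.zero_le _) (Finset.mem_univ χ)
  have hin : ∑ h : H, (χ : G → ℂ) h * conj (lin f h) ≠ 0 := by
    intro h
    have h1 := hm χ
    rw [Core.classInner_def] at h1
    change _ * ∑ h : H, (χ : G → ℂ) h * conj (lin f h) = _ at h1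
    rw [h, mul_zero] at h1
    exact hm0 (by exact_mod_cast h1.symm)
  have hker : ∀ z ∈ Subgroup.center G, (χ : G → ℂ) z = (χ : G → ℂ) 1 := by
    intro z hz
    obtain ⟨l, hl'⟩ := central_mul χ.2 hz
    obtain ⟨hzH, hfz⟩ := hZ z hz
    have h1 : ∑ h : H, (χ : G → ℂ) h * conj (lin f h) = l * ∑ h : H, (χ : G → ℂ) h * conj (lin f h) := by
      rw [Finset.mul_sum]
      rw [← Equiv.sum_comp (Equiv.mulRight (⟨z, hzH⟩ : H))]
      refine Finset.sum_congr rfl fun h _ => ?_
      have h2 : lin f (h * ⟨z, hzH⟩) = lin f h := by unfold lin; rw [map_mul, hfz, mul_one]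
      rw [Equiv.coe_mulRight, h2, Subgroup.coe_mul, hl' h]
      ring
    have h3 : l = 1 := by
      by_contra hne
      have h4 : (1 - l) * ∑ h : H, (χ : G → ℂ) h * conj (lin f h) = 0 := by
        rw [sub_mul, one_mul, ← h1, sub_self]
      rcases mul_eq_zero.1 h4 with h5 | h5
      · exact hne (sub_eq_zero.1 h5).symm
      · exact hin h5
    have h6 := hl' 1
    rwa [one_mul, h3, one_mul] at h6
  obtain ⟨η, hη, hη'⟩ := exists_quot (Subgroup.center G) χ.2 hker
  refine ⟨d χ, ⟨η, hη, by rw [← hd, ← hη' 1]; rfl⟩, ?_, fun h => hχ (h.mul_right _), hle⟩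
  rcases Nat.eq_or_lt_of_le (Nat.succ_le_iff.2 (hd0 χ)) with h | h
  · exfalso
    have h1 : η 1 = 1 := by
      have h2 := hη' 1
      rw [hd, ← h] at h2
      exact h2.trans (by simp)
    have h3 := hS η hη h1
    have h4 : ∀ g : G, (χ : G → ℂ) g = 1 := fun g => by rw [← hη' g, h3]; rfl
    have h5 : classInner (fun h : H => (χ : G → ℂ) h) (lin f) = classInner (1 : H → ℂ) (lin f) := by
      congr 1
      funext h
      rw [h4]; rfl
    have h6 : (1 : H → ℂ) ≠ lin f := by
      intro h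
      apply hf
      ext x
      have h7 := congrFun h x
      exact h7.symm
    rw [hm, Core.classInner_irr_ne Core.isIrr_one hl h6] at h5
    exact hm0 (by exact_mod_cast h5)
  · exact h

end Cfsg.Agent.H925.Eight
end

-- part: H925/Eight/Om
section
/-!
# The linear character of the stabiliser of a totally singular subspace (helper925, S4899)

`exists_deg` : `f₀ : GL(W₀) →* ℂˣ`, nontrivial on some commutator which leaves `W₀` invariant, trivial on the centre,
`p ∤ |Om k|` : `PΩ` has a degree `e`, `1 < e ≤ |Om k|`, `p ∤ e`.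
-/

set_option autoImplicit false

open scoped ComplexConjugate
open Cfsg

namespace Cfsg.Agent.H925.Eight

open Cfsg.Agent.Characters Cfsg.Agent.H477.HC Cfsg.Agent.H53.HC Module

universe u

theorem card_mul_relIndex {A : Type*} [Group A] {H L : Subgroup A} (h : H ≤ L) :
    Nat.card H * H.relIndex L = Nat.card L := by
  have := Subgroup.relIndex_mul_relIndex ⊥ H L bot_le h
  rwa [Subgroup.relIndex_bot_left, Subgroup.relIndex_bot_left] at this

/-- for a normal subgroup `N`, `|N : P ∩ N|` divides `|A : P|` -/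
theorem relIndex_dvd_index {A : Type*} [Group A] [Finite A] (P N : Subgroup A) [N.Normal] : P.relIndex N ∣ P.index := by
  have h1 : P.relIndex (P ⊔ N) * (P ⊔ N).index = P.index := Subgroup.relIndex_mul_index le_sup_left
  have h2 : N.relIndex (P ⊔ N) = N.relIndex P := by
    rw [sup_comm]; exact Subgroup.relIndex_sup_left P N
  have h3 : Nat.card N * N.relIndex (P ⊔ N) = Nat.card ↥(P ⊔ N) := by
    exact card_mul_relIndex le_sup_right
  have h4 : Nat.card P * P.relIndex (P ⊔ N) = Nat.card ↥(P ⊔ N) := by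
    exact card_mul_relIndex le_sup_left
  have h5 : Nat.card ↥(P ⊓ N) * N.relIndex P = Nat.card P := by
    rw [← Subgroup.inf_relIndex_right, inf_comm N P]
    exact card_mul_relIndex inf_le_left
  have h6 : Nat.card ↥(P ⊓ N) * P.relIndex N = Nat.card N := by
    rw [← Subgroup.inf_relIndex_right]
    exact card_mul_relIndex inf_le_right
  have h7 : 0 < Nat.card ↥(P ⊓ N) := Nat.card_pos
  have h9 : 0 < N.relIndex P := by
    apply Nat.pos_of_ne_zero
    intro h
    rw [h, mul_zero] at h5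
    exact (Nat.card_pos (α := P)).ne h5
  have h8 : P.relIndex (P ⊔ N) = P.relIndex N := by
    rw [h2] at h3
    rw [← h3, ← h5, ← h6] at h4
    have h10 : (Nat.card ↥(P ⊓ N) * N.relIndex P) * P.relIndex (P ⊔ N) =
        (Nat.card ↥(P ⊓ N) * N.relIndex P) * P.relIndex N := by rw [h4]; ring
    exact Nat.eq_of_mul_eq_mul_left (Nat.mul_pos h7 h9) h10
  rw [← h1, h8]
  exact Dvd.intro _ rfl

section

variable {ι : Type} [Fintype ι] [DecidableEq ι] {K : Type u} [Field K] [Finite K] (F : CForm K (ι → K))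
  (hB : ∀ u v, F.B u v = F.Q (u + v) - F.Q u - F.Q v)

/-- `Ω` in the isometry group -/
noncomputable def toIso : Omega K F.Q →* F.iso := (isoQuad F hB).toMonoidHom.comp (Omega K F.Q).subtype

omit [Finite K] in
theorem toIso_apply (g : Omega K F.Q) (v : ι → K) : (toIso F hB g : (ι → K) ≃ₗ[K] (ι → K)) v = (omMat g).mulVec v := rfl

omit [Finite K] in
theorem range_toIso : (toIso F hB).range = commutator F.iso := by
  unfold toIso
  rw [MonoidHom.range_comp, Subgroup.range_subtype]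
  unfold Omega
  have h1 : (isoQuad F hB).toMonoidHom.range = ⊤ := MonoidHom.range_eq_top.2 (isoQuad F hB).surjective
  rw [commutator_def, commutator_def, Subgroup.map_commutator, ← MonoidHom.range_eq_map, h1]

include hB in
theorem exists_deg {p k : ℕ} {W₀ : Submodule K (ι → K)} (hW₀ : W₀ ∈ F.Om k) (f₀ : (W₀ ≃ₗ[K] W₀) →* ℂˣ)
    (x y : F.iso) (z : W₀ ≃ₗ[K] W₀)
    (hz : ∀ w : W₀, ((x * y * x⁻¹ * y⁻¹ : F.iso) : (ι → K) ≃ₗ[K] (ι → K)) (w : ι → K) = (z w : ι → K)) (hfz : f₀ z ≠ 1)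
    (hcen : ∀ z : Omega K F.Q, z ∈ Subgroup.center (Omega K F.Q) → ∃ a : Kˣ, (∀ v, (omMat z).mulVec v = (a : K) • v) ∧
      ∀ u : W₀ ≃ₗ[K] W₀, (∀ w, u w = (a : K) • w) → f₀ u = 1)
    (hp : ¬ p ∣ Nat.card (F.Om k))
    (hS : ∀ η : POmega K F.Q → ℂ, IsIrrCharacter _ η → η 1 = 1 → η = 1) :
    ∃ e, Ch (POmega K F.Q) e ∧ 1 < e ∧ ¬ p ∣ e ∧ e ≤ Nat.card (F.Om k) := by
  classical
  have := finite_Om F k
  have := finite_iso F
  have : Finite (isometryGroup K F.Q) := Finite.of_equiv _ (isoQuad F hB).toEquiv.symm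
  let ρ : Omega K F.Q →* ((ι → K) ≃ₗ[K] (ι → K)) := F.iso.subtype.comp (toIso F hB)
  have hidx : (stabW ρ W₀).index ∣ Nat.card (F.Om k) := by
    have h1 : stabW ρ W₀ = (stabW F.iso.subtype W₀).comap (toIso F hB) := rfl
    have h2 : (stabW F.iso.subtype W₀).index = Nat.card (F.Om k) := by
      have h3 := F.card_iso_eq hW₀
      rw [← Subgroup.index_mul_card (stabW F.iso.subtype W₀)] at h3
      exact Nat.eq_of_mul_eq_mul_right Nat.card_pos h3
    rw [h1, Subgroup.index_comap, ← h2, range_toIso]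
    exact relIndex_dvd_index _ _
  have hpos : 0 < Nat.card (F.Om k) := Nat.pos_of_ne_zero fun h => hp (h ▸ dvd_zero _)
  obtain ⟨e, h1, h2, h3, h4⟩ := exists_pprime (p := p) (f₀.comp (resHom ρ W₀)) (by
    intro hf
    have hg : (x * y * x⁻¹ * y⁻¹ : F.iso) ∈ (toIso F hB).range := by
      rw [range_toIso]
      exact Subgroup.commutator_mem_commutator (Subgroup.mem_top x) (Subgroup.mem_top y)
    obtain ⟨g, hg⟩ := hg
    have hst : g ∈ stabW ρ W₀ := by
      refine map_eq_of_le ρ fun w hw => ?_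
      change ((toIso F hB g : F.iso) : (ι → K) ≃ₗ[K] (ι → K)) w ∈ W₀
      rw [hg, hz ⟨w, hw⟩]
      exact (z ⟨w, hw⟩).2
    have h5 : resHom ρ W₀ ⟨g, hst⟩ = z := by
      refine LinearEquiv.ext fun w => Subtype.ext ?_
      rw [coe_resHom]
      change ((toIso F hB g : F.iso) : (ι → K) ≃ₗ[K] (ι → K)) w = _
      rw [hg, hz w]
    have h6 := DFunLike.congr_fun hf ⟨g, hst⟩
    simp only [MonoidHom.comp_apply, h5] at h6
    exact hfz h6) (fun h => hp (h.trans hidx)) (fun z hz => by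
    obtain ⟨a, ha, ha'⟩ := hcen z hz
    have hst : z ∈ stabW ρ W₀ := by
      refine map_eq_of_le ρ fun w hw => ?_
      change ((toIso F hB z : F.iso) : (ι → K) ≃ₗ[K] (ι → K)) w ∈ W₀
      rw [toIso_apply, ha]
      exact W₀.smul_mem _ hw
    refine ⟨hst, ?_⟩
    rw [MonoidHom.comp_apply]
    apply ha'
    intro w
    apply Subtype.ext
    rw [coe_resHom]
    change ((toIso F hB z : F.iso) : (ι → K) ≃ₗ[K] (ι → K)) w = _
    rw [toIso_apply, ha]
    rfl) hS
  exact ⟨e, h1, h2, h3, h4.trans (Nat.le_of_dvd hpos hidx)⟩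

end

end Cfsg.Agent.H925.Eight
end

-- part: H925/Eight/PtLn
section
/-!
# The degrees from singular points (`q ≥ 4`) and singular lines (`q = 2`) (helper925, S4899)

`exists_deg_point` : `4 ≤ q`, Witt index at least 2, `p ∤ |Om 1|` : a degree `e`, `1 < e ≤ |Om 1|`, `p ∤ e`.
`exists_deg_line` : `q = 2`, Witt index at least 3, `p ∤ |Om 2|` : a degree `e`, `1 < e ≤ |Om 2|`, `p ∤ e`.
-/

set_option autoImplicit false

open scoped ComplexConjugate
open Cfsg

namespace Cfsg.Agent.H925.Eight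

open Cfsg.Agent.Characters Cfsg.Agent.H477.HC Cfsg.Agent.H53.HC Module

universe u

section theta

variable (K : Type u) [Field K] [Finite K]

theorem exists_theta (hq : 4 ≤ Nat.card K) : ∃ (t : Kˣ) (θ : Kˣ →* ℂˣ), θ t ≠ 1 ∧ θ (-1) = 1 := by
  classical
  have hc : 3 ≤ Nat.card Kˣ := by rw [Nat.card_units]; omega
  obtain ⟨t, ht1, ht2⟩ : ∃ t : Kˣ, t ≠ 1 ∧ t ≠ -1 := by
    by_contra hcon
    push Not at hcon
    let _ := Fintype.ofFinite Kˣ
    have h1 : (Finset.univ : Finset Kˣ) ⊆ {1, -1} := by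
      intro x _
      rw [Finset.mem_insert, Finset.mem_singleton]
      by_cases hx : x = 1
      · exact Or.inl hx
      · exact Or.inr (hcon x hx)
    have h2 := (Finset.card_le_card h1).trans Finset.card_le_two
    rw [Finset.card_univ, ← Nat.card_eq_fintype_card] at h2
    omega
  let N : Subgroup Kˣ := Subgroup.zpowers (-1)
  have hN : ∀ x ∈ N, x = 1 ∨ x = -1 := by
    intro x hx
    obtain ⟨n, rfl⟩ := Subgroup.mem_zpowers_iff.1 hx
    rcases Int.even_or_odd n with h | h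
    · exact Or.inl (Even.neg_one_zpow h)
    · exact Or.inr (Odd.neg_one_zpow h)
  have htN : (t : Kˣ ⧸ N) ≠ 1 := by
    rw [Ne, QuotientGroup.eq_one_iff]
    intro h
    rcases hN t h with h | h
    · exact ht1 h
    · exact ht2 h
  obtain ⟨φ, hφ⟩ := CommGroup.exists_apply_ne_one_of_hasEnoughRootsOfUnity (Kˣ ⧸ N) ℂ htN
  refine ⟨t, φ.comp (QuotientGroup.mk' N), hφ, ?_⟩
  rw [MonoidHom.comp_apply]
  have : (QuotientGroup.mk' N) (-1) = 1 := (QuotientGroup.eq_one_iff _).2 (Subgroup.mem_zpowers _)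
  rw [this, map_one]

end theta

section

variable {ι : Type} [Fintype ι] [DecidableEq ι] {K : Type u} [Field K] [Finite K] (F : CForm K (ι → K))
  (hB : ∀ u v, F.B u v = F.Q (u + v) - F.Q u - F.Q v)

omit [Fintype ι] [DecidableEq ι] [Finite K] in
theorem inv_ap (g : F.iso) (v : ι → K) :
    ((g⁻¹ : F.iso) : (ι → K) ≃ₗ[K] (ι → K)) ((g : (ι → K) ≃ₗ[K] (ι → K)) v) = v :=
  (g : (ι → K) ≃ₗ[K] (ι → K)).symm_apply_apply v

omit [Fintype ι] [DecidableEq ι] [Finite K] in
theorem mul_ap (g g' : F.iso) (v : ι → K) : ((g * g' : F.iso) : (ι → K) ≃ₗ[K] (ι → K)) v =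
    (g : (ι → K) ≃ₗ[K] (ι → K)) ((g' : (ι → K) ≃ₗ[K] (ι → K)) v) := rfl

include hB in
theorem exists_deg_point (hq : 4 ≤ Nat.card K) {M : Submodule K (ι → K)} (hM : M ∈ F.Om 2)
    (hcen : ∀ z : Omega K F.Q, z ∈ Subgroup.center (Omega K F.Q) → omMat z = 1 ∨ omMat z = -1) {p : ℕ}
    (hp : ¬ p ∣ Nat.card (F.Om 1))
    (hS : ∀ η : POmega K F.Q → ℂ, IsIrrCharacter _ η → η 1 = 1 → η = 1) :
    ∃ e, Ch (POmega K F.Q) e ∧ 1 < e ∧ ¬ p ∣ e ∧ e ≤ Nat.card (F.Om 1) := by
  classical
  obtain ⟨t, θ, ht, hθ⟩ := exists_theta K hq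
  let b : Basis (Fin 2) K M := finBasisOfFinrankEq K M hM.2
  let a : M ≃ₗ[K] M := b.equiv (b.unitsSMul ![t, 1]) (Equiv.refl _)
  let a' : M ≃ₗ[K] M := b.equiv b (Equiv.swap 0 1)
  obtain ⟨x, hx⟩ := F.exists_levi' hM.1 a
  obtain ⟨y, hy⟩ := F.exists_levi' hM.1 a'
  have hx0 : (x : (ι → K) ≃ₗ[K] (ι → K)) (b 0) = (t : K) • (b 0 : ι → K) := by
    rw [hx, Basis.equiv_apply, Basis.unitsSMul_apply]
    rfl
  have hx1 : (x : (ι → K) ≃ₗ[K] (ι → K)) (b 1) = (b 1 : ι → K) := by
    rw [hx, Basis.equiv_apply, Basis.unitsSMul_apply]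
    simp only [Fin.isValue, Equiv.refl_apply, Matrix.cons_val_one, Matrix.cons_val_fin_one, one_smul]
  have hy0 : (y : (ι → K) ≃ₗ[K] (ι → K)) (b 0) = (b 1 : ι → K) := by
    rw [hy, Basis.equiv_apply, Equiv.swap_apply_left]
  have hy1 : (y : (ι → K) ≃ₗ[K] (ι → K)) (b 1) = (b 0 : ι → K) := by
    rw [hy, Basis.equiv_apply, Equiv.swap_apply_right]
  have hb0 : (b 0 : ι → K) ≠ 0 := fun h => b.ne_zero 0 (Subtype.ext h)
  let W₀ : Submodule K (ι → K) := Submodule.span K {(b 0 : ι → K)}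
  have hW₀ : W₀ ∈ F.Om 1 := ⟨hM.1.mono (by
    rw [Submodule.span_le, Set.singleton_subset_iff]; exact (b 0).2), finrank_span_singleton hb0⟩
  have hyi : ((y⁻¹ : F.iso) : (ι → K) ≃ₗ[K] (ι → K)) (b 0) = (b 1 : ι → K) := by
    rw [← hy1, inv_ap F]
  have hxi : ((x⁻¹ : F.iso) : (ι → K) ≃ₗ[K] (ι → K)) (b 1) = (b 1 : ι → K) := by
    conv_lhs => rw [← hx1]
    rw [inv_ap F]
  have hc : ((x * y * x⁻¹ * y⁻¹ : F.iso) : (ι → K) ≃ₗ[K] (ι → K)) (b 0) = (t : K) • (b 0 : ι → K) := by
    rw [mul_ap F, mul_ap F, mul_ap F, hyi, hxi, hy1, hx0]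
  refine exists_deg F hB hW₀ (θ.comp LinearEquiv.det) x y (LinearEquiv.smulOfUnit t) (fun w => ?_) ?_ (fun z hz => ?_) hp hS
  · obtain ⟨w, hw⟩ := w
    obtain ⟨c, rfl⟩ := Submodule.mem_span_singleton.1 hw
    change ((x * y * x⁻¹ * y⁻¹ : F.iso) : (ι → K) ≃ₗ[K] (ι → K)) (c • (b 0 : ι → K)) = (t : K) • (c • (b 0 : ι → K))
    rw [map_smul, hc, smul_comm]
  · have h1 : LinearEquiv.det (LinearEquiv.smulOfUnit t : W₀ ≃ₗ[K] W₀) = t := by
      apply Units.ext
      rw [LinearEquiv.coe_det]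
      have h2 : ((LinearEquiv.smulOfUnit t : W₀ ≃ₗ[K] W₀) : W₀ →ₗ[K] W₀) = (t : K) • LinearMap.id := rfl
      rw [h2, LinearMap.det_smul, LinearMap.det_id, mul_one, hW₀.2, pow_one]
    rw [MonoidHom.comp_apply, h1]
    exact ht
  · rcases hcen z hz with h | h
    · refine ⟨1, fun v => by rw [h, Matrix.one_mulVec, Units.val_one, one_smul], fun u hu => ?_⟩
      have h1 : u = 1 := LinearEquiv.ext fun w => by rw [hu, Units.val_one, one_smul]; rfl
      rw [h1, map_one]
    · refine ⟨-1, fun v => by rw [h, Matrix.neg_mulVec, Matrix.one_mulVec, Units.val_neg, Units.val_one, neg_smul,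
        one_smul], fun u hu => ?_⟩
      have h1 : LinearEquiv.det u = -1 := by
        apply Units.ext
        rw [LinearEquiv.coe_det]
        have h2 : (u : W₀ →ₗ[K] W₀) = (-1 : K) • LinearMap.id := LinearMap.ext fun w => by
          have := hu w
          rw [Units.val_neg, Units.val_one] at this
          exact this
        rw [h2, LinearMap.det_smul, LinearMap.det_id, mul_one, hW₀.2, pow_one, Units.val_neg, Units.val_one]
      rw [MonoidHom.comp_apply, h1, hθ]

omit [Fintype ι] [DecidableEq ι] in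
theorem two_vals (hq : Nat.card K = 2) (a : K) : a = 0 ∨ a = 1 := by
  classical
  let _ := Fintype.ofFinite K
  by_contra hcon
  push Not at hcon
  have h1 : ({a, 0, 1} : Finset K).card = 3 := by
    rw [Finset.card_insert_of_notMem, Finset.card_insert_of_notMem, Finset.card_singleton]
    · simp only [_root_.Finset.mem_singleton, _root_.zero_ne_one, _root_.not_false_eq_true]
    · simp only [Finset.mem_insert, Finset.mem_singleton, not_or]
      exact ⟨hcon.1, hcon.2⟩
  have h2 := Finset.card_le_univ ({a, 0, 1} : Finset K)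
  rw [h1, ← Nat.card_eq_fintype_card, hq] at h2
  omega

omit [Fintype ι] [DecidableEq ι] in
theorem two_eq_zero (hq : Nat.card K = 2) : (2 : K) = 0 := by
  rcases two_vals (K := K) hq 2 with h | h
  · exact h
  · exfalso
    have : (1 : K) = 0 := by linear_combination h
    exact one_ne_zero this

include hB in
theorem exists_deg_line (hq : Nat.card K = 2) {M : Submodule K (ι → K)} (hM : M ∈ F.Om 3)
    (hcen : ∀ z : Omega K F.Q, z ∈ Subgroup.center (Omega K F.Q) → omMat z = 1 ∨ omMat z = -1) {p : ℕ}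
    (hp : ¬ p ∣ Nat.card (F.Om 2))
    (hS : ∀ η : POmega K F.Q → ℂ, IsIrrCharacter _ η → η 1 = 1 → η = 1) :
    ∃ e, Ch (POmega K F.Q) e ∧ 1 < e ∧ ¬ p ∣ e ∧ e ≤ Nat.card (F.Om 2) := by
  classical
  have h20 := two_eq_zero (K := K) hq
  let b : Basis (Fin 3) K M := finBasisOfFinrankEq K M hM.2
  have hbli := b.linearIndependent
  have hij : ∀ (i j : Fin 3) (c : K), i ≠ j → ∀ w ∈ Submodule.span K {b j}, ((b.coord i).smulRight (b j)) w = 0 := by
    intro i j c hij w hw
    obtain ⟨d, rfl⟩ := Submodule.mem_span_singleton.1 hw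
    rw [LinearMap.smulRight_apply, map_smul, Basis.coord_apply, Basis.repr_self, Finsupp.single_eq_of_ne hij, smul_zero,
      zero_smul]
  have himg : ∀ (i j : Fin 3), ∀ w, ((b.coord i).smulRight (b j)) w ∈ Submodule.span K {b j} := fun i j w => by
    rw [LinearMap.smulRight_apply]
    exact Submodule.smul_mem _ _ (Submodule.mem_span_singleton_self _)
  let a : M ≃ₗ[K] M := oneAdd (Submodule.span K {b 0}) ((b.coord 2).smulRight (b 0)) (himg 2 0)
    (hij 2 0 1 (by decide))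
  let a' : M ≃ₗ[K] M := oneAdd (Submodule.span K {b 2}) ((b.coord 1).smulRight (b 2)) (himg 1 2)
    (hij 1 2 1 (by decide))
  obtain ⟨x, hx⟩ := F.exists_levi' hM.1 a
  obtain ⟨y, hy⟩ := F.exists_levi' hM.1 a'
  have hx' : ∀ i, (x : (ι → K) ≃ₗ[K] (ι → K)) (b i) = (b i : ι → K) + (if i = 2 then (b 0 : ι → K) else 0) := by
    intro i
    rw [hx]
    change ((b i + ((b.coord 2).smulRight (b 0)) (b i) : M) : ι → K) = _
    rw [LinearMap.smulRight_apply, Basis.coord_apply, Basis.repr_self, Finsupp.single_apply]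
    split_ifs <;> simp only [Fin.isValue, one_smul, Submodule.coe_add, zero_smul, add_zero]
  have hy' : ∀ i, (y : (ι → K) ≃ₗ[K] (ι → K)) (b i) = (b i : ι → K) + (if i = 1 then (b 2 : ι → K) else 0) := by
    intro i
    rw [hy]
    change ((b i + ((b.coord 1).smulRight (b 2)) (b i) : M) : ι → K) = _
    rw [LinearMap.smulRight_apply, Basis.coord_apply, Basis.repr_self, Finsupp.single_apply]
    split_ifs <;> simp only [Fin.isValue, one_smul, Submodule.coe_add, zero_smul, add_zero]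
  have hx0 := hx' 0
  have hx1 := hx' 1
  have hx2 := hx' 2
  have hy0 := hy' 0
  have hy1 := hy' 1
  have hy2 := hy' 2
  rw [if_neg (by decide), add_zero] at hx0 hx1 hy0 hy2
  rw [if_pos rfl] at hx2 hy1
  have hxi0 : ((x⁻¹ : F.iso) : (ι → K) ≃ₗ[K] (ι → K)) (b 0) = (b 0 : ι → K) := by
    conv_lhs => rw [← hx0]
    rw [inv_ap F]
  have hxi1 : ((x⁻¹ : F.iso) : (ι → K) ≃ₗ[K] (ι → K)) (b 1) = (b 1 : ι → K) := by
    conv_lhs => rw [← hx1]
    rw [inv_ap F]
  have hxi2 : ((x⁻¹ : F.iso) : (ι → K) ≃ₗ[K] (ι → K)) (b 2) = (b 2 : ι → K) - (b 0 : ι → K) := by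
    have h1 : (b 2 : ι → K) = (x : (ι → K) ≃ₗ[K] (ι → K)) ((b 2 : ι → K) - (b 0 : ι → K)) := by
      rw [map_sub, hx2, hx0, add_sub_cancel_right]
    conv_lhs => rw [h1]
    rw [inv_ap F]
  have hyi0 : ((y⁻¹ : F.iso) : (ι → K) ≃ₗ[K] (ι → K)) (b 0) = (b 0 : ι → K) := by
    conv_lhs => rw [← hy0]
    rw [inv_ap F]
  have hyi1 : ((y⁻¹ : F.iso) : (ι → K) ≃ₗ[K] (ι → K)) (b 1) = (b 1 : ι → K) - (b 2 : ι → K) := by
    have h1 : (b 1 : ι → K) = (y : (ι → K) ≃ₗ[K] (ι → K)) ((b 1 : ι → K) - (b 2 : ι → K)) := by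
      rw [map_sub, hy1, hy2, add_sub_cancel_right]
    conv_lhs => rw [h1]
    rw [inv_ap F]
  have hc0 : ((x * y * x⁻¹ * y⁻¹ : F.iso) : (ι → K) ≃ₗ[K] (ι → K)) (b 0) = (b 0 : ι → K) := by
    rw [mul_ap F, mul_ap F, mul_ap F, hyi0, hxi0, hy0, hx0]
  have hc1 : ((x * y * x⁻¹ * y⁻¹ : F.iso) : (ι → K) ≃ₗ[K] (ι → K)) (b 1) = (b 0 : ι → K) + (b 1 : ι → K) := by
    rw [mul_ap F, mul_ap F, mul_ap F, hyi1]
    simp only [map_sub, map_add, hxi1, hxi2, hy1, hy2, hy0, hx1, hx2, hx0]
    abel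
  set c : F.iso := x * y * x⁻¹ * y⁻¹ with hcdef
  let W₀ : Submodule K (ι → K) := (Submodule.span K {(b 0 : ι → K), (b 1 : ι → K)} :)
  have hmemW : ∀ w, w ∈ W₀ ↔ ∃ r s : K, r • (b 0 : ι → K) + s • (b 1 : ι → K) = w := fun w => Submodule.mem_span_pair
  have hli2 : LinearIndependent K ![(b 0 : ι → K), (b 1 : ι → K)] := by
    rw [LinearIndependent.pair_iff]
    intro r s hrs
    have h1 : r • b 0 + s • b 1 = 0 := Subtype.ext hrs
    have h2 := congrArg (fun w => (b.repr w 0, b.repr w 1)) h1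
    simpa using h2
  have hW₀ : W₀ ∈ F.Om 2 := by
    refine ⟨hM.1.mono ?_, ?_⟩
    · rw [Submodule.span_le]
      rintro _ (rfl | rfl)
      · exact (b 0).2
      · exact (b 1).2
    · have h1 := finrank_span_eq_card hli2
      rw [Fintype.card_fin] at h1
      have h2 : Set.range ![(b 0 : ι → K), (b 1 : ι → K)] = {(b 0 : ι → K), (b 1 : ι → K)} := by
        rw [Matrix.range_cons, Matrix.range_cons, Matrix.range_empty, Set.union_empty]
        rfl
      rw [h2] at h1
      exact h1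
  have hst : W₀.map (F.iso.subtype c : (ι → K) →ₗ[K] (ι → K)) = W₀ := by
    refine map_eq_of_le F.iso.subtype fun w hw => ?_
    obtain ⟨r, s, rfl⟩ := (hmemW w).1 hw
    change (c : (ι → K) ≃ₗ[K] (ι → K)) (r • (b 0 : ι → K) + s • (b 1 : ι → K)) ∈ W₀
    rw [map_add, map_smul, map_smul, hc0, hc1]
    exact (hmemW _).2 ⟨r + s, s, by rw [add_smul, smul_add]; abel⟩
  let z : W₀ ≃ₗ[K] W₀ := res (F.iso.subtype c) W₀ hst
  have : Finite W₀ := inferInstance
  let _ := Fintype.ofFinite W₀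
  let f₀ : (W₀ ≃ₗ[K] W₀) →* ℂˣ := (Units.map (Int.castRingHom ℂ).toMonoidHom).comp
    (Equiv.Perm.sign.comp (MulAction.toPermHom (W₀ ≃ₗ[K] W₀) W₀))
  refine exists_deg F hB hW₀ f₀ x y z (fun w => rfl) ?_ (fun z hz => ?_) hp hS
  · have hb0 : (b 0 : ι → K) ∈ W₀ := (hmemW _).2 ⟨1, 0, by rw [one_smul, zero_smul, add_zero]⟩
    have hb1 : (b 1 : ι → K) ∈ W₀ := (hmemW _).2 ⟨0, 1, by rw [one_smul, zero_smul, zero_add]⟩
    let u0 : W₀ := ⟨b 0, hb0⟩
    let u1 : W₀ := ⟨b 1, hb1⟩
    have hu0 : u0 ≠ 0 := fun h => b.ne_zero 0 (Subtype.ext ((congrArg (fun w : W₀ => (w : ι → K)) h :)))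
    have hu1 : u1 ≠ 0 := fun h => b.ne_zero 1 (Subtype.ext (congrArg (fun w : W₀ => (w : ι → K)) h))
    have hu01 : u0 ≠ u1 := fun h => by
      have h1 : b 0 = b 1 := Subtype.ext (congrArg (fun w : W₀ => (w : ι → K)) h)
      exact absurd (b.injective h1) (by decide)
    have hz0 : z u0 = u0 := Subtype.ext hc0
    have hz1 : z u1 = u0 + u1 := Subtype.ext hc1
    have hdbl : ∀ w : W₀, w + w = 0 := fun w => by rw [← two_smul K w, h20, zero_smul]
    have hsw : MulAction.toPermHom (W₀ ≃ₗ[K] W₀) W₀ z = Equiv.swap u1 (u0 + u1) := by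
      refine Equiv.ext fun w => ?_
      change z w = _
      have hw : w = 0 ∨ w = u0 ∨ w = u1 ∨ w = u0 + u1 := by
        obtain ⟨r, s, hrs⟩ := (hmemW w).1 w.2
        rcases two_vals (K := K) hq r with rfl | rfl <;> rcases two_vals (K := K) hq s with rfl | rfl
        · exact Or.inl (Subtype.ext (by rw [← hrs]; simp only [Fin.isValue, zero_smul, add_zero, ZeroMemClass.coe_zero]))
        · exact Or.inr (Or.inr (Or.inl (Subtype.ext (by rw [← hrs]; simp only [Fin.isValue, zero_smul, one_smul, zero_add, u1]))))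
        · exact Or.inr (Or.inl (Subtype.ext (by rw [← hrs]; simp only [Fin.isValue, one_smul, zero_smul, add_zero, u0])))
        · exact Or.inr (Or.inr (Or.inr (Subtype.ext (by rw [← hrs]; simp only [Fin.isValue, one_smul, AddMemClass.mk_add_mk,
            u0, u1]))))
      rcases hw with rfl | rfl | rfl | rfl
      · rw [map_zero, Equiv.swap_apply_of_ne_of_ne hu1.symm]
        intro h
        apply hu01
        calc u0 = u0 + (u1 + u1) := by rw [hdbl, add_zero]
          _ = (u0 + u1) + u1 := by abel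
          _ = u1 := by rw [← h, zero_add]
      · rw [hz0, Equiv.swap_apply_of_ne_of_ne hu01]
        intro h
        exact hu1 (left_eq_add.1 h)
      · rw [hz1, Equiv.swap_apply_left]
      · rw [map_add, hz0, hz1, Equiv.swap_apply_right, ← add_assoc, hdbl, zero_add]
    have hne : u1 ≠ u0 + u1 := fun h => hu0 (right_eq_add.1 h)
    have hfz : f₀ z = -1 := by
      apply Units.ext
      change ((Equiv.Perm.sign (MulAction.toPermHom (W₀ ≃ₗ[K] W₀) W₀ z) : ℤˣ) : ℤ) = (_ : ℂ)
      rw [hsw, Equiv.Perm.sign_swap hne]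
      simp
    rw [hfz]
    intro h
    have := congrArg Units.val h
    norm_num at this
  · have hz1 : omMat z = 1 := by
      rcases hcen z hz with h | h
      · exact h
      · rw [h]
        ext i j
        have h3 : (-1 : K) = 1 := by linear_combination -h20
        simp only [Matrix.neg_apply, Matrix.one_apply]
        split_ifs
        · exact h3
        · exact neg_zero
    refine ⟨1, fun v => by rw [hz1, Matrix.one_mulVec, Units.val_one, one_smul], fun u hu => ?_⟩
    have h1 : u = 1 := LinearEquiv.ext fun w => by rw [hu, Units.val_one, one_smul]; rfl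
    rw [h1, map_one]

end

end Cfsg.Agent.H925.Eight
end

-- part: H925/Eight/Num
section
/-!
# The sizes of the degrees `dg (plusF K m) k` (helper925, S4899)
-/

set_option autoImplicit false

open Cfsg

namespace Cfsg.Agent.H925.Eight

open Cfsg.Agent.H477.HC Cfsg.Agent.H674.Dl Module

universe u

/-- the factor -/
def rf (q i : ℕ) : ℕ := (q ^ (i + 1) - 1) * (q ^ i + 1)

def RR (q j m : ℕ) : ℕ := ∏ i ∈ Finset.Ico j m, rf q i

theorem rf_pos {q i : ℕ} (hq : 2 ≤ q) : 0 < rf q i := by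
  have h1 : 1 < q ^ (i + 1) := Nat.one_lt_pow (by omega) hq
  exact Nat.mul_pos (by omega) (by omega)

theorem RR_pos {q : ℕ} (hq : 2 ≤ q) (j m : ℕ) : 0 < RR q j m := Finset.prod_pos fun _ _ => rf_pos hq

theorem RR_split {q j l m : ℕ} (h1 : j ≤ l) (h2 : l ≤ m) : RR q j m = RR q j l * RR q l m :=
  (Finset.prod_Ico_consecutive _ h1 h2).symm

theorem RR_succ {q j m : ℕ} (h : j < m) : RR q j m = rf q j * RR q (j + 1) m := Finset.prod_eq_prod_Ico_succ_bot h _

theorem RR_self (q m : ℕ) : RR q m m = 1 := by unfold RR; rw [Finset.Ico_self, Finset.prod_empty]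

section

variable (K : Type u) [Field K] [Finite K]

theorem dg_eq {k m : ℕ} (hk : 1 ≤ k) (hkm : k ≤ m) :
    dg (CForm.plusF K m) k * (Nat.card K ^ k - 1) = RR (Nat.card K) (m - k) m := by
  obtain ⟨n, rfl⟩ : ∃ n, m = k + n := ⟨m - k, by omega⟩
  rw [Nat.add_sub_cancel_left]
  exact H539.Eight.dg_plus K hk n

variable (p : ℕ) [Fact p.Prime] [CharP K p]

theorem pp_rf {i : ℕ} (hi : 0 < i) : pp p (rf (Nat.card K) i) = rf (Nat.card K) i := by
  unfold rf
  rw [pp_mul, pp_sub K p (by omega), pp_add K p hi]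

theorem not_dvd_rf {i : ℕ} (hi : 0 < i) : ¬ p ∣ rf (Nat.card K) i := by
  obtain ⟨s, hs, hs0⟩ := card_pow' K p
  unfold rf
  rw [(Fact.out : p.Prime).dvd_mul, not_or]
  exact ⟨not_dvd_pow_sub Fact.out hs hs0 (by omega), not_dvd_pow_add Fact.out hs hs0 hi⟩

theorem pp_RR {j m : ℕ} (hj : 0 < j) : pp p (RR (Nat.card K) j m) = RR (Nat.card K) j m := by
  unfold RR
  rw [pp_prod Fact.out]
  exact Finset.prod_congr rfl fun i hi => pp_rf K p (by rw [Finset.mem_Ico] at hi; omega)

theorem not_dvd_RR {j m : ℕ} (hj : 0 < j) : ¬ p ∣ RR (Nat.card K) j m := by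
  unfold RR
  rw [(Fact.out : p.Prime).prime.dvd_finsetProd_iff]
  rintro ⟨i, hi, h⟩
  exact not_dvd_rf K p (by rw [Finset.mem_Ico] at hi; omega) h

theorem not_dvd_dg {k m : ℕ} (hk : 1 ≤ k) (hkm : k < m) : ¬ p ∣ dg (CForm.plusF K m) k := fun h =>
  not_dvd_RR K p (show 0 < m - k by omega) (dg_eq K hk hkm.le ▸ h.mul_right _)

theorem pp_dg_eq {k m : ℕ} (hk : 1 ≤ k) (hkm : k ≤ m) :
    pp p (dg (CForm.plusF K m) k) * (Nat.card K ^ k - 1) = pp p (RR (Nat.card K) (m - k) m) := by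
  rw [← dg_eq K hk hkm, pp_mul, pp_sub K p hk]

theorem ineq_top {q m : ℕ} (hq : 2 ≤ q) (hm : 4 ≤ m) : q ^ m - 1 < rf q (m - 3) * (q ^ 2 - 1) := by
  have h1 : q ≤ q ^ (m - 3) := by
    calc q = q ^ 1 := (pow_one q).symm
      _ ≤ _ := Nat.pow_le_pow_right (by omega) (by omega)
  have h2 : q ^ (m - 3 + 1) = q * q ^ (m - 3) := pow_succ' _ _
  have h3 : q ^ m = q ^ 3 * q ^ (m - 3) := by rw [← pow_add]; congr 1; omega
  unfold rf
  rw [h2, h3]
  obtain ⟨x, hx⟩ : ∃ x, q ^ (m - 3) = q + x := ⟨q ^ (m - 3) - q, by omega⟩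
  obtain ⟨y, rfl⟩ : ∃ y, q = y + 2 := ⟨q - 2, by omega⟩
  rw [hx]
  have e1 : (y + 2) ^ 2 - 1 = y * y + 4 * y + 3 := by
    have : (y + 2) ^ 2 = y * y + 4 * y + 4 := by ring
    omega
  have e2 : (y + 2) * (y + 2 + x) - 1 = y * y + 4 * y + 3 + (y + 2) * x := by
    have : (y + 2) * (y + 2 + x) = y * y + 4 * y + 4 + (y + 2) * x := by ring
    omega
  rw [e1, e2]
  refine lt_of_le_of_lt (Nat.sub_le _ _) ?_
  linarith only [Nat.zero_le (x * y), Nat.zero_le (x * x * y), Nat.zero_le (x * y * y), Nat.zero_le (x * x * y * y), Nat.zero_le (x * y * y * y), Nat.zero_le (y * y * y * y), Nat.zero_le (y * y * y), Nat.zero_le (x * x * y * y * y), Nat.zero_le (x * y * y * y * y), Nat.zero_le (y * y * y * y * y), _root_.mul_self_nonneg (↑y : ℤ), _root_.mul_self_nonneg (↑x : ℤ), _root_.Nat.cast_nonneg (α := ℤ) (y), _root_.Nat.cast_nonneg (α := ℤ) (x)]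

/-- **`dg 2` is the smallest** -/
theorem dg_two_lt {m k : ℕ} (hm : 4 ≤ m) (hk : 3 ≤ k) (hkm : k ≤ m) :
    pp p (dg (CForm.plusF K m) 2) < pp p (dg (CForm.plusF K m) k) := by
  have hq : 2 ≤ Nat.card K := Finite.one_lt_card
  have h1 := pp_dg_eq K p (show 1 ≤ k by omega) hkm
  have h2 := pp_dg_eq K p (show 1 ≤ 2 by omega) (show 2 ≤ m by omega)
  rw [pp_RR K p (by omega)] at h2
  have h3 : pp p (RR (Nat.card K) (m - k) m) = pp p (RR (Nat.card K) (m - k) (m - 3)) *
      (rf (Nat.card K) (m - 3) * RR (Nat.card K) (m - 2) m) := by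
    rw [RR_split (show m - k ≤ m - 3 by omega) (show m - 3 ≤ m by omega), pp_mul,
      RR_succ (show m - 3 < m by omega), pp_mul, pp_rf K p (by omega), show m - 3 + 1 = m - 2 by omega,
      pp_RR K p (j := m - 2) (m := m) (by omega)]
  have h4 : 0 < pp p (RR (Nat.card K) (m - k) (m - 3)) := pp_pos (RR_pos hq _ _).ne'
  have h5 := ineq_top hq hm
  have h6 : 0 < pp p (dg (CForm.plusF K m) 2) := by
    apply Nat.pos_of_ne_zero
    intro h
    rw [h, zero_mul] at h2
    exact (RR_pos hq _ _).ne h2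
  have h7 : Nat.card K ^ k - 1 ≤ Nat.card K ^ m - 1 := by
    have := Nat.pow_le_pow_right (show 0 < Nat.card K by omega) hkm
    omega
  have h8 : pp p (dg (CForm.plusF K m) 2) * (Nat.card K ^ k - 1) < pp p (dg (CForm.plusF K m) k) * (Nat.card K ^ k - 1) := by
    calc pp p (dg (CForm.plusF K m) 2) * (Nat.card K ^ k - 1)
        ≤ pp p (dg (CForm.plusF K m) 2) * (Nat.card K ^ m - 1) := Nat.mul_le_mul_left _ h7
      _ < pp p (dg (CForm.plusF K m) 2) * (rf (Nat.card K) (m - 3) * (Nat.card K ^ 2 - 1)) :=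
          Nat.mul_lt_mul_of_pos_left h5 h6
      _ = 1 * (rf (Nat.card K) (m - 3) * RR (Nat.card K) (m - 2) m) := by rw [← h2]; ring
      _ ≤ pp p (RR (Nat.card K) (m - k) (m - 3)) * (rf (Nat.card K) (m - 3) * RR (Nat.card K) (m - 2) m) :=
          Nat.mul_le_mul_right _ h4
      _ = _ := by rw [h1, h3]
  exact lt_of_mul_lt_mul_right h8 (Nat.zero_le _)

theorem RR_two (q m : ℕ) (hm : 2 ≤ m) : RR q (m - 2) m = rf q (m - 2) * rf q (m - 1) := by
  rw [RR_succ (show m - 2 < m by omega), show m - 2 + 1 = m - 1 by omega, RR_succ (show m - 1 < m by omega),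
    show m - 1 + 1 = m by omega, RR_self, mul_one]

theorem dg_two_eq {m : ℕ} (hm : 3 ≤ m) : pp p (dg (CForm.plusF K m) 2) * (Nat.card K ^ 2 - 1) =
    rf (Nat.card K) (m - 2) * rf (Nat.card K) (m - 1) := by
  rw [pp_dg_eq K p (by omega) (by omega), pp_RR K p (by omega), RR_two _ _ (by omega)]

omit [Fact p.Prime] [CharP K p] in
theorem dg_one_eq {m : ℕ} (hm : 1 ≤ m) : dg (CForm.plusF K m) 1 * (Nat.card K - 1) = rf (Nat.card K) (m - 1) := by
  have := dg_eq K (k := 1) (m := m) le_rfl hm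
  rw [pow_one, RR_succ (show m - 1 < m by omega), show m - 1 + 1 = m by omega, RR_self, mul_one] at this
  exact this

/-- the number of singular points is small -/
theorem dg_one_lt {m : ℕ} (hm : 4 ≤ m) : 4 * dg (CForm.plusF K m) 1 < pp p (dg (CForm.plusF K m) 2) := by
  have hq : 2 ≤ Nat.card K := Finite.one_lt_card
  have h1 := dg_one_eq K (m := m) (by omega)
  have h2 := dg_two_eq K p (m := m) (by omega)
  set d := dg (CForm.plusF K m) 1
  set D := pp p (dg (CForm.plusF K m) 2)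
  set q := Nat.card K
  obtain ⟨y, hy⟩ : ∃ y, q = y + 2 := ⟨q - 2, by omega⟩
  have hd : 0 < d := by
    apply Nat.pos_of_ne_zero
    intro h
    rw [h, zero_mul] at h1
    exact (rf_pos hq).ne h1
  have e1 : q ^ 2 - 1 = (q - 1) * (q + 1) := by
    rw [hy]
    have : (y + 2) ^ 2 = (y + 1) * (y + 3) + 1 := by ring
    rw [this, Nat.add_sub_cancel]
    rfl
  have h3 : D * (q + 1) = rf q (m - 2) * d := by
    have h4 : (D * (q + 1)) * (q - 1) = (rf q (m - 2) * d) * (q - 1) := by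
      calc (D * (q + 1)) * (q - 1) = D * (q ^ 2 - 1) := by rw [e1]; ring
        _ = rf q (m - 2) * rf q (m - 1) := h2
        _ = _ := by rw [← h1]; ring
    exact Nat.eq_of_mul_eq_mul_right (by omega) h4
  have h5 : 4 * (q + 1) < rf q (m - 2) := by
    have h6 : q ^ 3 ≤ q ^ (m - 2 + 1) := Nat.pow_le_pow_right (by omega) (by omega)
    have h7 : q ^ 2 ≤ q ^ (m - 2) := Nat.pow_le_pow_right (by omega) (by omega)
    have h8 : (q ^ 3 - 1) * (q ^ 2 + 1) ≤ rf q (m - 2) := Nat.mul_le_mul (by omega) (by omega)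
    refine lt_of_lt_of_le ?_ h8
    have h9 : 7 ≤ q ^ 3 - 1 := by
      have : 2 ^ 3 ≤ q ^ 3 := Nat.pow_le_pow_left hq 3
      omega
    refine lt_of_lt_of_le ?_ (Nat.mul_le_mul_right _ h9)
    rw [hy]
    nlinarith only []
  have h6 : (4 * d) * (q + 1) < D * (q + 1) := by
    rw [h3]
    calc (4 * d) * (q + 1) = (4 * (q + 1)) * d := by ring
      _ < _ := Nat.mul_lt_mul_of_pos_right h5 hd
  exact lt_of_mul_lt_mul_right h6 (Nat.zero_le _)

/-- the two characters of the rank 3 action -/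
theorem rk3_small {m : ℕ} (hm : 4 ≤ m) {a b : ℕ}
    (ha : ((Nat.card K : ℤ) ^ 2 - 1) * a = Nat.card K * (Nat.card K ^ (m - 2) + 1) * ((Nat.card K : ℤ) ^ m - 1))
    (hb : ((Nat.card K : ℤ) ^ 2 - 1) * b = Nat.card K ^ 2 * ((Nat.card K : ℤ) ^ (2 * m - 2) - 1)) :
    p ∣ a ∧ p ∣ b ∧ a ≠ b ∧ 1 < pp p a ∧ 1 < pp p b ∧ 4 * pp p a < pp p (dg (CForm.plusF K m) 2) ∧
      4 * pp p b < pp p (dg (CForm.plusF K m) 2) := by
  have hq : 2 ≤ Nat.card K := Finite.one_lt_card
  obtain ⟨s, hs, hs0⟩ := card_pow' K p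
  have hpq : p ∣ Nat.card K := by rw [hs]; exact dvd_pow_self p hs0
  have h1 : 1 ≤ Nat.card K ^ m := Nat.one_le_pow _ _ (by omega)
  have h2 : 1 ≤ Nat.card K ^ 2 := Nat.one_le_pow _ _ (by omega)
  have h3 : 1 ≤ Nat.card K ^ (2 * m - 2) := Nat.one_le_pow _ _ (by omega)
  have ha' : (Nat.card K ^ 2 - 1) * a = Nat.card K ^ 1 * ((Nat.card K ^ (m - 2) + 1) * (Nat.card K ^ m - 1)) := by
    zify [h1, h2]
    rw [ha]
    ring
  have hb' : (Nat.card K ^ 2 - 1) * b = Nat.card K ^ 2 * (Nat.card K ^ (2 * m - 2) - 1) := by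
    zify [h2, h3]
    rw [hb]
  have hpa := congrArg (pp p) ha'
  have hpb := congrArg (pp p) hb'
  rw [pp_mul, pp_sub K p (by norm_num), pp_q K p, pp_mul, pp_add K p (by omega), pp_sub K p (by omega)] at hpa
  rw [pp_mul, pp_sub K p (by norm_num), pp_q K p, pp_sub K p (by omega)] at hpb
  have hcop : ¬ p ∣ Nat.card K ^ 2 - 1 := not_dvd_pow_sub Fact.out hs hs0 (by norm_num)
  have hp : p.Prime := Fact.out
  have hda : p ∣ a := by
    have h4 : p ∣ (Nat.card K ^ 2 - 1) * a := by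
      rw [ha', pow_one]
      exact hpq.mul_right _
    exact (hp.dvd_mul.1 h4).resolve_left hcop
  have hdb : p ∣ b := by
    have h4 : p ∣ (Nat.card K ^ 2 - 1) * b := by
      rw [hb']
      exact (hpq.trans (dvd_pow_self _ (by norm_num))).mul_right _
    exact (hp.dvd_mul.1 h4).resolve_left hcop
  have hD := dg_two_eq K p (m := m) (by omega)
  set D := pp p (dg (CForm.plusF K m) 2)
  set q := Nat.card K
  set A := pp p a
  set B := pp p b
  -- the powers
  obtain ⟨x, hx⟩ : ∃ x, q ^ (m - 2) = q * q + x := ⟨q ^ (m - 2) - q * q, by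
    have : q ^ 2 ≤ q ^ (m - 2) := Nat.pow_le_pow_right (by omega) (by omega)
    rw [sq] at this
    omega⟩
  have e1 : q ^ m = q * q * (q * q + x) := by
    rw [← hx, ← sq, ← pow_add]; congr 1; omega
  have e2 : q ^ (2 * m - 2) = q ^ 2 * ((q * q + x) * (q * q + x)) := by
    rw [← hx, ← pow_add, ← pow_add]; congr 1; omega
  have e3 : rf q (m - 2) * rf q (m - 1) = (q ^ (2 * m - 2) - 1) * ((q ^ (m - 2) + 1) * (q ^ m - 1)) := by
    unfold rf
    rw [show m - 2 + 1 = m - 1 by omega, show m - 1 + 1 = m by omega]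
    have e4 : q ^ (2 * m - 2) - 1 = (q ^ (m - 1) - 1) * (q ^ (m - 1) + 1) := by
      obtain ⟨w, hw⟩ : ∃ w, q ^ (m - 1) = w + 1 := ⟨q ^ (m - 1) - 1, by
        have := Nat.one_le_pow (m - 1) q (by omega); omega⟩
      rw [show 2 * m - 2 = (m - 1) + (m - 1) by omega, pow_add, hw, Nat.add_sub_cancel,
        show (w + 1) * (w + 1) = w * (w + 1 + 1) + 1 by ring, Nat.add_sub_cancel]
    rw [e4]
    ring
  rw [e3] at hD
  have hq2 : 3 ≤ q ^ 2 - 1 := by
    have : 2 ^ 2 ≤ q ^ 2 := Nat.pow_le_pow_left hq 2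
    omega
  have hq2' : q ^ 2 - 1 + 1 = q ^ 2 := by omega
  have hqq : q * q = q ^ 2 := (sq q).symm
  have hA : D = A * (q ^ (2 * m - 2) - 1) := by
    have h4 : D * (q ^ 2 - 1) = (A * (q ^ (2 * m - 2) - 1)) * (q ^ 2 - 1) := by
      rw [hD, ← hpa]; ring
    exact Nat.eq_of_mul_eq_mul_right (by omega) h4
  have hB : D = B * ((q ^ (m - 2) + 1) * (q ^ m - 1)) := by
    have h4 : D * (q ^ 2 - 1) = (B * ((q ^ (m - 2) + 1) * (q ^ m - 1))) * (q ^ 2 - 1) := by
      rw [hD, ← hpb]; ring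
    exact Nat.eq_of_mul_eq_mul_right (by omega) h4
  have hq4 : 16 ≤ q ^ m := by
    calc 16 = 2 ^ 4 := by norm_num
      _ ≤ q ^ 4 := Nat.pow_le_pow_left hq 4
      _ ≤ _ := Nat.pow_le_pow_right (by omega) hm
  have hq6 : 64 ≤ q ^ (2 * m - 2) := by
    calc 64 = 2 ^ 6 := by norm_num
      _ ≤ q ^ 6 := Nat.pow_le_pow_left hq 6
      _ ≤ _ := Nat.pow_le_pow_right (by omega) (by omega)
  have hA1 : 1 < A := by
    by_contra h
    have h4 : A ≤ 1 := not_lt.1 h
    have h5 : (q ^ (m - 2) + 1) * (q ^ m - 1) ≤ q ^ 2 - 1 := by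
      rw [← hpa]
      calc (q ^ 2 - 1) * A ≤ (q ^ 2 - 1) * 1 := Nat.mul_le_mul_left _ h4
        _ = _ := mul_one _
    have h6 : q ^ 2 < q ^ (m - 2) + 1 := by rw [hx, ← hqq]; omega
    have h7 : q ^ (m - 2) + 1 ≤ (q ^ (m - 2) + 1) * (q ^ m - 1) := Nat.le_mul_of_pos_right _ (by omega)
    omega
  have hB1 : 1 < B := by
    by_contra h
    have h4 : B ≤ 1 := not_lt.1 h
    have h5 : q ^ (2 * m - 2) - 1 ≤ q ^ 2 - 1 := by
      rw [← hpb]
      calc (q ^ 2 - 1) * B ≤ (q ^ 2 - 1) * 1 := Nat.mul_le_mul_left _ h4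
        _ = _ := mul_one _
    have h6 : q ^ 2 < q ^ (2 * m - 2) := Nat.pow_lt_pow_right hq (by omega)
    omega
  refine ⟨hda, hdb, fun hab => ?_, hA1, hB1, ?_, ?_⟩
  · -- equal prime-to-p parts
    have h4 : A = B := congrArg (pp p) hab
    have h5 : (q ^ (m - 2) + 1) * (q ^ m - 1) = q ^ (2 * m - 2) - 1 := by rw [← hpa, ← hpb, h4]
    rw [hx, e1, e2] at h5
    have h6 : q * q * (q * q + x) - 1 + 1 = q * q * (q * q + x) := Nat.sub_add_cancel (by rw [← e1]; omega)
    have h7 : q ^ 2 * ((q * q + x) * (q * q + x)) - 1 + 1 = q ^ 2 * ((q * q + x) * (q * q + x)) :=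
      Nat.sub_add_cancel (by rw [← e2]; omega)
    set u := q * q * (q * q + x) - 1
    have h8 : (q * q + x + 1) * u + 1 = q ^ 2 * ((q * q + x) * (q * q + x)) := by rw [h5, h7]
    have h9 : (q * q + x + 1) * (u + 1) = q ^ 2 * ((q * q + x) * (q * q + x)) + (q * q + x) := by
      rw [← h8]; ring
    rw [h6] at h9
    have h10 : (q * q + x + 1) * (q * q * (q * q + x)) = q ^ 2 * ((q * q + x) * (q * q + x)) + q ^ 2 * (q * q + x) := by ring
    rw [h10] at h9
    have h11 : q ^ 2 * (q * q + x) = q * q + x := Nat.add_left_cancel h9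
    have h12 : 0 < q * q + x := by rw [← hx]; exact Nat.pow_pos (by omega)
    have h13 : 4 * (q * q + x) ≤ q ^ 2 * (q * q + x) := Nat.mul_le_mul_right _ (by omega)
    omega
  · rw [hA, mul_comm 4 A]
    exact Nat.mul_lt_mul_of_pos_left (by omega) (by omega)
  · rw [hB, mul_comm 4 B]
    refine Nat.mul_lt_mul_of_pos_left ?_ (by omega)
    have h7 : q ^ m - 1 ≤ (q ^ (m - 2) + 1) * (q ^ m - 1) := Nat.le_mul_of_pos_left _ (by omega)
    omega

end

end Cfsg.Agent.H925.Eight
end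

-- part: H925/Eight/Plus
section
/-!
# `PΩ⁺` has at least eight character degrees (helper925, S4899)
-/

set_option autoImplicit false

open Cfsg

namespace Cfsg.Agent.H925.Eight

open Cfsg.Agent.Characters Cfsg.Agent.H477.HC Cfsg.Agent.H674.Dl Cfsg.Agent.H664.Eight Module

universe u

theorem mem_of_ch {S : Type u} [Group S] {d : ℕ} (h : Ch S d) : d ∈ charDegrees S := by
  obtain ⟨χ, hχ, hd⟩ := h
  refine ⟨⟨χ, hχ⟩, ?_⟩
  show charDegree χ = d
  unfold charDegree
  rw [hd]
  simp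

theorem ch_pos {S : Type u} [Group S] {d : ℕ} (h : Ch S d) : 0 < d := by
  obtain ⟨χ, hχ, hd⟩ := h
  obtain ⟨n, hn, hn'⟩ := Core.isIrr_apply_one hχ
  have : (d : ℂ) = n := hd.symm.trans hn'
  have h1 : d = n := by exact_mod_cast this
  omega

/-- the linear characters of a simple group with a degree `> 1` are trivial -/
theorem lin_trivial {S : Type u} [Group S] [Finite S] [IsSimpleGroup S] {a : ℕ} (ha : Ch S a) (h1 : 1 < a)
    (η : S → ℂ) (hη : IsIrrCharacter S η) (hη1 : η 1 = 1) : η = 1 := by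
  obtain ⟨f, rfl⟩ := Linear.exists_hom_of_isIrrCharacter hη hη1
  rcases f.normal_ker.eq_bot_or_eq_top with h | h
  · exfalso
    have hinj : Function.Injective f := (MonoidHom.ker_eq_bot_iff f).1 h
    have hcomm : ∀ x y : S, x * y = y * x := fun x y => hinj (by rw [map_mul, map_mul, mul_comm])
    obtain ⟨χ, ⟨n, ρ, hρ, rfl⟩, hχ1⟩ := ha
    have h2 := Ito.finrank_dvd_index ρ ⊤ fun x _ y _ => hcomm x y
    rw [Subgroup.index_top, Nat.dvd_one, Module.finrank_fin_fun] at h2
    have h3 : ρ.character 1 = (n : ℂ) := by rw [Representation.char_one]; simp only [finrank_fintype_fun_eq_card,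
        Fintype.card_fin]
    have h4 : (a : ℂ) = n := hχ1.symm.trans h3
    have h5 : a = n := by exact_mod_cast h4
    omega
  · funext g
    have : g ∈ f.ker := by rw [h]; exact Subgroup.mem_top g
    rw [MonoidHom.mem_ker] at this
    simp [this]

/-- the characters `Dn` and some others -/
theorem eight_of_dn {S : Type u} [Group S] [Finite S] {p q : ℕ} {d : ℕ → ℕ} (T X : Finset ℕ)
    (hT : ∀ k ∈ T, ∃ e, Dn S p q (d k) e)
    (hsep : ∀ j ∈ T, ∀ k ∈ T, j ≠ k → ∀ e e', Dn S p q (d j) e → Dn S p q (d k) e' → e ≠ e')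
    (hX : ∀ x ∈ X, Ch S x) (hXT : ∀ x ∈ X, ∀ k ∈ T, ∀ e, Dn S p q (d k) e → x ≠ e) (h8 : 8 ≤ T.card + X.card) :
    Eight S := by
  classical
  choose! e he using hT
  have hinj : Set.InjOn e T := by
    intro j hj k hk h
    by_contra hne
    exact hsep j hj k hk hne _ _ (he j hj) (he k hk) h
  have hdisj : Disjoint (T.image e) X := by
    rw [Finset.disjoint_left]
    intro x hx hx'
    obtain ⟨k, hk, rfl⟩ := Finset.mem_image.1 hx
    exact hXT _ hx' k hk _ (he k hk) rfl
  have h1 : (T.image e ∪ X).card = T.card + X.card := by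
    rw [Finset.card_union_of_disjoint hdisj, Finset.card_image_of_injOn hinj]
  refine eight_of_finset (T.image e ∪ X) (by rw [h1]; exact h8) fun x hx => ?_
  rcases Finset.mem_union.1 hx with h | h
  · obtain ⟨k, hk, rfl⟩ := Finset.mem_image.1 h
    exact mem_of_ch (he k hk).1
  · exact mem_of_ch (hX x h)

section

variable (K : Type u) [Field K] [Finite K] (p : ℕ) [Fact p.Prime] [CharP K p]

seal _root_.Finset.sum _root_.dotProduct in
/-- the Steinberg character -/
theorem exists_st {m : ℕ} (hm : 4 ≤ m) {a : ℕ} (ha : Ch (POmega K (quadFormPlus m K)) a) (hpa : p ∣ a) :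
    ∃ s, Ch (POmega K (quadFormPlus m K)) s ∧ p ∣ s ∧ pp p s = 1 := by
  obtain ⟨n, rfl⟩ : ∃ n, m = n + 3 := ⟨m - 3, by omega⟩
  obtain ⟨χ, hχ, h1, -⟩ := H167.StChar.HasSt.of_hasRGD (Nodes.WittInst.hasRGD_PO_plus (F := K) n (p := p))
  refine ⟨_, ⟨χ, hχ, h1⟩, ?_, pp_pow Fact.out _⟩
  have hp : p.Prime := Fact.out
  apply dvd_pow_self
  have h2 : p ∣ Nat.card (POmega K (quadFormPlus (n + 3) K)) := by
    obtain ⟨χ', ⟨k, ρ, hρ, rfl⟩, hd⟩ := ha
    have h3 := Cfsg.Agent.S0135.result ρ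
    have h4 : ρ.character 1 = (k : ℂ) := by rw [Representation.char_one]; simp only [finrank_fintype_fun_eq_card,
        Fintype.card_fin]
    have h5 : (a : ℂ) = k := hd.symm.trans h4
    have h6 : a = k := by exact_mod_cast h5
    rw [Module.finrank_fin_fun, ← h6] at h3
    exact hpa.trans h3
  exact (hp.factorization_pos_of_dvd Nat.card_pos.ne' h2).ne'

/-- the four small degrees -/
theorem exists_four {m : ℕ} (hm : 4 ≤ m) : ∃ s a b : ℕ, Ch (POmega K (quadFormPlus m K)) s ∧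
    Ch (POmega K (quadFormPlus m K)) a ∧ Ch (POmega K (quadFormPlus m K)) b ∧ p ∣ s ∧ p ∣ a ∧ p ∣ b ∧
    ({1, s, a, b} : Finset ℕ).card = 4 ∧ 1 < a ∧
    (∀ x ∈ ({1, s, a, b} : Finset ℕ), x ≠ 0 ∧ 4 * pp p x < pp p (dg (CForm.plusF K m) 2)) := by
  classical
  have hp : p.Prime := Fact.out
  obtain ⟨a, b, ha, hb, hae, hbe⟩ := rk3_plus K hm
  obtain ⟨h1, h2, h3, h4, h5, h6, h7⟩ := rk3_small K p hm hae hbe
  obtain ⟨s, hs, hps, hs1⟩ := exists_st K p hm ha h1
  have hpp1 : pp p 1 = 1 := pp_one hp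
  have hs0 := (ch_pos hs).ne'
  have ha0 := (ch_pos ha).ne'
  have hb0 := (ch_pos hb).ne'
  have n1 : (1 : ℕ) ≠ s := fun h => hp.one_lt.ne' (Nat.dvd_one.1 (h ▸ hps))
  have n2 : (1 : ℕ) ≠ a := fun h => hp.one_lt.ne' (Nat.dvd_one.1 (h ▸ h1))
  have n3 : (1 : ℕ) ≠ b := fun h => hp.one_lt.ne' (Nat.dvd_one.1 (h ▸ h2))
  have n4 : s ≠ a := fun h => by rw [h] at hs1; omega
  have n5 : s ≠ b := fun h => by rw [h] at hs1; omega
  refine ⟨s, a, b, hs, ha, hb, hps, h1, h2, ?_, by (clear * - ha0 n2; omega), ?_⟩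
  · rw [Finset.card_insert_of_notMem (by simp [n1, n2, n3]), Finset.card_insert_of_notMem (by simp [n4, n5]),
      Finset.card_insert_of_notMem (by simp [h3]), Finset.card_singleton]
  · intro x hx
    simp only [Finset.mem_insert, Finset.mem_singleton] at hx
    rcases hx with rfl | rfl | rfl | rfl
    · exact ⟨one_ne_zero, by rw [hpp1]; omega⟩
    · exact ⟨hs0, by rw [hs1]; omega⟩
    · exact ⟨ha0, h6⟩
    · exact ⟨hb0, h7⟩

theorem dg_two_le {m k : ℕ} (hm : 4 ≤ m) (hk : 2 ≤ k) (hkm : k ≤ m) :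
    pp p (dg (CForm.plusF K m) 2) ≤ pp p (dg (CForm.plusF K m) k) := by
  rcases Nat.eq_or_lt_of_le hk with h | h
  · rw [← h]
  · exact (dg_two_lt K p hm h hkm).le

/-- at least four indices -/
theorem eight_of_T {m : ℕ} (hm : 4 ≤ m) (T : Finset ℕ) (hT : ∀ k ∈ T, 2 ≤ k ∧ k ≤ m ∧
    (3 ≤ k ∨ 4 ≤ Nat.card K ∨ (Nat.card K = 3 ∧ Odd m))) (Y : Finset ℕ) (hY : ∀ y ∈ Y, Ch (POmega K (quadFormPlus m K)) y ∧
      1 < y ∧ ¬ p ∣ y ∧ ∀ k ∈ T, ∀ e, Dn (POmega K (quadFormPlus m K)) p (Nat.card K) (dg (CForm.plusF K m) k) e → y ≠ e)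
    (h8 : 4 ≤ T.card + Y.card) : Eight (POmega K (quadFormPlus m K)) := by
  classical
  obtain ⟨s, a, b, hs, ha, hb, hps, hpa, hpb, hc, ha1, hsm⟩ := exists_four K p hm
  have : Finite (POmega K (quadFormPlus m K)) := by
    have : Finite (isometryGroup K (quadFormPlus m K)) := inferInstance
    infer_instance
  have hdj : Disjoint ({1, s, a, b} : Finset ℕ) Y := by
    rw [Finset.disjoint_left]
    intro x hx hx'
    obtain ⟨-, h1, h2, -⟩ := hY x hx'
    simp only [Finset.mem_insert, Finset.mem_singleton] at hx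
    rcases hx with rfl | rfl | rfl | rfl
    · exact absurd h1 (lt_irrefl _)
    · exact h2 hps
    · exact h2 hpa
    · exact h2 hpb
  refine eight_of_dn (d := dg (CForm.plusF K m)) (p := p) (q := Nat.card K) T ({1, s, a, b} ∪ Y)
    (fun k hk => plus_dn K p hm (hT k hk).1 (hT k hk).2.1 (hT k hk).2.2) ?_ ?_ ?_ ?_
  · intro j hj k hk hjk e e' he he'
    exact sep_plus K p hm (by have := (hT j hj).1; omega) (by have := (hT k hk).1; omega) (hT j hj).2.1 (hT k hk).2.1 hjk
      he.2.1 he'.2.1 he.2.2.1 he'.2.2.1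
  · intro x hx
    rcases Finset.mem_union.1 hx with hx | hx
    · simp only [Finset.mem_insert, Finset.mem_singleton] at hx
      rcases hx with rfl | rfl | rfl | rfl
      · exact ⟨1, Core.isIrr_one, by simp⟩
      · exact hs
      · exact ha
      · exact hb
    · exact (hY x hx).1
  · intro x hx k hk e he
    rcases Finset.mem_union.1 hx with hx | hx
    · obtain ⟨h1, h2⟩ := hsm x hx
      refine he.ne_of_small h1 (dg_plus_ne K (by have := (hT k hk).1; omega) (hT k hk).2.1) (h2.trans_le ?_)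
      exact dg_two_le K p hm (hT k hk).1 (hT k hk).2.1
    · exact (hY x hx).2.2.2 k hk e he
  · rw [Finset.card_union_of_disjoint hdj, hc]
    omega

end

end Cfsg.Agent.H925.Eight
end

-- part: H925/Eight/PlusMain
section
/-!
# `PΩ⁺_{2m}(q)`, `m ≥ 4`, has at least eight character degrees: all `(m, q)` except `(4, 2)`, `(4, 3)` (helper925, S4899)
-/

set_option autoImplicit false

open Cfsg

namespace Cfsg.Agent.H925.Eight

open Cfsg.Agent.Characters Cfsg.Agent.H477.HC Cfsg.Agent.H674.Dl Cfsg.Agent.H664.Eight Module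

universe u

section

variable (K : Type u) [Field K] [Finite K]

seal _root_.Finset.sum _root_.dotProduct in
theorem lin_plus {m : ℕ} (hm : 4 ≤ m) (η : POmega K (CForm.plusF K m).Q → ℂ) (hη : IsIrrCharacter _ η) (hη1 : η 1 = 1) :
    η = 1 := by
  classical
  let _ := Fintype.ofFinite K
  obtain ⟨p, hp⟩ := CharP.exists K
  obtain ⟨⟨f, hf⟩, hpp, hcard⟩ := FiniteField.card K p
  have : Fact p.Prime := ⟨hpp⟩
  obtain ⟨s, a, b, hs, ha, hb, hps, hpa, hpb, hc, ha1, hsm⟩ := exists_four K p hm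
  have hsim : IsSimpleGroup (POmega K (quadFormPlus m K)) := S0296.result m hm
  have : Finite (isometryGroup K (quadFormPlus m K)) := inferInstance
  exact lin_trivial (S := POmega K (quadFormPlus m K)) ha ha1 η hη hη1

variable (p : ℕ) [Fact p.Prime] [CharP K p]

theorem deg_point {m : ℕ} (hm : 4 ≤ m) (hq : 4 ≤ Nat.card K) :
    ∃ e, Ch (POmega K (quadFormPlus m K)) e ∧ 1 < e ∧ ¬ p ∣ e ∧ e ≤ dg (CForm.plusF K m) 1 := by
  have h1 : Nat.card ((CForm.plusF K m).Om 1) = dg (CForm.plusF K m) 1 := by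
    unfold dg
    rw [Finset.Ico_self, Finset.prod_empty, mul_one]
  obtain ⟨e, f, j, h⟩ := CForm.frm_plus (K := K) (show 2 + (m - 2) = m by omega)
  have h2 := exists_deg_point (CForm.plusF K m) (plus_hB K m) hq (frm_mem h) (p := p)
    (fun z hz => cen_plus K (by omega) z hz) (by rw [h1]; exact not_dvd_dg K p le_rfl (by omega)) (lin_plus K hm)
  rw [h1] at h2
  exact h2

theorem deg_line {m : ℕ} (hm : 4 ≤ m) (hq : Nat.card K = 2) :
    ∃ e, Ch (POmega K (quadFormPlus m K)) e ∧ 1 < e ∧ ¬ p ∣ e ∧ e ≤ dg (CForm.plusF K m) 2 := by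
  have h1 : Nat.card ((CForm.plusF K m).Om 2) = dg (CForm.plusF K m) 2 := by
    unfold dg
    rw [hq]
    simp only [Nat.card_coe_set_eq, Nat.Ico_succ_singleton, Finset.prod_singleton, pow_one, Nat.add_one_sub_one, mul_one]
  obtain ⟨e, f, j, h⟩ := CForm.frm_plus (K := K) (show 3 + (m - 3) = m by omega)
  have h2 := exists_deg_line (CForm.plusF K m) (plus_hB K m) hq (frm_mem h) (p := p)
    (fun z hz => cen_plus K (by omega) z hz) (by rw [h1]; exact not_dvd_dg K p (by norm_num) (by omega)) (lin_plus K hm)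
  rw [h1] at h2
  exact h2

/-- `PΩ⁺`, all cases except `(4, 2)`, `(4, 3)` -/
theorem eight_gen {m : ℕ} (hm : 4 ≤ m) (h42 : ¬ (m = 4 ∧ Nat.card K = 2)) (h43 : ¬ (m = 4 ∧ Nat.card K = 3)) :
    Eight (POmega K (quadFormPlus m K)) := by
  classical
  have hq : 2 ≤ Nat.card K := Finite.one_lt_card
  let _ := Fintype.ofFinite K
  obtain ⟨p, hp⟩ := CharP.exists K
  obtain ⟨⟨f, hf⟩, hpp, hcard⟩ := FiniteField.card K p
  have : Fact p.Prime := ⟨hpp⟩
  rcases Nat.lt_or_ge 5 m with h6 | h6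
  · -- `m ≥ 6`
    refine eight_of_T K p hm {3, 4, 5, 6} (fun k hk => ?_) ∅ (by simp only [Finset.notMem_empty, Finset.mem_insert,
        Finset.mem_singleton, Nat.card_eq_fintype_card, ne_eq, forall_eq_or_imp, forall_eq, IsEmpty.forall_iff, implies_true]) (by decide)
    simp only [Finset.mem_insert, Finset.mem_singleton] at hk
    refine ⟨by omega, by omega, Or.inl (by omega)⟩
  rcases Nat.eq_or_lt_of_le h6 with h5 | h5
  · subst h5
    rcases Nat.eq_or_lt_of_le hq with h2 | h2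
    · -- `(5, 2)`
      have h2' : Nat.card K = 2 := h2.symm
      obtain ⟨e, he, he1, hpe, hle⟩ := deg_line K p hm h2'
      refine eight_of_T K p hm {3, 4, 5} (fun k hk => ?_) {e} (fun y hy => ?_) (by simp)
      · simp only [Finset.mem_insert, Finset.mem_singleton] at hk
        refine ⟨by omega, by omega, Or.inl (by omega)⟩
      · rw [Finset.mem_singleton] at hy
        subst hy
        refine ⟨he, he1, hpe, fun k hk e' he' => ?_⟩
        simp only [Finset.mem_insert, Finset.mem_singleton] at hk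
        rintro rfl
        obtain ⟨-, h7, h8, -⟩ := he'
        have ho : ¬ Odd (Nat.card K) := by rw [h2']; decide
        rw [cc_even ho, Nat.dvd_one] at h8
        have h9 : pp p (dg (CForm.plusF K 5) k) = pp p y := by
          conv_lhs => rw [← Nat.mul_div_cancel' h7]
          rw [pp_mul, h8, mul_one]
        have h10 := dg_two_lt K p hm (show 3 ≤ k by omega) (show k ≤ 5 by omega)
        rw [h9, pp_self hpe, pp_self (not_dvd_dg K p (by norm_num) (by norm_num))] at h10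
        omega
    · refine eight_of_T K p hm {2, 3, 4, 5} (fun k hk => ?_) ∅ (by simp only [Finset.notMem_empty, Finset.mem_insert,
        Finset.mem_singleton, Nat.card_eq_fintype_card, ne_eq, forall_eq_or_imp, forall_eq, IsEmpty.forall_iff, implies_true]) (by decide)
      simp only [Finset.mem_insert, Finset.mem_singleton] at hk
      refine ⟨by omega, by omega, ?_⟩
      rcases Nat.eq_or_lt_of_le h2 with h3 | h3
      · exact Or.inr (Or.inr ⟨h3.symm, by decide⟩)
      · exact Or.inr (Or.inl h3)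
  · -- `m = 4`
    have h4 : m = 4 := by omega
    subst h4
    have hq4 : 4 ≤ Nat.card K := by
      by_contra h
      have : Nat.card K = 2 ∨ Nat.card K = 3 := by omega
      rcases this with h | h
      · exact h42 ⟨rfl, h⟩
      · exact h43 ⟨rfl, h⟩
    obtain ⟨e, he, he1, hpe, hle⟩ := deg_point K p hm hq4
    refine eight_of_T K p hm {2, 3, 4} (fun k hk => ?_) {e} (fun y hy => ?_) (by simp)
    · simp only [Finset.mem_insert, Finset.mem_singleton] at hk
      exact ⟨by omega, by omega, Or.inr (Or.inl hq4)⟩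
    · rw [Finset.mem_singleton] at hy
      subst hy
      refine ⟨he, he1, hpe, fun k hk e' he' => ?_⟩
      simp only [Finset.mem_insert, Finset.mem_singleton] at hk
      refine he'.ne_of_small (by omega) (dg_plus_ne K (by omega) (by omega)) ?_
      rw [pp_self hpe]
      have h7 := dg_one_lt K p hm
      have h8 := dg_two_le K p hm (show 2 ≤ k by omega) (show k ≤ 4 by omega)
      omega

end

end Cfsg.Agent.H925.Eight
end

-- part: H612/Eight/EightTwo
section
/-!
# Eight character degrees in `Ω⁺_8(2)` (helper612, S4899)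
-/

set_option autoImplicit false

open Cfsg

namespace Cfsg.Agent.H612.Eight

open Cfsg.Agent.H674.Dl Cfsg.Agent.H477.HC Cfsg.Agent.H175.Eight

theorem card_op82 {F : Type*} [Field F] [Fintype F] (hF : Fintype.card F = 2) :
    Nat.card (POmega F (quadFormPlus 4 F)) = 174182400 := by
  have hord := Cfsg.Agent.S0293.result (F := F) hF 4 (by norm_num)
  rw [show Nat.gcd 4 (2 ^ 4 - 1) = 1 by norm_num] at hord
  simp only [Nat.reduceSub, Finset.prod_range_succ, Finset.prod_range_zero] at hord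
  norm_num at hord
  omega

private theorem tri (L : List ℤ) (N T : ℤ) {w sx sy sz : ℤ} (hw : w ∣ N) (vx : sx ∈ L ∨ sx = w) (vy : sy ∈ L ∨ sy = w)
    (vz : sz ∈ L ∨ sz = w) (hs : sx + (sy + sz) = T)
    (H : ((L.all fun a => (L.all fun b => (L.all fun c => a + (b + c) != T) && N % (T - a - b) != 0) &&
      ((T - a) % 2 != 0 || N % ((T - a) / 2) != 0)) && (T % 3 != 0 || N % (T / 3) != 0)) = true) : False := by
  have hw0 : N % w = 0 := Int.emod_eq_zero_of_dvd hw
  simp only [Bool.and_eq_true, List.all_eq_true, bne_iff_ne, Bool.or_eq_true, ne_eq] at H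
  obtain ⟨H1, H3⟩ := H
  have two : ∀ a ∈ L, ∀ b ∈ L, a + b + w = T → False := fun a ha b hb h =>
    ((H1 a ha).1 b hb).2 (by rw [show T - a - b = w by (clear * - h; omega)]; exact hw0)
  have one : ∀ a ∈ L, a + 2 * w = T → False := fun a ha h => by
    rcases (H1 a ha).2 with h2 | h2
    · exact h2 (by (clear * - h; omega))
    · exact h2 (by rw [show (T - a) / 2 = w by (clear * - h; omega)]; exact hw0)
  rcases vx with vx | vx <;> rcases vy with vy | vy <;> rcases vz with vz | vz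
  · exact ((H1 _ vx).1 _ vy).1 _ vz hs
  · exact two _ vx _ vy (by (clear * - hs vz; omega))
  · exact two _ vx _ vz (by (clear * - hs vy; omega))
  · exact one _ vx (by (clear * - hs vy vz; omega))
  · exact two _ vy _ vz (by (clear * - hs vx; omega))
  · exact one _ vy (by (clear * - hs vx vz; omega))
  · exact one _ vz (by (clear * - hs vx vy; omega))
  · rcases H3 with h2 | h2
    · exact h2 (by (clear * - hs vx vy vz; omega))
    · exact h2 (by rw [show T / 3 = w by (clear * - hs vx vy vz; omega)]; exact hw0)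

private theorem nodup_two {L : List ℕ} {x y : ℕ} (hL : L.Nodup) (hx : x ∉ L) (hy : y ∉ L) (hxy : x ≠ y) :
    (L ++ [x, y]).Nodup := by
  refine List.nodup_append.2 ⟨hL, List.nodup_cons.2 ⟨fun h => hxy (List.mem_singleton.1 h), List.nodup_singleton y⟩, ?_⟩
  intro a ha b hb hab
  subst hab
  rcases List.mem_cons.1 hb with h | h
  · exact hx (h ▸ ha)
  · exact hy (List.mem_singleton.1 h ▸ ha)

private theorem nodup82 (k : ℕ) : [1, 50, 84, 4096, 6075, k * 2835].Nodup := by
  simp only [List.nodup_cons, List.mem_cons, List.not_mem_nil, List.nodup_nil, not_or, not_false_eq_true, and_true,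
    or_false]
  and_intros <;> omega

private theorem nodup83 {e3 e4 : ℕ} (hE : e3 = 716800 ∨ e3 = 1612800) (d4 : 65 ∣ e4) :
    [1, 300, 819, 531441, e3, e4].Nodup := by
  simp only [List.nodup_cons, List.mem_cons, List.not_mem_nil, List.nodup_nil, not_or, not_false_eq_true, and_true,
    or_false]
  rcases hE with rfl | rfl <;> and_intros <;> (clear * - d4; omega)

/-- **`Ω⁺_8(2)` has at least eight character degrees.** -/
theorem eight_op82 {F : Type*} [Field F] [Fintype F] (hF : Fintype.card F = 2) :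
    H664.Eight.Eight (POmega F (quadFormPlus 4 F)) := by
  classical
  have hq : Nat.card F = 2 := by rw [Nat.card_eq_fintype_card, hF]
  have : Fact (Nat.Prime 2) := ⟨Nat.prime_two⟩
  have : Fact (Nat.Prime 7) := ⟨by norm_num⟩
  have : CharP F 2 := charP_of_card Nat.prime_two hF
  have hcard := card_op82 hF
  have hfin : Finite (POmega F (quadFormPlus 4 F)) := Nat.finite_of_card_ne_zero (by rw [hcard]; norm_num)
  have hcc : cc (Nat.card F) = 1 := by
    unfold cc
    rw [hq, if_neg (by decide)]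
  -- the two small degrees
  obtain ⟨b, a, hb, ha, hb', ha'⟩ := rk3_plus F (m := 4) (by norm_num)
  rw [hq] at ha' hb'
  norm_num at ha' hb'
  have ea : a = 84 := by omega
  have eb : b = 50 := by omega
  subst ea eb
  have m84 := mem_of_ch ha
  obtain ⟨φ50, d50⟩ := mem_of_ch hb
  obtain ⟨φ1, d1⟩ := exists_triv (POmega F (quadFormPlus 4 F))
  -- the Steinberg degree
  obtain ⟨φst, dst⟩ := steinberg_mem (F := F) (p := 2) (m := 4) (by norm_num) (k := 12) (N := 42525)
    (by rw [hcard]; norm_num) (by norm_num)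
  norm_num at dst
  -- the two large ones
  have key : ∀ k D, 3 ≤ k → k ≤ 4 → D ≠ 0 → pp 2 (dg (CForm.plusF F 4) k) = D →
      ∃ j, 2 ^ j * D ∈ charDegrees (POmega F (quadFormPlus 4 F)) := by
    intro k D hk hk5 hD0 hD
    obtain ⟨e, he⟩ := plus_dn F 2 (m := 4) (k := k) (by norm_num) (by omega) hk5 (Or.inl hk)
    obtain ⟨hm, j, f, hf, hj⟩ := mem_of_dn he hD hD0
    rw [hcc, Nat.dvd_one] at hf
    rw [hf, mul_one] at hj
    exact ⟨j, hj ▸ hm⟩
  have h3 := D_plus F 2 (k := 3) (n := 1) (m := 4) (by norm_num) (by norm_num) (by norm_num)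
  have h4 := D_plus_top F 2 (m := 4) (by norm_num)
  have p2 : pp 2 2 = 1 := pp_pow Nat.prime_two 1
  rw [hq] at h3 h4
  rw [p2] at h4
  simp only [AP, Nat.reduceSub, Finset.prod_Ico_eq_prod_range, Finset.prod_range_succ, Finset.prod_range_zero] at h3 h4
  norm_num at h3 h4
  obtain ⟨j3, m3⟩ := key 3 6075 (by norm_num) (by norm_num) (by norm_num) (by omega)
  obtain ⟨j4, m4⟩ := key 4 2835 (by norm_num) (by norm_num) (by norm_num) (by omega)
  have m3sq := mem_sq_le m3
  obtain ⟨φ3, d3⟩ := m3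
  -- the block
  obtain ⟨R, hR, hC⟩ := H732.SelfCent.omega8plus_selfcent hF
  obtain ⟨NE, X, ε₀, D, hblk⟩ := exists_blk (G := POmega F (quadFormPlus 4 F)) (p := 7) (by norm_num) hcard (by norm_num)
    (by norm_num) (ord_of_selfcent (by norm_num) (by rw [hcard]; norm_num) hR hC) (e := 6) (t := 1) (by norm_num) (by
      intro e' he' h1 h2
      have h3 : e' ≤ 6 := Nat.le_of_dvd (by norm_num) he'
      interval_cases e' <;> revert h1 h2 he' <;> norm_num)
  obtain ⟨A, ε, hA, hAc, hAs, hAm⟩ := full (by norm_num) hblk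
  have hAd : ∀ χ ∈ A, ¬ 7 ∣ charDegree (χ : POmega F (quadFormPlus 4 F) → ℂ) := by
    intro χ hχ h7
    have h1 := hA.congr χ hχ
    rcases hA.sign χ hχ with e | e <;> rw [e] at h1 <;> (clear * - h7 h1; omega)
  -- `j3 = 0`
  have e3 : 2 ^ j3 * 6075 = 6075 := by
    rw [hcard] at m3sq
    have hj : j3 ≤ 1 := by
      by_contra hc
      have h5 : 2 ^ 2 ≤ 2 ^ j3 := Nat.pow_le_pow_right (by norm_num) (by omega)
      have h6 : (2 ^ 2 * 6075) ^ 2 ≤ (2 ^ j3 * 6075) ^ 2 := Nat.pow_le_pow_left (Nat.mul_le_mul_right _ h5) 2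
      norm_num at h6 m3sq
      omega
    rcases (show j3 = 0 ∨ j3 = 1 by omega) with rfl | rfl
    · norm_num
    · exfalso
      norm_num at d3
      have h5 : φ3 ∈ A := hAm φ3 (by rw [d3]; norm_num)
      have h6 := hA.congr _ h5
      rw [d3] at h6
      rcases hA.sign _ h5 with e | e <;> rw [e] at h6 <;> omega
  rw [e3] at d3
  have a1 : φ1 ∈ A := hAm _ (by rw [d1]; norm_num)
  have a50 : φ50 ∈ A := hAm _ (by rw [d50]; norm_num)
  have ast : φst ∈ A := hAm _ (by rw [dst]; norm_num)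
  have a3 : φ3 ∈ A := hAm _ (by rw [d3]; norm_num)
  have s1 := hA.signed (by norm_num) a1 (δ := 1) (Or.inl rfl) d1 (by norm_num)
  have s50 := hA.signed (by norm_num) a50 (δ := 1) (Or.inl rfl) d50 (by norm_num)
  have sst := hA.signed (by norm_num) ast (δ := 1) (Or.inl rfl) dst (by norm_num)
  have s3 := hA.signed (by norm_num) a3 (δ := -1) (Or.inr rfl) d3 (by norm_num)
  have hm3 : (6075 : ℕ) ∈ charDegrees (POmega F (quadFormPlus 4 F)) := ⟨φ3, d3⟩
  have hmst : (4096 : ℕ) ∈ charDegrees (POmega F (quadFormPlus 4 F)) := ⟨φst, dst⟩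
  have hm50 : (50 : ℕ) ∈ charDegrees (POmega F (quadFormPlus 4 F)) := ⟨φ50, d50⟩
  have hm1 : (1 : ℕ) ∈ charDegrees (POmega F (quadFormPlus 4 F)) := ⟨φ1, d1⟩
  rcases two_new (by norm_num) hA [1, 50, 84, 4096, 6075, 2 ^ j4 * 2835] with
    ⟨x, hx, y, hy, hxy, hxK, hyK⟩ | ⟨w, hw, hwA⟩
  · refine H664.Eight.eight_of_list [1, 50, 84, 4096, 6075, 2 ^ j4 * 2835, x, y]
      (nodup_two (nodup82 (2 ^ j4)) hxK hyK hxy) (Nat.le_refl 8) ?_
    · intro d hd
      simp only [List.mem_cons, List.not_mem_nil, or_false] at hd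
      rcases hd with rfl | rfl | rfl | rfl | rfl | rfl | rfl | rfl
      · exact hm1
      · exact hm50
      · exact m84
      · exact hmst
      · exact hm3
      · exact m4
      · exact hx
      · exact hy
  · exfalso
    have n1 := ne_of_deg d1 d50 (by norm_num)
    have n2 := ne_of_deg d1 dst (by norm_num)
    have n3 := ne_of_deg d1 d3 (by norm_num)
    have n4 := ne_of_deg d50 dst (by norm_num)
    have n5 := ne_of_deg d50 d3 (by norm_num)
    have n6 := ne_of_deg dst d3 (by norm_num)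
    have hT : ({φ1, φ50, φst, φ3} : Finset (IrrCharacter (POmega F (quadFormPlus 4 F)))) ⊆ A := by
      intro χ hχ
      simp only [Finset.mem_insert, Finset.mem_singleton] at hχ
      rcases hχ with rfl | rfl | rfl | rfl
      · exact a1
      · exact a50
      · exact ast
      · exact a3
    have hTc : ({φ1, φ50, φst, φ3} : Finset (IrrCharacter (POmega F (quadFormPlus 4 F)))).card = 4 := by
      rw [Finset.card_insert_of_notMem (by simp [n1, n2, n3]), Finset.card_insert_of_notMem (by simp [n4, n5]),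
        Finset.card_insert_of_notMem (by simp [n6]), Finset.card_singleton]
    have hTs : ∑ χ ∈ ({φ1, φ50, φst, φ3} : Finset (IrrCharacter (POmega F (quadFormPlus 4 F)))),
        ε χ * (charDegree (χ : POmega F (quadFormPlus 4 F) → ℂ) : ℤ) = -1928 := by
      rw [Finset.sum_insert (by simp [n1, n2, n3]), Finset.sum_insert (by simp [n4, n5]),
        Finset.sum_insert (by simp [n6]), Finset.sum_singleton, s1, s50, sst, s3]
      norm_num
    have hBc := Finset.card_sdiff_of_subset hT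
    simp only [hAc, hTc] at hBc
    obtain ⟨x, y, z, hxy, hxz, hyz, hB⟩ := Finset.card_eq_three.1 hBc
    have hsplit := Finset.sum_sdiff (f := fun χ : IrrCharacter (POmega F (quadFormPlus 4 F)) =>
      ε χ * (charDegree (χ : POmega F (quadFormPlus 4 F) → ℂ) : ℤ)) hT
    rw [hAs, hTs, hB, Finset.sum_insert (by simp [hxy, hxz]), Finset.sum_insert (by simp [hyz]),
      Finset.sum_singleton] at hsplit
    have hmem : ∀ χ ∈ ({x, y, z} : Finset (IrrCharacter (POmega F (quadFormPlus 4 F)))), χ ∈ A := by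
      intro χ hχ
      rw [← hB] at hχ
      exact (Finset.mem_sdiff.1 hχ).1
    have hval : ∀ χ ∈ A, ε χ * (charDegree (χ : POmega F (quadFormPlus 4 F) → ℂ) : ℤ) = 1 ∨
        ε χ * (charDegree (χ : POmega F (quadFormPlus 4 F) → ℂ) : ℤ) = 50 ∨
        ε χ * (charDegree (χ : POmega F (quadFormPlus 4 F) → ℂ) : ℤ) = 4096 ∨
        ε χ * (charDegree (χ : POmega F (quadFormPlus 4 F) → ℂ) : ℤ) = -6075 ∨
        ε χ * (charDegree (χ : POmega F (quadFormPlus 4 F) → ℂ) : ℤ) = w := by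
      intro χ hχ
      rcases hwA χ hχ with h | h
      · simp only [List.mem_cons, List.not_mem_nil, or_false] at h
        rcases h with h | h | h | h | h | h
        · left
          rw [hA.signed (by norm_num) hχ (δ := 1) (Or.inl rfl) h (by norm_num)]; norm_num
        · right; left
          rw [hA.signed (by norm_num) hχ (δ := 1) (Or.inl rfl) h (by norm_num)]; norm_num
        · exact absurd (by rw [h]; norm_num) (hAd χ hχ)
        · right; right; left
          rw [hA.signed (by norm_num) hχ (δ := 1) (Or.inl rfl) h (by norm_num)]; norm_num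
        · right; right; right; left
          rw [hA.signed (by norm_num) hχ (δ := -1) (Or.inr rfl) h (by norm_num)]; norm_num
        · exact absurd (by rw [h]; exact Dvd.dvd.mul_left (by norm_num) _) (hAd χ hχ)
      · exact Or.inr (Or.inr (Or.inr (Or.inr h)))
    have hwd : w ∣ 174182400 := by
      have h := mem_dvd hw
      rw [hcard] at h
      have h' : (w.natAbs : ℤ) ∣ ((174182400 : ℕ) : ℤ) := by exact_mod_cast h
      rw [Int.natAbs_dvd] at h'
      exact_mod_cast h'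
    have hv : ∀ s : ℤ, (s = 1 ∨ s = 50 ∨ s = 4096 ∨ s = -6075 ∨ s = w) → (s ∈ [1, 50, 4096, -6075] ∨ s = w) := by
      intro s hs
      simpa only [List.mem_cons, List.not_mem_nil, or_false, or_assoc] using hs
    exact tri [1, 50, 4096, -6075] 174182400 1928 hwd
      (hv _ (hval x (hmem x (Finset.mem_insert_self _ _))))
      (hv _ (hval y (hmem y (Finset.mem_insert_of_mem (Finset.mem_insert_self _ _)))))
      (hv _ (hval z (hmem z (Finset.mem_insert_of_mem (Finset.mem_insert_of_mem (Finset.mem_singleton_self _))))))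
      (add_neg_eq_zero.1 hsplit) (by decide +kernel)

end Cfsg.Agent.H612.Eight
end

-- part: H612/Eight/No39
section
/-!
# `PΩ⁺₈(3)`: the elements of order 13 are self-centralizing (helper612, S4899)

* `no39` : no commuting isometries of orders 13 and 3;
* `ord_thirteen` : an element of order divisible by 13 has order 13.
-/

set_option autoImplicit false

open Cfsg

namespace Cfsg.Agent.H612.Eight

open Module QuadraticMap Cfsg.Agent.H420.Fix Cfsg.Agent.H420.OEightThree

section Quad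

variable {F : Type*} [Field F] {V : Type*} [AddCommGroup V] [Module F V] [Finite V] {Q : QuadraticForm F V}

/-- **No commuting isometries of orders 13 and 3.** -/
theorem no39 (h : Dat Q) {a u : Module.End F V} (ha : a ^ 13 = 1) (hu : u ^ 3 = 1) (ha1 : a ≠ 1) (hu1 : u ≠ 1)
    (hab : a * u = u * a) (hqa : ∀ v, Q (a v) = Q v) (hqu : ∀ v, Q (u v) = Q v) : False := by
  have h1 := h.thirteen ha ha1 hqa
  have : Fact (Nat.Prime 3) := ⟨by norm_num⟩
  have h13 : ((13 : ℕ) : F) ≠ 0 := by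
    have : ((13 : ℕ) : F) = 1 := by
      push_cast
      linear_combination 4 * h.three
    rw [this]; exact one_ne_zero
  -- the norms on `fx a`
  have z1 := h.sing ha hqa
  have z2 := card_inter_le {v : V | Q v = 0} (fx a)
  rw [h.card_sub, h1] at z2
  have z3 : Nat.card ({v : V | Q v = 0} ∩ fx a : Set V) = 5 := by
    generalize Nat.card ({v : V | Q v = 0} ∩ fx a : Set V) = s at z1 z2
    norm_num at z2
    interval_cases s <;> first | rfl | (exfalso; revert z1; decide)
  have o1 : 2160 ≡ Nat.card ({v : V | Q v = 1} ∩ fx a : Set V) [MOD 13] := by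
    have h1 := card_modEq (r := 13) (n := 1) (by rw [pow_one]; exact ha) {v : V | Q v = 1} (fun v hv => by
      change Q (a v) = 1
      rw [hqa]; exact hv)
    rw [h.ones] at h1
    exact h1
  have o2 := card_inter_le {v : V | Q v = 1} (fx a)
  rw [h.card_sub, h1] at o2
  have o3 : Nat.card ({v : V | Q v = 1} ∩ fx a : Set V) = 2 := by
    generalize Nat.card ({v : V | Q v = 1} ∩ fx a : Set V) = s at o1 o2
    norm_num at o2
    interval_cases s <;> first | rfl | (exfalso; revert o1; decide)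
  have hinv : ∀ c : F, ∀ v ∈ ({v : V | Q v = c} ∩ fx a : Set V), u v ∈ ({v : V | Q v = c} ∩ fx a : Set V) := by
    rintro c v ⟨h4, h5⟩
    exact ⟨(hqu v).trans h4, comm_mem_fx hab.symm h5⟩
  -- fixed vectors of `u`
  have p1 : 2 ≤ Nat.card ({v : V | Q v = 0} ∩ fx a ∩ fx u : Set V) := by
    have q1 := card_modEq (r := 3) (n := 1) (by rw [pow_one]; exact hu) ({v : V | Q v = 0} ∩ fx a) (hinv 0)
    rw [z3] at q1
    by_contra hc
    generalize Nat.card ({v : V | Q v = 0} ∩ fx a ∩ fx u : Set V) = s at q1 hc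
    have : s < 2 := by omega
    interval_cases s <;> (revert q1; decide)
  have p2 : 2 ≤ Nat.card ({v : V | Q v = 1} ∩ fx a ∩ fx u : Set V) := by
    have q1 := card_modEq (r := 3) (n := 1) (by rw [pow_one]; exact hu) ({v : V | Q v = 1} ∩ fx a) (hinv 1)
    rw [o3] at q1
    by_contra hc
    generalize Nat.card ({v : V | Q v = 1} ∩ fx a ∩ fx u : Set V) = s at q1 hc
    have : s < 2 := by omega
    interval_cases s <;> (revert q1; decide)
  have q1 : fx a ≤ fx u := by
    have q2 : finrank F ↥(fx a ⊓ fx u) ≤ 2 := by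
      rw [← h1]; exact Submodule.finrank_mono inf_le_left
    have q3 : 4 ≤ Nat.card ↥(fx a ⊓ fx u) := by
      have q4 : ({v : V | Q v = 0} ∩ fx a ∩ fx u : Set V) ∪ ({v : V | Q v = 1} ∩ fx a ∩ fx u : Set V) ⊆
          ((fx a ⊓ fx u : Submodule F V) : Set V) := by
        rintro v (⟨⟨_, v2⟩, v3⟩ | ⟨⟨_, v2⟩, v3⟩)
        · exact ⟨v2, v3⟩
        · exact ⟨v2, v3⟩
      have q5 : Disjoint ({v : V | Q v = 0} ∩ fx a ∩ fx u : Set V) ({v : V | Q v = 1} ∩ fx a ∩ fx u : Set V) := by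
        rw [Set.disjoint_left]
        rintro v ⟨⟨v1, _⟩, _⟩ ⟨⟨v2, _⟩, _⟩
        have v1' : Q v = 0 := v1
        have v2' : Q v = 1 := v2
        rw [v1'] at v2'
        exact zero_ne_one v2'
      have q6 := Set.ncard_le_ncard q4 (Set.toFinite _)
      rw [Set.ncard_union_eq q5 (Set.toFinite _) (Set.toFinite _), ← Nat.card_coe_set_eq, ← Nat.card_coe_set_eq,
        ← Nat.card_coe_set_eq] at q6
      exact le_trans (by omega) q6
    rw [h.card_sub] at q3
    have q7 : finrank F ↥(fx a ⊓ fx u) = 2 := by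
      generalize finrank F ↥(fx a ⊓ fx u) = i at q2 q3
      interval_cases i <;> omega
    have q8 : fx a ⊓ fx u = fx a := Submodule.eq_of_le_of_finrank_eq inf_le_left (by rw [q7, h1])
    exact inf_eq_left.1 q8
  -- the fixed space of `u`
  have r1 : finrank F (fx u) = 2 ∨ finrank F (fx u) = 5 := by
    have r2 := h.mod ha (fx u) (comm_inf hab)
    rw [inf_eq_right.2 q1, h1] at r2
    have r3 := h.lt_eight hu1
    have r4 : 2 ≤ finrank F (fx u) := by rw [← h1]; exact Submodule.finrank_mono q1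
    generalize finrank F (fx u) = i at r2 r3 r4
    interval_cases i <;> first | (left; rfl) | (right; rfl) | (exfalso; revert r2; decide)
  -- `(u - 1) ^ 3 = 0`
  have h33 : ∀ x : Module.End F V, (3 : ℕ) • x = 0 := by
    intro x
    rw [← Nat.cast_smul_eq_nsmul F]
    push_cast
    rw [h.three, zero_smul]
  have r5 : (u - 1) * ((u - 1) * (u - 1)) = 0 := by
    have r6 : (u - 1) * ((u - 1) * (u - 1)) = u ^ 3 - 1 + (3 : ℕ) • (u - u ^ 2) := by noncomm_ring
    rw [r6, hu, h33, sub_self, add_zero]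
  -- rank nullity
  have key : ∀ W : Submodule F V, finrank F W ≤ finrank F (W.map (u - 1)) + finrank F (fx u) := by
    intro W
    have h1 := LinearMap.finrank_range_add_finrank_ker ((u - 1).domRestrict W)
    rw [LinearMap.range_domRestrict] at h1
    have h4 : finrank F (LinearMap.ker ((u - 1).domRestrict W)) ≤ finrank F (fx u) := by
      let φ : LinearMap.ker ((u - 1).domRestrict W) →ₗ[F] fx u :=
        LinearMap.codRestrict (fx u) (W.subtype ∘ₗ (LinearMap.ker ((u - 1).domRestrict W)).subtype) (by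
          rintro ⟨⟨x, hx⟩, hx2⟩
          exact hx2)
      apply LinearMap.finrank_le_finrank_of_injective (f := φ)
      rintro ⟨⟨x, hx⟩, hx2⟩ ⟨⟨y, hy⟩, hy2⟩ hxy
      have : x = y := congrArg Subtype.val hxy
      subst this
      rfl
    omega
  rcases r1 with r1 | r1
  · have k1 := key ⊤
    have k2 := key ((⊤ : Submodule F V).map (u - 1))
    have k3 := key (((⊤ : Submodule F V).map (u - 1)).map (u - 1))
    have k4 : ((((⊤ : Submodule F V).map (u - 1)).map (u - 1)).map (u - 1)) = ⊥ := by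
      rw [eq_bot_iff]
      rintro _ ⟨_, ⟨_, ⟨x, _, rfl⟩, rfl⟩, rfl⟩
      exact LinearMap.congr_fun r5 x
    rw [k4, finrank_bot] at k3
    rw [finrank_top, h.dim] at k1
    omega
  -- `mv u ≤ fx u`
  have m1 : finrank F (mv u) = 3 := by
    have h5 := LinearMap.finrank_range_add_finrank_ker (u - 1)
    change finrank F (mv u) + finrank F (fx u) = _ at h5
    rw [r1, h.dim] at h5
    omega
  have m2 : mv u ⊓ fx a = ⊥ := by
    have m3 := h.mod ha (mv u) (fun v hv => comm_mem_mv hab hv)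
    have m4 : finrank F ↥(mv u ⊓ fx a) ≤ 2 := by
      rw [← h1]; exact Submodule.finrank_mono inf_le_right
    rw [m1] at m3
    have m5 : finrank F ↥(mv u ⊓ fx a) = 0 := by
      generalize finrank F ↥(mv u ⊓ fx a) = i at m3 m4
      interval_cases i <;> first | rfl | (exfalso; revert m3; decide)
    exact Submodule.finrank_eq_zero.1 m5
  have m6 : finrank F ↥(mv u ⊓ fx u) = 0 ∨ finrank F ↥(mv u ⊓ fx u) = 3 := by
    have m3 := h.mod ha (mv u ⊓ fx u) (fun v hv => ⟨comm_mem_mv hab hv.1, comm_mem_fx hab hv.2⟩)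
    have m4 : mv u ⊓ fx u ⊓ fx a = ⊥ := by
      rw [eq_bot_iff, ← m2]
      exact fun v hv => ⟨hv.1.1, hv.2⟩
    rw [m4, finrank_bot] at m3
    have m5 : finrank F ↥(mv u ⊓ fx u) ≤ 3 := by
      rw [← m1]; exact Submodule.finrank_mono inf_le_left
    generalize finrank F ↥(mv u ⊓ fx u) = i at m3 m5
    interval_cases i <;> first | (left; rfl) | (right; rfl) | (exfalso; revert m3; decide)
  have m7 : mv u ≤ fx u := by
    rcases m6 with m6 | m6
    · exfalso
      rw [Submodule.finrank_eq_zero] at m6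
      -- `u - 1` is injective on `mv u`
      have m8 : mv u = ⊥ := by
        rw [eq_bot_iff]
        intro v hv
        have n1 : ∀ w ∈ mv u, (u - 1) w = 0 → w = 0 := by
          intro w hw hw0
          have : w ∈ mv u ⊓ fx u := ⟨hw, hw0⟩
          rw [m6] at this
          exact (Submodule.mem_bot F).1 this
        have n2 : ∀ w, (u - 1) w ∈ mv u := fun w => ⟨w, rfl⟩
        obtain ⟨x, rfl⟩ := hv
        rw [Submodule.mem_bot]
        exact n1 _ (n2 _) (n1 _ (n2 _) (LinearMap.congr_fun r5 x))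
      rw [m8, finrank_bot] at m1
      omega
    · exact inf_eq_left.1 (Submodule.eq_of_le_of_finrank_eq inf_le_left (by rw [m6, m1]))
  -- the alternating form
  have s1 : ∀ x : V, u (u x) = u x + (u x - x) := by
    intro x
    have h5 : u ((u - 1) x) = (u - 1) x := mem_fx.1 (m7 ⟨x, rfl⟩)
    rw [LinearMap.sub_apply, Module.End.one_apply, map_sub, sub_eq_iff_eq_add] at h5
    rw [h5]
    abel
  have s2 : ∀ x y : V, polar Q x (u y - y) = - polar Q y (u x - x) := by
    intro x y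
    have e1 := polar_map hqu x (u y - y)
    have e2 : u (u y - y) = u y - y := by rw [map_sub, s1]; abel
    rw [e2] at e1
    -- `B (u x) (u y - y) = B x (u y - y)`
    have e3 := polar_map hqu x y
    have e4 : polar Q (u x) y = polar Q (u x) (u y) - polar Q (u x) (u y - y) := by
      rw [polar_sub_right]; ring
    rw [polar_comm Q y, polar_sub_left, e4, e3, e1]
    ring
  obtain ⟨W, hW⟩ := Submodule.exists_isCompl (fx u)
  have w1 : finrank F W = 3 := by
    have := Submodule.finrank_add_eq_of_isCompl hW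
    rw [r1, h.dim] at this
    omega
  let B : LinearMap.BilinForm F W := ((QuadraticMap.polarBilin Q).compl₁₂ W.subtype ((u - 1) ∘ₗ W.subtype))
  have hB : ∀ x y : W, B x y = polar Q (x : V) (u (y : V) - y) := fun x y => rfl
  have hA : B.IsAlt := by
    intro x
    have e1 := s2 x x
    have e2 : (2 : F) * polar Q (x : V) (u (x : V) - x) = 0 := by linear_combination e1
    exact (mul_eq_zero.1 e2).resolve_left h.two
  have hnd : ∀ y : W, (∀ x, B y x = 0) → y = 0 := by
    intro y hy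
    have e1 : ∀ x : V, polar Q x (u (y : V) - y) = 0 := by
      intro x
      obtain ⟨p, hp, w, hw, rfl⟩ := Submodule.mem_sup.1 (show x ∈ fx u ⊔ W by rw [hW.sup_eq_top]; trivial)
      rw [polar_add_left, s2 p, mem_fx.1 hp, sub_self, polar_zero_right, neg_zero, zero_add, s2 w]
      have := hy ⟨w, hw⟩
      rw [hB] at this
      change -polar Q (y : V) (u w - w) = 0
      rw [this, neg_zero]
    have e2 : u (y : V) - y = 0 := h.nondeg _ fun z => by rw [polar_comm]; exact e1 z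
    have e3 : (y : V) ∈ fx u ⊓ W := ⟨mem_fx.2 (sub_eq_zero.1 e2), y.2⟩
    rw [hW.inf_eq_bot] at e3
    exact Subtype.ext ((Submodule.mem_bot F).1 e3)
  have := H150.even_finrank_of_alt B hA hnd
  rw [w1] at this
  revert this
  decide

end Quad

end Cfsg.Agent.H612.Eight
end

-- part: H612/Eight/Thirteen
section
/-!
# `PΩ⁺₈(3)`: an element of order divisible by 13 has order 13 (helper612, S4899)
-/

set_option autoImplicit false

open Cfsg

namespace Cfsg.Agent.H612.Eight

open Module Cfsg.Agent.H420.DFourThree Cfsg.Agent.H732.SelfCent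
open Cfsg.Agent.LieClassical.OrthCount Cfsg.Agent.LieClassical.OmegaReindex
open Cfsg.Agent.LieClassical.OrthCenter Cfsg.Agent.LieClassical.OrthCore
open Cfsg.Agent.H377 Cfsg.Agent.H150

theorem card_op83 {F : Type*} [Field F] [Fintype F] (hF : Fintype.card F = 3) :
    Nat.card (POmega F (quadFormPlus 4 F)) = 4952179814400 := by
  have h := Cfsg.Agent.S0293.result hF 4 le_rfl
  norm_num only [Finset.prod_range_succ] at h
  omega

theorem ord_thirteen {F : Type*} [Field F] [Fintype F] (hF : Fintype.card F = 3)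
    (g : POmega F (quadFormPlus 4 F)) (hg : 13 ∣ orderOf g) : orderOf g = 13 := by
  have hqe : Nat.card F = 3 := by rw [Nat.card_eq_fintype_card, hF]
  have h2 : (2 : F) ≠ 0 := by
    have h := natCast_ne_zero_of_not_dvd (F := F) (r := 2) Nat.prime_two (by rw [hqe]; norm_num)
    exact_mod_cast h
  have hcard := card_op83 hF
  have hfin : Finite (POmega F (quadFormPlus 4 F)) := Nat.finite_of_card_ne_zero (by rw [hcard]; norm_num)
  have hcard' : Nat.card (POmega F (quadFormPlus 4 F)) =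
      2 ^ 12 * 3 ^ 12 * 5 ^ 2 * 7 ^ 1 * 11 ^ 0 * 13 ^ 1 * 17 ^ 0 * 31 ^ 0 := by
    rw [hcard]; norm_num
  have p13 : Nat.Prime 13 := by norm_num
  have h13F : ((13 : ℕ) : F) ≠ 0 := natCast_ne_zero_of_not_dvd p13 (by rw [hqe]; norm_num)
  have ho : orderOf ((3 : ℕ) : ZMod 13) = 3 := ord_eq (by norm_num) (by decide) (by decide)
  obtain ⟨R, hR, hC⟩ := selfcent_of_orders (G := POmega F (quadFormPlus 4 F)) (r := 13) p13 (by rw [hcard]; norm_num)
    (by rw [hcard]; norm_num) (by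
      intro s hs hsd hne
      rw [hcard'] at hsd
      rcases small_primes hs hsd with ⟨rfl, -⟩ | ⟨rfl, -⟩ | ⟨rfl, -⟩ | ⟨rfl, -⟩ | ⟨rfl, h⟩ | ⟨rfl, h⟩ | ⟨rfl, h⟩ | ⟨rfl, h⟩
      · rw [← coe_quadPlus]
        intro g
        rw [mul_comm]
        exact gen_partial_odd h2 (quadPlus 4 F) quadPlus_nondegenerate (by simp) (n := 4) (quadPlus_sing (by omega)) p13
          (by norm_num) h13F (by norm_num) (Or.inl rfl) (by rw [coe_quadPlus]; exact hasSign_quadFormPlus 4)
          (by rw [hqe]; exact ho) (by decide) (by rw [hqe]) (by rw [hqe]; norm_num) (by rw [hqe]; norm_num) g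
      · rw [← coe_quadPlus]
        intro g hg
        obtain ⟨a, u, ha, hu, ha1, hu1, hau, hqa, hqu⟩ := exists_pair p13 Nat.prime_three (by norm_num) (by norm_num) hg
        exact no39 (dat hF) ha hu ha1 hu1 hau hqa hqu
      · intro g
        rw [mul_comm]
        exact nonAdj_five_thirteen hF g
      · intro g
        rw [mul_comm]
        exact nonAdj_seven_thirteen hF g
      · exact absurd rfl h
      · exact absurd rfl hne
      · exact absurd rfl h
      · exact absurd rfl h)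
  exact ord_of_selfcent p13 (by rw [hcard]; norm_num) hR hC g hg

end Cfsg.Agent.H612.Eight
end

-- part: H612/Eight/EightThree
section
/-!
# Eight character degrees in `PΩ⁺_8(3)` (helper612, S4899)
-/

set_option autoImplicit false

open Cfsg

namespace Cfsg.Agent.H612.Eight

open Cfsg.Agent.H674.Dl Cfsg.Agent.H477.HC Cfsg.Agent.H175.Eight

/-- the possible values of the third degree -/
theorem third_cases {e f j : ℕ} (hf : f ∣ 4) (h : e * f = 3 ^ j * 716800) (hsq : e ^ 2 ≤ 4952179814400) :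
    e = 716800 ∨ e = 2150400 ∨ e = 358400 ∨ e = 1075200 ∨ e = 179200 ∨ e = 537600 ∨ e = 1612800 := by
  have he : e ≤ 2225349 := by
    by_contra hc
    have : 2225350 ^ 2 ≤ e ^ 2 := Nat.pow_le_pow_left (by omega) 2
    norm_num at this
    omega
  have hf4 : f ≤ 4 := Nat.le_of_dvd (by norm_num) hf
  have hj : j ≤ 2 := by
    by_contra hc
    have h5 : 3 ^ 3 ≤ 3 ^ j := Nat.pow_le_pow_right (by norm_num) (by omega)
    have h6 : 3 ^ 3 * 716800 ≤ 3 ^ j * 716800 := Nat.mul_le_mul_right _ h5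
    have h7 : e * f ≤ 2225349 * 4 := Nat.mul_le_mul he hf4
    omega
  interval_cases j <;> interval_cases f <;> (clear * - hf h he; omega)

/-- **`PΩ⁺_8(3)` has at least eight character degrees.** -/
theorem eight_op83 {F : Type*} [Field F] [Fintype F] (hF : Fintype.card F = 3) :
    H664.Eight.Eight (POmega F (quadFormPlus 4 F)) := by
  classical
  have hq : Nat.card F = 3 := by rw [Nat.card_eq_fintype_card, hF]
  have : Fact (Nat.Prime 3) := ⟨Nat.prime_three⟩
  have : Fact (Nat.Prime 13) := ⟨by norm_num⟩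
  have : CharP F 3 := charP_of_card Nat.prime_three hF
  have hcard := card_op83 hF
  have hfin : Finite (POmega F (quadFormPlus 4 F)) := Nat.finite_of_card_ne_zero (by rw [hcard]; norm_num)
  have hcc : cc (Nat.card F) = 4 := by
    unfold cc
    rw [hq, if_pos (by decide)]
  -- the two small degrees
  obtain ⟨b, a, hb, ha, hb', ha'⟩ := rk3_plus F (m := 4) (by norm_num)
  rw [hq] at ha' hb'
  norm_num at ha' hb'
  have ea : a = 819 := by omega
  have eb : b = 300 := by omega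
  subst ea eb
  have m819 := mem_of_ch ha
  obtain ⟨φ300, d300⟩ := mem_of_ch hb
  obtain ⟨φ1, d1⟩ := exists_triv (POmega F (quadFormPlus 4 F))
  -- the Steinberg degree
  obtain ⟨φst, dst⟩ := steinberg_mem (F := F) (p := 3) (m := 4) (by norm_num) (k := 12) (N := 9318400)
    (by rw [hcard]; norm_num) (by norm_num)
  norm_num at dst
  -- the two large ones
  have key : ∀ k D, 3 ≤ k → k ≤ 4 → D ≠ 0 → pp 3 (dg (CForm.plusF F 4) k) = D →
      ∃ e j f, e ∈ charDegrees (POmega F (quadFormPlus 4 F)) ∧ f ∣ 4 ∧ e * f = 3 ^ j * D := by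
    intro k D hk hk5 hD0 hD
    obtain ⟨e, he⟩ := plus_dn F 3 (m := 4) (k := k) (by norm_num) (by omega) hk5 (Or.inl hk)
    obtain ⟨hm, j, f, hf, hj⟩ := mem_of_dn he hD hD0
    rw [hcc] at hf
    exact ⟨e, j, f, hm, hf, hj⟩
  have h3 := D_plus F 3 (k := 3) (n := 1) (m := 4) (by norm_num) (by norm_num) (by norm_num)
  have h4 := D_plus_top F 3 (m := 4) (by norm_num)
  have p2 : pp 3 2 = 2 := pp_self (by norm_num)
  rw [hq] at h3 h4
  rw [p2] at h4
  simp only [AP, Nat.reduceSub, Finset.prod_Ico_eq_prod_range, Finset.prod_range_succ, Finset.prod_range_zero] at h3 h4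
  norm_num at h3 h4
  obtain ⟨e3, j3, f3, m3, hf3, he3⟩ := key 3 716800 (by norm_num) (by norm_num) (by norm_num) (by omega)
  obtain ⟨e4, j4, f4, m4, hf4, he4⟩ := key 4 931840 (by norm_num) (by norm_num) (by norm_num) (by omega)
  have m3sq := mem_sq_le m3
  rw [hcard] at m3sq
  have c3 := third_cases hf3 he3 m3sq
  have d4 : 65 ∣ e4 := by
    have h5 : 65 ∣ e4 * f4 := by rw [he4]; exact Dvd.dvd.mul_left (by norm_num) _
    have h6 : Nat.Coprime 65 f4 := Nat.Coprime.coprime_dvd_right hf4 (by norm_num)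
    exact h6.dvd_of_dvd_mul_right h5
  obtain ⟨φ3, d3⟩ := m3
  -- the block
  obtain ⟨NE, X, ε, D, hblk⟩ := exists_blk (G := POmega F (quadFormPlus 4 F)) (p := 13) (by norm_num) hcard (by norm_num)
    (by norm_num) (ord_thirteen hF) (e := 6) (t := 2) (by norm_num) (by
      intro e' he' h1 h2
      have h3 : e' ≤ 12 := Nat.le_of_dvd (by norm_num) he'
      interval_cases e' <;> revert h1 h2 he' <;> norm_num)
  have hA : Fam (POmega F (quadFormPlus 4 F)) 13 NE ε := ⟨hblk.sign, hblk.congr⟩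
  have hAd : ∀ χ ∈ NE, ¬ 13 ∣ charDegree (χ : POmega F (quadFormPlus 4 F) → ℂ) := by
    intro χ hχ h7
    have h1 := hA.congr χ hχ
    rcases hA.sign χ hχ with e | e <;> rw [e] at h1 <;> omega
  have hne3 : ∀ χ ∈ NE, charDegree (χ : POmega F (quadFormPlus 4 F) → ℂ) ≠ e3 := by
    intro χ hχ hd
    have h1 := hA.congr χ hχ
    rw [hd] at h1
    have h2 : (13 : ℤ) ∣ (e3 : ℤ) - 1 ∨ (13 : ℤ) ∣ (e3 : ℤ) + 1 := by
      rcases hA.sign χ hχ with e | e <;> rw [e] at h1
      · left; exact h1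
      · right; exact h1
    rcases c3 with rfl | rfl | rfl | rfl | rfl | rfl | rfl <;> revert h2 <;> norm_num
  have h3X : φ3 ∈ X := by
    by_contra hX
    have h1 := hblk.rest φ3 (fun h => hne3 _ h d3) hX
    rw [d3] at h1
    rcases c3 with rfl | rfl | rfl | rfl | rfl | rfl | rfl <;> revert h1 <;> norm_num
  have hD : D = e3 := by rw [← d3]; exact (hblk.degX _ h3X).symm
  have hsum : (∑ χ ∈ NE, ε χ * (charDegree (χ : POmega F (quadFormPlus 4 F) → ℂ) : ℤ) = 716800 ∧ e3 = 716800) ∨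
      (∑ χ ∈ NE, ε χ * (charDegree (χ : POmega F (quadFormPlus 4 F) → ℂ) : ℤ) = -1612800 ∧ e3 = 1612800) := by
    have h1 := hblk.sum_congr
    have h2 := hblk.sum
    rw [hD] at h2
    generalize ∑ χ ∈ NE, ε χ * (charDegree (χ : POmega F (quadFormPlus 4 F) → ℂ) : ℤ) = S at h1 h2
    push_cast at h1
    rcases c3 with rfl | rfl | rfl | rfl | rfl | rfl | rfl <;> rcases h2 with rfl | rfl <;> revert h1 <;> norm_num only [and_self,
        or_false, imp_self, and_true, or_self, or_true]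
  have a1 : φ1 ∈ NE := hblk.mem_NE d1 (by norm_num) (by norm_num) (by norm_num)
  have a300 : φ300 ∈ NE := hblk.mem_NE d300 (by norm_num) (by norm_num) (by norm_num)
  have ast : φst ∈ NE := hblk.mem_NE dst (by norm_num) (by norm_num) (by norm_num)
  have s1 := hA.signed (by norm_num) a1 (δ := 1) (Or.inl rfl) d1 (by norm_num)
  have s300 := hA.signed (by norm_num) a300 (δ := 1) (Or.inl rfl) d300 (by norm_num)
  have sst := hA.signed (by norm_num) ast (δ := 1) (Or.inl rfl) dst (by norm_num)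
  have hmst : (531441 : ℕ) ∈ charDegrees (POmega F (quadFormPlus 4 F)) := ⟨φst, dst⟩
  have hm300 : (300 : ℕ) ∈ charDegrees (POmega F (quadFormPlus 4 F)) := ⟨φ300, d300⟩
  have hm1 : (1 : ℕ) ∈ charDegrees (POmega F (quadFormPlus 4 F)) := ⟨φ1, d1⟩
  have hm3 : e3 ∈ charDegrees (POmega F (quadFormPlus 4 F)) := ⟨φ3, d3⟩
  rcases two_new (by norm_num) hA [1, 300, 819, 531441, e3, e4] with ⟨x, hx, y, hy, hxy, hxK, hyK⟩ | ⟨w, hw, hwA⟩
  · refine H664.Eight.eight_of_list [1, 300, 819, 531441, e3, e4, x, y]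
      (nodup_two (nodup83 (hsum.imp (fun h => h.2) (fun h => h.2)) d4) hxK hyK hxy) (Nat.le_refl 8) ?_
    · intro d hd
      simp only [List.mem_cons, List.not_mem_nil, or_false] at hd
      rcases hd with rfl | rfl | rfl | rfl | rfl | rfl | rfl | rfl
      · exact hm1
      · exact hm300
      · exact m819
      · exact hmst
      · exact hm3
      · exact m4
      · exact hx
      · exact hy
  · exfalso
    have n1 := ne_of_deg d1 d300 (by norm_num)
    have n2 := ne_of_deg d1 dst (by norm_num)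
    have n4 := ne_of_deg d300 dst (by norm_num)
    have hT : ({φ1, φ300, φst} : Finset (IrrCharacter (POmega F (quadFormPlus 4 F)))) ⊆ NE := by
      intro χ hχ
      simp only [Finset.mem_insert, Finset.mem_singleton] at hχ
      rcases hχ with rfl | rfl | rfl
      · exact a1
      · exact a300
      · exact ast
    have hTc : ({φ1, φ300, φst} : Finset (IrrCharacter (POmega F (quadFormPlus 4 F)))).card = 3 := by
      rw [Finset.card_insert_of_notMem (by simp [n1, n2]), Finset.card_insert_of_notMem (by simp [n4]),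
        Finset.card_singleton]
    have hTs : ∑ χ ∈ ({φ1, φ300, φst} : Finset (IrrCharacter (POmega F (quadFormPlus 4 F)))),
        ε χ * (charDegree (χ : POmega F (quadFormPlus 4 F) → ℂ) : ℤ) = 531742 := by
      rw [Finset.sum_insert (by simp [n1, n2]), Finset.sum_insert (by simp [n4]),
        Finset.sum_singleton, s1, s300, sst]
      norm_num
    have hBc := Finset.card_sdiff_of_subset hT
    simp only [hblk.card_NE, hTc] at hBc
    obtain ⟨x, y, z, hxy, hxz, hyz, hB⟩ := Finset.card_eq_three.1 hBc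
    have hsplit := Finset.sum_sdiff (f := fun χ : IrrCharacter (POmega F (quadFormPlus 4 F)) =>
      ε χ * (charDegree (χ : POmega F (quadFormPlus 4 F) → ℂ) : ℤ)) hT
    rw [hTs, hB, Finset.sum_insert (by simp [hxy, hxz]), Finset.sum_insert (by simp [hyz]),
      Finset.sum_singleton] at hsplit
    have hmem : ∀ χ ∈ ({x, y, z} : Finset (IrrCharacter (POmega F (quadFormPlus 4 F)))), χ ∈ NE := by
      intro χ hχ
      rw [← hB] at hχ
      exact (Finset.mem_sdiff.1 hχ).1
    have hval : ∀ χ ∈ NE, ε χ * (charDegree (χ : POmega F (quadFormPlus 4 F) → ℂ) : ℤ) = 1 ∨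
        ε χ * (charDegree (χ : POmega F (quadFormPlus 4 F) → ℂ) : ℤ) = 300 ∨
        ε χ * (charDegree (χ : POmega F (quadFormPlus 4 F) → ℂ) : ℤ) = 531441 ∨
        ε χ * (charDegree (χ : POmega F (quadFormPlus 4 F) → ℂ) : ℤ) = w := by
      intro χ hχ
      rcases hwA χ hχ with h | h
      · simp only [List.mem_cons, List.not_mem_nil, or_false] at h
        rcases h with h | h | h | h | h | h
        · left
          rw [hA.signed (by norm_num) hχ (δ := 1) (Or.inl rfl) h (by norm_num)]; norm_num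
        · right; left
          rw [hA.signed (by norm_num) hχ (δ := 1) (Or.inl rfl) h (by norm_num)]; norm_num
        · exact absurd (by rw [h]; norm_num) (hAd χ hχ)
        · right; right; left
          rw [hA.signed (by norm_num) hχ (δ := 1) (Or.inl rfl) h (by norm_num)]; norm_num
        · exact absurd h (hne3 χ hχ)
        · exact absurd (by rw [h]; exact (Dvd.dvd.trans (by norm_num) d4)) (hAd χ hχ)
      · exact Or.inr (Or.inr (Or.inr h))
    have hwd : w ∣ 4952179814400 := by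
      have h := mem_dvd hw
      rw [hcard] at h
      have h' : (w.natAbs : ℤ) ∣ ((4952179814400 : ℕ) : ℤ) := by exact_mod_cast h
      rw [Int.natAbs_dvd] at h'
      exact_mod_cast h'
    have hv : ∀ s : ℤ, (s = 1 ∨ s = 300 ∨ s = 531441 ∨ s = w) → (s ∈ [1, 300, 531441] ∨ s = w) := by
      intro s hs
      simpa only [List.mem_cons, List.not_mem_nil, or_false, or_assoc] using hs
    have vx := hv _ (hval x (hmem x (Finset.mem_insert_self _ _)))
    have vy := hv _ (hval y (hmem y (Finset.mem_insert_of_mem (Finset.mem_insert_self _ _))))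
    have vz := hv _ (hval z (hmem z (Finset.mem_insert_of_mem (Finset.mem_insert_of_mem (Finset.mem_singleton_self _)))))
    rcases hsum with ⟨hsum, -⟩ | ⟨hsum, -⟩ <;> rw [hsum] at hsplit
    · exact tri [1, 300, 531441] 4952179814400 (716800 - 531742) hwd vx vy vz (eq_sub_of_add_eq hsplit) (by decide +kernel)
    · exact tri [1, 300, 531441] 4952179814400 (-1612800 - 531742) hwd vx vy vz (eq_sub_of_add_eq hsplit) (by decide +kernel)

end Cfsg.Agent.H612.Eight
end

-- part: H925/Eight/PlusAll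
section
/-!
# **`PΩ⁺_{2m}(q)`, `m ≥ 4`, has at least eight character degrees** (helper925, helper612, S4899)
-/

set_option autoImplicit false

open Cfsg

namespace Cfsg.Agent.H925.Eight

open Cfsg.Agent.H664.Eight

universe u

theorem eight_op {m : ℕ} (hm : 4 ≤ m) {F : Type u} [Field F] [Finite F] : Eight (POmega F (quadFormPlus m F)) := by
  classical
  let _ := Fintype.ofFinite F
  by_cases h2 : m = 4 ∧ Nat.card F = 2
  · obtain ⟨rfl, h⟩ := h2
    exact H612.Eight.eight_op82 (by rw [← Nat.card_eq_fintype_card]; exact h)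
  by_cases h3 : m = 4 ∧ Nat.card F = 3
  · obtain ⟨rfl, h⟩ := h3
    exact H612.Eight.eight_op83 (by rw [← Nat.card_eq_fintype_card]; exact h)
  exact eight_gen F hm h2 h3

end Cfsg.Agent.H925.Eight
end
end

section
prune_inst 0xfde9fcbba823dfdfff7e3fa6d8cffc33800fffe6dff943ffe0699f0b9f131009c56b850de010fe0ed6e21410b87843fb7eceffe06bdc7ffffd5ff41ffbee4fe5f7350811d488340f3c2ff703e0778a6f000000000000000000000000000000000200000000

-- part: H7/Eight/UnMain
section
prune_inst 0x204010000c42000000000000000000000000000000008000000202000200200000008000000000000000000000000008100000000000000000000400000100000880000020000000000000010000400000000000000000000000800000010000008000000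
set_option linter.all false
open scoped Cfsg.Agent.FastGrp

-- part: H7/Eight/UnFrame
section
/-!
# Frames of the standard Hermitian form (helper7)

`hermF_fr` : a hyperbolic frame; `hermF_cmp` : the instance of `Cmp`; `ts_le` : totally isotropic subspaces have dimension
at most `n / 2`; `dg_eq` : the exact `p'`-part of `dg (hermF n) k`.
-/

set_option autoImplicit false
set_option linter.unusedSectionVars false

open scoped ComplexConjugate
open Cfsg

namespace Cfsg.Agent.H7.Eight.UnFrame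

open Cfsg.Agent.Characters Module Cfsg.Agent.H53.HC Cfsg.Agent.H477.HC Cfsg.Agent.H477.HC.CForm Cfsg.Agent.H749.Two
open Cfsg.Agent.H113.PSU.Levi (uu card_iso)

universe u

variable {K : Type u} [Field K] [Fintype K] {q : ℕ}

/-- a hyperbolic frame of the standard Hermitian form -/
theorem hermF_fr (hq : Nat.card K = q ^ 2) (k n : ℕ) : ∃ e f : Fin k → (Fin (k + (k + n)) → K),
    (∀ i l, (hermF K hq (k + (k + n))).B (e i) (e l) = 0) ∧
    (∀ i l, (hermF K hq (k + (k + n))).B (f i) (f l) = 0) ∧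
    (∀ i l, (hermF K hq (k + (k + n))).B (e i) (f l) = if i = l then 1 else 0) ∧
    (∀ x i, (hermF K hq (k + (k + n))).B (jherm K k n x) (e i) = 0) ∧
    (∀ x i, (hermF K hq (k + (k + n))).B (jherm K k n x) (f i) = 0) := by
  classical
  have hq0 : q ≠ 0 := by have := two_le_of_card hq; omega
  obtain ⟨x, y, hx, hy, hxy⟩ := exists_norm_neg_one hq
  let b : K := powHom hq (1 + x * y ^ q)⁻¹
  have hb : b ^ q = (1 + x * y ^ q)⁻¹ := by
    rw [← powHom_apply hq, powHom_powHom]
  refine ⟨hv K k n 1 x, hv K k n b (b * y), ?_, ?_, ?_, ?_, ?_⟩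
  · intro i l
    rw [hermF_B, herm_hv hq0]
    split_ifs
    · rw [one_pow, one_mul, ← pow_succ', hx]
    · rfl
  · intro i l
    rw [hermF_B, herm_hv hq0]
    split_ifs
    · have : b * b ^ q + b * y * (b * y) ^ q = b * b ^ q * (1 + y ^ (q + 1)) := by ring
      rw [this, hy, mul_zero]
    · rfl
  · intro i l
    rw [hermF_B, herm_hv hq0]
    split_ifs
    · have : 1 * b ^ q + x * (b * y) ^ q = b ^ q * (1 + x * y ^ q) := by ring
      rw [this, hb, inv_mul_cancel₀ hxy]
    · rfl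
  · intro x i
    simp only [hermForm, Fin.sum_univ_add, hv, hq0, _root_.Cfsg.Agent.H477.HC.CForm.hermF_B, _root_.Cfsg.Agent.H477.HC.CForm.jherm_1, _root_.Fin.addCases_left, _root_.ite_pow, _root_.one_pow, _root_.ne_eq, _root_.not_false_eq_true, _root_.zero_pow, _root_.mul_ite, _root_.mul_one, _root_.MulZeroClass.mul_zero, _root_.ite_self, _root_.Finset.sum_const_zero, _root_.Fin.addCases_right, _root_.Cfsg.Agent.H477.HC.CForm.jherm_2, _root_.MulZeroClass.zero_mul, _root_.Cfsg.Agent.H477.HC.CForm.jherm_3, _root_.add_zero]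
  · intro x i
    simp only [hermForm, Fin.sum_univ_add, hv, hq0, _root_.Cfsg.Agent.H477.HC.CForm.hermF_B, _root_.Cfsg.Agent.H477.HC.CForm.jherm_1, _root_.Fin.addCases_left, _root_.ite_pow, _root_.ne_eq, _root_.not_false_eq_true, _root_.zero_pow, _root_.mul_ite, _root_.MulZeroClass.zero_mul, _root_.MulZeroClass.mul_zero, _root_.ite_self, _root_.Finset.sum_const_zero, _root_.Fin.addCases_right, _root_.Cfsg.Agent.H477.HC.CForm.jherm_2, _root_.Cfsg.Agent.H477.HC.CForm.jherm_3, _root_.add_zero]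

/-- the complement -/
theorem hermF_cmp (hq : Nat.card K = q ^ 2) (k n : ℕ) : ∃ W₀, W₀ ∈ (hermF K hq (k + (k + n))).Om k ∧
    Cmp (hermF K hq (k + (k + n))) (hermF K hq n) (jherm K k n) W₀ := by
  classical
  obtain ⟨e, f, hee, hff, hef, hje, hjf⟩ := hermF_fr hq k n
  refine ⟨_, cmp_of_frame (F := hermF K hq (k + (k + n))) (F' := hermF K hq n) (j := jherm K k n) rfl hee hff hef
    (fun i => hee i i) ?_ ?_ hje hjf ?_⟩
  · intro x y
    simp only [hermForm, Fin.sum_univ_add, _root_.Cfsg.Agent.H477.HC.CForm.hermF_B, _root_.Cfsg.Agent.H477.HC.CForm.jherm_1, _root_.MulZeroClass.zero_mul, _root_.Finset.sum_const_zero, _root_.Cfsg.Agent.H477.HC.CForm.jherm_2, _root_.Cfsg.Agent.H477.HC.CForm.jherm_3, _root_.zero_add]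
  · intro x
    simp only [hermForm, Fin.sum_univ_add, _root_.Cfsg.Agent.H477.HC.CForm.hermF_Q, _root_.Cfsg.Agent.H477.HC.CForm.jherm_1, _root_.MulZeroClass.zero_mul, _root_.Finset.sum_const_zero, _root_.Cfsg.Agent.H477.HC.CForm.jherm_2, _root_.Cfsg.Agent.H477.HC.CForm.jherm_3, _root_.zero_add]
  · simp only [_root_.Module.finrank_fintype_fun_eq_card, _root_.Fintype.card_fin]
    ring

/-- the dimension of a totally isotropic subspace -/
theorem ts_le (hq : Nat.card K = q ^ 2) (n : ℕ) {W : Submodule K (Fin n → K)} (hW : (hermF K hq n).TS W) :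
    finrank K W ≤ n / 2 := by
  have h := two_finrank_le hW
  rw [finrank_fin_fun] at h
  omega

/-- no orthogonal disjoint pair -/
theorem no_disj' (hq : Nat.card K = q ^ 2) {n k : ℕ} (hk : n < 4 * k) {W : Submodule K (Fin n → K)}
    (hW : W ∈ (hermF K hq n).Om k) :
    ∀ W' ∈ (hermF K hq n).Om k, W ≤ (hermF K hq n).perp W' → W ⊓ W' = ⊥ → False :=
  no_disj (m := n / 2) (fun _ h => ts_le hq n h) (by omega) hW

/-- the exact `p'`-part of `dg` -/
theorem dg_eq (hq : Nat.card K = q ^ 2) {p : ℕ} [Fact p.Prime] [CharP K p] {k : ℕ} (hk : 0 < k) (n : ℕ) :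
    ∃ a b : ℕ, p ^ a * (dg (hermF K hq (k + (k + n))) k * (q ^ (2 * k) - 1)) =
      p ^ b * ∏ i ∈ Finset.Ico n (k + (k + n)), uu q (i + 1) := by
  classical
  obtain ⟨W₀, hW₀, h⟩ := hermF_cmp hq k n
  obtain ⟨a, ha⟩ := card_exact (p := p) h hW₀
  obtain ⟨s, hs⟩ := card_GL_eq K k hk
  obtain ⟨m, hm⟩ : ∃ m, q = p ^ m := by
    obtain ⟨r, -, hr⟩ := FiniteField.card K p
    rw [← Nat.card_eq_fintype_card, hq] at hr
    obtain ⟨m, -, hm⟩ := (Nat.dvd_prime_pow (Fact.out : p.Prime)).1 ((dvd_pow_self q two_ne_zero).trans (dvd_of_eq hr))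
    exact ⟨m, hm⟩
  rw [card_iso, card_iso, ← Finset.prod_range_mul_prod_Ico _ (by omega : n ≤ k + (k + n)), hs, hq] at ha
  have hpos : 0 < ∏ i ∈ Finset.range n, uu q (i + 1) :=
    Finset.prod_pos fun i _ => Cfsg.Agent.H113.PSU.Levi.uu_pos (two_le_of_card hq) (by omega)
  refine ⟨a + m * (2 * s) + m * (n * (n - 1) / 2), m * ((k + (k + n)) * (k + (k + n) - 1) / 2), ?_⟩
  apply Nat.eq_of_mul_eq_mul_right hpos
  unfold dg
  have e1 : p ^ (a + m * (2 * s) + m * (n * (n - 1) / 2)) = p ^ a * (q ^ 2) ^ s * q ^ (n * (n - 1) / 2) := by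
    rw [pow_add, pow_add, pow_mul p m (2 * s), pow_mul p m, ← hm, pow_mul q 2 s]
  have e2 : p ^ (m * ((k + (k + n)) * (k + (k + n) - 1) / 2)) = q ^ ((k + (k + n)) * (k + (k + n) - 1) / 2) := by
    rw [pow_mul, ← hm]
  rw [hq, e1, e2, pow_mul q 2 k]
  have ha' := ha.symm
  refine Eq.trans ?_ (ha'.trans ?_)
  · ring
  · ring

end Cfsg.Agent.H7.Eight.UnFrame
end

-- part: H7/Eight/UnVan
section
/-!
# Harish-Chandra induction from the stabiliser of a totally singular subspace: a vanishing condition (helper7)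

`van_inner` : the vanishing hypothesis of helper113's `exists_hc_van` for `ψ = ψ₀ ∘ ρ`, if `c` is not a constituent of
`ψ₀` on the subgroups `F'.TT U` (`U ∈ F'.Om k`); adapted from helper113's `van_cusp`.
`exists_one_gen` : the resulting irreducible characters for `k = 1`.
-/

set_option autoImplicit false
set_option linter.unusedSectionVars false
set_option linter.style.haveILetI false

open scoped ComplexConjugate
open Cfsg

namespace Cfsg.Agent.H7.Eight.UnVan

open Cfsg.Agent.OddOrderCharacters.Clifford Cfsg.Agent.Characters MulAction Module Cfsg.Agent.H53.HC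
open Cfsg.Agent.H477.HC Cfsg.Agent.H749.Two Cfsg.Agent.H113.PSL.Hyper Cfsg.Agent.H113.PSL.Para
open Cfsg.Agent.H113.Two.HcOne

universe u v w

variable {K : Type u} [Field K] {V : Type v} [AddCommGroup V] [Module K V] {X : Type w} [AddCommGroup X] [Module K X]
variable {F : CForm K V} {F' : CForm K X} {j : X →ₗ[K] V} {W₀ : Submodule K V}

/-- **`W₀ ⟂ W'`, `c` not a constituent of `ψ₀` on the stabilisers** -/
theorem van_inner [Finite K] [FiniteDimensional K V] [Finite V] [FiniteDimensional K X] (h : Cmp F F' j W₀) {k : ℕ}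
    {c : GL (Fin k) K → ℂ} (hcf : IsClassFunction _ c) {ρ : stabW F.iso.subtype W₀ →* F'.iso}
    (hρ : ∀ (g : stabW F.iso.subtype W₀) x, ((g : F.iso) : V ≃ₗ[K] V) (j x) - j ((ρ g : X ≃ₗ[K] X) x) ∈ W₀)
    {ψ₀ : F'.iso → ℂ} (hψ₀ : ∀ U ∈ F'.Om k, ∀ [Fintype (F'.TT U)],
      ∑ b : F'.TT U, ψ₀ b * conj (flagTerm F'.iso.subtype c b U) = 0)
    {ψ : F.iso → Submodule K V → ℂ} (hψT : ∀ W ∈ F.Om k, ∀ g ∈ F.TT W, ψ g W = ψ 1 W)
    (hψ : ∀ g : stabW F.iso.subtype W₀, ψ g W₀ = ψ₀ (ρ g))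
    {W' : Submodule K V} (hW₀ : W₀ ∈ F.Om k)
    (hW' : W' ∈ F.Om k) (hperp : W₀ ≤ F.perp W') (h0 : W₀ ⊓ W' = ⊥) : F.Van c ψ W₀ W' := by
  classical
  obtain ⟨r, hr, hrj, hrW⟩ := h.exists_proj
  have hWp : W' ≤ F.perp W₀ := fun w' hw' w hw => F.B_eq_zero (hperp hw w' hw')
  have hπ : ∀ v ∈ F.perp W₀, v - j (r v) ∈ W₀ := by
    intro v hv
    obtain ⟨w, hw, x, rfl⟩ := h.j2 v hv
    rw [map_add, hrW w hw, hrj, zero_add, add_sub_cancel_right]
    exact hw
  have hrinj : ∀ w' ∈ W', r w' = 0 → w' = 0 := by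
    intro w' hw' h1
    have h2 := hπ w' (hWp hw')
    rw [h1, map_zero, sub_zero] at h2
    have : w' ∈ W₀ ⊓ W' := ⟨h2, hw'⟩
    rw [h0] at this
    exact (Submodule.mem_bot K).1 this
  -- the new complement
  obtain ⟨δ, hδ, hδ'⟩ : ∃ δ : X →ₗ[K] V, (∀ x, δ x ∈ W₀) ∧ ∀ w' ∈ W', w' = j (r w') + δ (r w') := by
    let π : W' →ₗ[K] X := r.comp W'.subtype
    let t : W' →ₗ[K] W₀ :=
      { toFun := fun w' => ⟨(w' : V) - j (r w'), hπ _ (hWp w'.2)⟩
        map_add' := fun a b => by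
          apply Subtype.ext
          change ((a : V) + b) - j (r ((a : V) + b)) = ((a : V) - j (r a)) + ((b : V) - j (r b))
          rw [map_add, map_add]; abel
        map_smul' := fun a b => by
          apply Subtype.ext
          change (a • (b : V)) - j (r (a • (b : V))) = a • ((b : V) - j (r b))
          rw [map_smul, map_smul, smul_sub] }
    obtain ⟨s, hs⟩ := exists_factor π t (fun w' hw' => by
      have : w' = 0 := Subtype.ext (hrinj w' w'.2 hw')
      rw [this]; exact Submodule.zero_mem _)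
    refine ⟨W₀.subtype.comp s, fun x => (s x).2, fun w' hw' => ?_⟩
    have h1 : ((s (π ⟨w', hw'⟩) : W₀) : V) = w' - j (r w') := congrArg Subtype.val (hs ⟨w', hw'⟩)
    change w' = j (r w') + ((s (π ⟨w', hw'⟩) : W₀) : V)
    rw [h1]; abel
  have h' := Cmp.change h δ hδ
  set! j' := j + δ with hj'; rewrite [← hj'] at h'
  have hj'x : ∀ x, j' x = j x + δ x := fun x => rfl
  have hrj' : ∀ x, r (j' x) = x := by
    intro x
    rw [hj'x, map_add, hrj, hrW _ (hδ x), add_zero]
  have hWj : ∀ w' ∈ W', j' (r w') = w' := fun w' hw' => by rw [hj'x]; exact (hδ' w' hw').symm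
  -- the image of `W'`
  let U : Submodule K X := W'.map r
  have hU : U ∈ F'.Om k := by
    refine ⟨⟨?_, ?_⟩, ?_⟩
    · rintro _ ⟨w', hw', rfl⟩
      rw [← h'.jQ, hWj w' hw']
      exact hW'.1.1 w' hw'
    · rintro _ ⟨w', hw', rfl⟩ _ ⟨w'', hw'', rfl⟩
      rw [← h'.jB, hWj w' hw', hWj w'' hw'']
      exact hW'.1.2 w' hw' w'' hw''
    · rw [← hW'.2]
      have hinj : Function.Injective (r.domRestrict W') := by
        rw [injective_iff_map_eq_zero]
        intro w hw
        exact Subtype.ext (hrinj w w.2 hw)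
      have e : U = LinearMap.range (r.domRestrict W') := by
        ext x
        constructor
        · rintro ⟨w', hw', rfl⟩
          exact ⟨⟨w', hw'⟩, rfl⟩
        · rintro ⟨w', rfl⟩
          exact ⟨w', w'.2, rfl⟩
      rw [e]
      exact LinearMap.finrank_range_of_inj hinj
  have hρr : ∀ (g : stabW F.iso.subtype W₀) v, v ∈ F.perp W₀ → (ρ g : X ≃ₗ[K] X) (r v) = r (((g : F.iso) : V ≃ₗ[K] V) v) := by
    intro g v hv
    have h1 := hrW _ (hρ g (r v))
    rw [map_sub, hrj, sub_eq_zero] at h1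
    rw [← h1]
    have h2 : ((g : F.iso) : V ≃ₗ[K] V) (v - j (r v)) ∈ W₀ := by
      have h3 : W₀.map (F.iso.subtype (g : F.iso) : V →ₗ[K] V) = W₀ := g.2
      have : F.iso.subtype (g : F.iso) (v - j (r v)) ∈ W₀.map (F.iso.subtype (g : F.iso) : V →ₗ[K] V) :=
        ⟨_, hπ v hv, rfl⟩
      rwa [h3] at this
    have h3 := hrW _ h2
    rw [map_sub, map_sub, sub_eq_zero] at h3
    exact h3.symm
  -- the subgroup
  let L : Subgroup F.iso := fixP F W₀ ⊓ F.TT W'
  have hL0 : L ≤ stabW F.iso.subtype W₀ := inf_le_left.trans fixP_le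
  refine ⟨L, hL0, inf_le_right.trans (fun l hl => hl.1), fun {_} => ?_⟩
  have hfinX : Finite X := Module.finite_of_finite K
  have hfinXi : Finite (X ≃ₗ[K] X) := Finite.of_injective (fun e : X ≃ₗ[K] X => (e : X → X)) DFunLike.coe_injective
  letI : Fintype (F'.TT U) := Fintype.ofFinite _
  have hmem : ∀ l : L, ρ ⟨l, hL0 l.2⟩ ∈ F'.TT U := by
    intro l
    refine F'.mem_TT_of hU.1 fun x hx => ?_
    have h1 : j' x ∈ F.perp W' := by
      intro w' hw'
      rw [← hWj w' hw', h'.jB]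
      exact hx _ ⟨w', hw', rfl⟩
    have h2 := l.2.2.2 _ h1
    have h3 := hρr ⟨l, hL0 l.2⟩ (j' x) (h'.j1 x)
    rw [hrj'] at h3
    rw [h3]
    refine ⟨_, h2, ?_⟩
    rw [map_sub, hrj']
  let f : L →* F'.TT U := (ρ.comp (Subgroup.inclusion hL0)).codRestrict (F'.TT U) hmem
  have hf : Function.Surjective f := by
    rintro ⟨b, hb⟩
    obtain ⟨r', hr', hrj'', hrW'⟩ := h'.exists_proj
    have hr'W' : ∀ w' ∈ W', r' w' = r w' := by
      intro w' hw'
      conv_lhs => rw [← hWj w' hw']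
      exact hrj'' _
    have hjr : ∀ v y, F.B (j' y) (v - j' (r' v)) = 0 := by
      intro v y
      rw [F.B_sub_right, hr', h'.jB, sub_self]
    have hjr' : ∀ v y, F.B (v - j' (r' v)) (j' y) = 0 := fun v y => F.B_eq_zero (hjr v y)
    let m : V →ₗ[K] V := (LinearMap.id - j'.comp r') + j'.comp (((b : X ≃ₗ[K] X) : X →ₗ[K] X).comp r')
    have hm : ∀ v, m v = (v - j' (r' v)) + j' ((b : X ≃ₗ[K] X) (r' v)) := fun v => rfl
    obtain ⟨gb, hgb⟩ := F.exists_iso m (fun v u => by
        have e1 : F.B v u = F.B ((v - j' (r' v)) + j' (r' v)) ((u - j' (r' u)) + j' (r' u)) := by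
          rw [sub_add_cancel, sub_add_cancel]
        rw [hm, hm, e1, F.B_add_left, F.B_add_right, F.B_add_right, F.B_add_left, F.B_add_right, F.B_add_right,
          hjr', hjr, hjr', hjr, h'.jB, h'.jB, F'.iso_B])
      (fun v => by
        have e1 : F.Q v = F.Q ((v - j' (r' v)) + j' (r' v)) := by rw [sub_add_cancel]
        rw [hm, e1, F.Q_add, F.Q_add, hjr', hjr', h'.jQ, h'.jQ, F'.iso_Q])
    have hg0 : ∀ w ∈ W₀, (gb : V ≃ₗ[K] V) w = w := by
      intro w hw
      rw [hgb, hm, hrW' w hw, map_zero, map_zero, map_zero, sub_zero, add_zero]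
    have hg2 : gb ∈ F.TT W' := by
      refine F.mem_TT_of hW'.1 fun v hv => ?_
      have h1 : r' v ∈ F'.perp U := by
        rintro _ ⟨w', hw', rfl⟩
        refine F'.B_eq_zero ?_
        rw [← hr', hWj w' hw']
        exact F.B_eq_zero (hv w' hw')
      obtain ⟨w', hw', hw''⟩ := hb.2 _ h1
      have h2 : (gb : V ≃ₗ[K] V) v - v = w' := by
        rw [hgb, hm, ← hWj w' hw', hw'', map_sub]
        change v - j' (r' v) + j' (b.1 (r' v)) - v = j' (b.1 (r' v)) - j' (r' v)
        abel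
      rw [h2]; exact hw'
    refine ⟨⟨gb, hg0, hg2⟩, ?_⟩
    apply Subtype.ext
    change ρ ⟨gb, _⟩ = b
    apply Subtype.ext
    ext x
    have h1 := hrW _ (hρ ⟨gb, fixP_le hg0⟩ x)
    rw [map_sub, hrj, sub_eq_zero] at h1
    rw [← h1]
    change r ((gb : V ≃ₗ[K] V) (j x)) = _
    have h2 : j x = j' x - δ x := by rw [hj'x]; abel
    rw [h2, map_sub, hg0 _ (hδ x), map_sub, hrW _ (hδ x), sub_zero, hgb, hm, hrj'', sub_self, zero_add, hrj']
  have b₀ : Basis (Fin k) K W₀ := finBasisOfFinrankEq K W₀ hW₀.2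
  let e : W' ≃ₗ[K] U := LinearEquiv.ofBijective (r.submoduleMap W') ⟨by
      rw [injective_iff_map_eq_zero]
      intro w hw
      exact Subtype.ext (hrinj w w.2 (congrArg Subtype.val hw)), r.submoduleMap_surjective W'⟩
  have he : ∀ w : W', ((e w : U) : X) = r w := fun w => rfl
  have e1 : ∀ l : L, (flagTerm F.iso.subtype c l W₀ * ψ l W₀) * conj (flagTerm F.iso.subtype c l W' * ψ l W') =
      (fun a : F'.TT U => (ψ₀ a * conj (flagTerm F'.iso.subtype c a U)) * (c 1 * conj (ψ 1 W'))) (f l) := by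
    intro l
    have hl1 : W₀.map (F.iso.subtype (l : F.iso) : V →ₗ[K] V) = W₀ := fixP_le l.2.1
    have hl2 : W'.map (F.iso.subtype (l : F.iso) : V →ₗ[K] V) = W' := l.2.2.1
    have hl3 : U.map (F'.iso.subtype ((f l : F'.TT U) : F'.iso) : X →ₗ[K] X) = U := (f l).2.1
    rw [flagTerm_of F.iso.subtype c hl1, flagTerm_of F.iso.subtype c hl2, hψT _ hW' _ l.2.2]
    have e3 : res (F.iso.subtype (l : F.iso)) W₀ hl1 = 1 := by
      ext w
      exact l.2.1 w w.2
    have e4 : res (F'.iso.subtype ((f l : F'.TT U) : F'.iso)) U hl3 =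
        (e.symm.trans (res (F.iso.subtype (l : F.iso)) W' hl2)).trans e := by
      ext u
      obtain ⟨w, rfl⟩ := e.surjective u
      rw [LinearEquiv.trans_apply, LinearEquiv.trans_apply, LinearEquiv.symm_apply_apply, he]
      exact hρr ⟨l, hL0 l.2⟩ (w : V) (hWp w.2)
    rw [e3, cl_one hcf b₀, hψ ⟨l, hL0 l.2⟩]
    change _ = (ψ₀ (ρ ⟨l, hL0 l.2⟩) * conj (flagTerm F'.iso.subtype c ((f l : F'.TT U) : F'.iso) U)) * _
    rw [flagTerm_of F'.iso.subtype c hl3, e4, cl_conj hcf, map_mul]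
    ring
  rw [Finset.sum_congr rfl fun l _ => e1 l,
    sum_comp_hom f hf (fun a : F'.TT U => (ψ₀ a * conj (flagTerm F'.iso.subtype c a U)) * (c 1 * conj (ψ 1 W'))),
    ← Finset.sum_mul, hψ₀ U hU, zero_mul, mul_zero]

/-- **Harish-Chandra induction from the stabiliser of a singular point, with a general character of the smaller group** -/
theorem exists_one_gen [Finite K] [FiniteDimensional K V] [Finite V] [FiniteDimensional K X] (h : Cmp F F' j W₀)
    (hW₀ : W₀ ∈ F.Om 1) {θ : Kˣ →* ℂˣ} (hθ : ∃ z : Kˣ, θ (z * Units.map (F.σ : K →* K) z) ≠ 1)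
    {ψ₀ : F'.iso → ℂ} (hψ : IsIrrCharacter _ ψ₀)
    (hψ₀ : ∀ U ∈ F'.Om 1, ∀ [Fintype (F'.TT U)],
      ∑ b : F'.TT U, ψ₀ b * conj (flagTerm F'.iso.subtype (linDet θ 1) b U) = 0) :
    ∃ χ : F.iso → ℂ, IsIrrCharacter F.iso χ ∧ χ 1 = Nat.card (F.Om 1) * ψ₀ 1 ∧
      ∀ (z : F.iso) (a : Kˣ), (∀ v, (z : V ≃ₗ[K] V) v = (a : K) • v) →
        (∀ z' : F'.iso, (∀ x, (z' : X ≃ₗ[K] X) x = (a : K) • x) → ((θ a : ℂˣ) : ℂ) * ψ₀ z' = ψ₀ 1) → χ z = χ 1 := by
  classical
  have := finite_iso F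
  have hc := cusOne K F.σ hθ
  obtain ⟨ρ, hρ1, hρ2, hρ3⟩ := h.exists_rho
  obtain ⟨r, hr, hrj, hrW⟩ := h.exists_proj
  have hsurj : Function.Surjective ρ := fun b => by
    obtain ⟨g, hg, -⟩ := hρ3 1 b
    exact ⟨g, hg⟩
  have hirr := Core.isIrr_comp ρ hsurj hψ
  have hcl1 := Core.isIrr_isClassFunction hirr
  have hψT : ∀ W ∈ F.Om 1, ∀ g ∈ F.TT W, psf F W₀ (ψ₀ ∘ ρ) g W = psf F W₀ (ψ₀ ∘ ρ) 1 W := by
    intro W hWk g hg
    obtain ⟨x, hx⟩ := F.trans_Om hW₀ hWk
    have h1 := TT_conj hx hg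
    have h2 : x⁻¹ * 1 * x ∈ stabW F.iso.subtype W₀ := by
      rw [mul_one, inv_mul_cancel]; exact Subgroup.one_mem _
    rw [psf_eq hcl1 hx h1.1, psf_eq hcl1 hx h2, Function.comp_apply, Function.comp_apply, hρ2 _ (by exact h1)]
    congr 1
    rw [show (⟨x⁻¹ * 1 * x, h2⟩ : stabW F.iso.subtype W₀) = 1 from Subtype.ext (by
      change x⁻¹ * 1 * x = 1
      group), map_one]
  obtain ⟨χ, hχ, hχ1, hχz⟩ := exists_hc_van hc hW₀ hirr (fun g hg => by
    rw [Function.comp_apply, Function.comp_apply, hρ2 g hg, map_one])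
    (fun W' hW' h2 h3 => van_inner h (Core.isIrr_isClassFunction hc.irr) hρ1 hψ₀ hψT (fun g => by
      rw [psf_self hcl1]; rfl) hW₀ hW' h2 h3)
  refine ⟨χ, hχ, by rw [hχ1, Function.comp_apply, map_one, dg_one], fun z a hz h1 => hχz z a hz fun hs => ?_⟩
  rw [Function.comp_apply, Function.comp_apply, map_one]
  unfold linDet
  have e1 : Matrix.GeneralLinearGroup.det (Matrix.GeneralLinearGroup.scalar (Fin 1) a) = a := by
    apply Units.ext
    rw [Matrix.GeneralLinearGroup.val_det_apply, Matrix.GeneralLinearGroup.coe_scalar]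
    simp
  rw [e1, map_one, map_one, Units.val_one, one_mul]
  refine h1 _ fun x => ?_
  have h2 := hrW _ (hρ1 ⟨z, hs⟩ x)
  rw [map_sub, hrj, sub_eq_zero] at h2
  rw [← h2]
  change r ((z : V ≃ₗ[K] V) (j x)) = _
  rw [hz, map_smul, hrj]

end Cfsg.Agent.H7.Eight.UnVan
end

-- part: H7/Eight/UnSum
section
/-!
# The vanishing condition for forms of Witt index one (helper7)

`Opp F` : two different singular points are never orthogonal.
`sum_flag` : the sums over `F.TT U`; `inner_hc` : the vanishing condition for the function `F.hc (linDet θ₂ 1) 1`;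
`inner_st` : the same for the permutation character minus one; `irr_st` : its irreducibility.
-/

set_option autoImplicit false
set_option linter.unusedSectionVars false

open scoped ComplexConjugate
open Cfsg

namespace Cfsg.Agent.H7.Eight.UnSum

open Cfsg.Agent.OddOrderCharacters.Clifford Cfsg.Agent.Characters MulAction Module Cfsg.Agent.H53.HC
open Cfsg.Agent.H477.HC Cfsg.Agent.H477.HC.CForm Cfsg.Agent.H749.Two Cfsg.Agent.H113.PSL.Hyper
open Cfsg.Agent.H113.Two.HcOne

universe u v w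

variable {K : Type u} [Field K] {V : Type v} [AddCommGroup V] [Module K V] {F : CForm K V}

/-- two different singular points are never orthogonal -/
def Opp (F : CForm K V) : Prop := ∀ U ∈ F.Om 1, ∀ W ∈ F.Om 1, U ≠ W → ¬ U ≤ F.perp W

/-- multiplicativity of the value on a line -/
theorem flagTerm_mul {θ : Kˣ →* ℂˣ} {W : Submodule K V} (hW : finrank K W = 1) {t : F.iso} {a : Kˣ}
    (h : ∀ w ∈ W, (t : V ≃ₗ[K] V) w = (a : K) • w) (b : F.iso) :
    flagTerm F.iso.subtype (linDet θ 1) (t * b) W =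
      ((θ a : ℂˣ) : ℂ) * flagTerm F.iso.subtype (linDet θ 1) b W := by
  classical
  have hfd : FiniteDimensional K W := .of_finrank_pos (by omega)
  let bs : Basis (Fin 1) K W := finBasisOfFinrankEq K W hW
  have htW : W.map (F.iso.subtype t : V →ₗ[K] V) = W := by
    ext x
    constructor
    · rintro ⟨w, hw, rfl⟩
      change (t : V ≃ₗ[K] V) w ∈ W
      rw [h w hw]
      exact W.smul_mem _ hw
    · intro hx
      refine ⟨((a⁻¹ : Kˣ) : K) • x, W.smul_mem _ hx, ?_⟩
      change (t : V ≃ₗ[K] V) (((a⁻¹ : Kˣ) : K) • x) = x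
      rw [h _ (W.smul_mem _ hx), smul_smul, Units.mul_inv, one_smul]
  by_cases hb : W.map (F.iso.subtype b : V →ₗ[K] V) = W
  · have htb : W.map (F.iso.subtype (t * b) : V →ₗ[K] V) = W := by
      rw [map_mul_apply, hb, htW]
    rw [flagTerm_of F.iso.subtype _ htb, flagTerm_of F.iso.subtype _ hb, cl_linDet bs, cl_linDet bs]
    have e1 : LinearEquiv.det (res (F.iso.subtype (t * b)) W htb) =
        a * LinearEquiv.det (res (F.iso.subtype b) W hb) := by
      apply Units.ext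
      rw [LinearEquiv.coe_det, Units.val_mul, LinearEquiv.coe_det]
      have e2 : ((res (F.iso.subtype (t * b)) W htb : W ≃ₗ[K] W) : W →ₗ[K] W) =
          (a : K) • ((res (F.iso.subtype b) W hb : W ≃ₗ[K] W) : W →ₗ[K] W) := by
        ext w
        change ((t * b : F.iso) : V ≃ₗ[K] V) w = (a : K) • ((b : V ≃ₗ[K] V) w)
        have hbw : (b : V ≃ₗ[K] V) w ∈ W.map (F.iso.subtype b : V →ₗ[K] V) := ⟨w, w.2, rfl⟩
        rw [hb] at hbw
        exact h _ hbw
      rw [e2, LinearMap.det_smul, hW, pow_one]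
    rw [e1, map_mul, Units.val_mul]
  · have htb : ¬ W.map (F.iso.subtype (t * b) : V →ₗ[K] V) = W := by
      intro h1
      apply hb
      rw [map_mul_apply] at h1
      have h3 : ∀ W' : Submodule K V, (W'.map (F.iso.subtype t : V →ₗ[K] V)).map
          (F.iso.subtype t⁻¹ : V →ₗ[K] V) = W' := by
        intro W'
        rw [← map_mul_apply, inv_mul_cancel, map_one]
        exact Submodule.map_id _
      rw [← h3 (W.map (F.iso.subtype b : V →ₗ[K] V)), h1]
      conv_lhs => rw [← htW]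
      exact h3 W
    unfold flagTerm
    rw [dif_neg htb, dif_neg hb, mul_zero]

/-- a sum over a group, multiplied by `μ ≠ 1` under a translation -/
theorem sum_zero {G : Type*} [Group G] {H : Subgroup G} [Fintype H] {f : G → ℂ} {t : G} (ht : t ∈ H) {μ : ℂ}
    (hμ : μ ≠ 1) (h : ∀ b, f (t * b) = μ * f b) : ∑ b : H, f b = 0 := by
  have h1 : ∑ b : H, f b = μ * ∑ b : H, f b := by
    rw [Finset.mul_sum, ← Equiv.sum_comp (Equiv.mulLeft (⟨t, ht⟩ : H))]
    exact Finset.sum_congr rfl fun b _ => h b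
  have h2 : (μ - 1) * ∑ b : H, f b = 0 := by linear_combination -h1
  exact (mul_eq_zero.1 h2).resolve_left (sub_ne_zero.2 hμ)

/-- values of linear characters have absolute value one -/
theorem conj_val [Finite K] (θ : Kˣ →* ℂˣ) (a : Kˣ) : ((θ a : ℂˣ) : ℂ) * conj ((θ a : ℂˣ) : ℂ) = 1 := by
  have h1 : ((θ a : ℂˣ) : ℂ) ^ Nat.card Kˣ = 1 := by
    rw [← Units.val_pow_eq_pow_val, ← map_pow, pow_card_eq_one', map_one, Units.val_one]
  have h2 := Complex.norm_eq_one_of_pow_eq_one h1 Nat.card_pos.ne'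
  rw [Complex.mul_conj, Complex.normSq_eq_norm_sq, h2]
  norm_num

/-- the torus element attached to two points which are not orthogonal -/
theorem exists_tor [FiniteDimensional K V] {U W : Submodule K V} (hU : U ∈ F.Om 1) (hW : W ∈ F.Om 1)
    (h : ¬ U ≤ F.perp W) (a : Kˣ) : ∃ t : F.iso, t ∈ F.TT U ∧ (∀ u ∈ U, (t : V ≃ₗ[K] V) u = (a : K) • u) ∧
      ∀ w ∈ W, (t : V ≃ₗ[K] V) w = (((Units.map (F.σ : K →* K) a)⁻¹ : Kˣ) : K) • w := by
  classical
  obtain ⟨x, hx, hx'⟩ := Set.not_subset.1 h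
  have hx'' : ¬ ∀ w ∈ W, F.B x w = 0 := hx'
  push Not at hx''
  obtain ⟨y, hy, hxy⟩ := hx''
  have hspU : ∀ u ∈ U, ∃ c : K, u = c • x := by
    intro u hu
    have hx0 : (⟨x, hx⟩ : U) ≠ 0 := by
      intro h0
      have : x = 0 := congrArg Subtype.val h0
      rw [this, F.B_zero_left] at hxy
      exact hxy rfl
    obtain ⟨c, hc⟩ := (finrank_eq_one_iff_of_nonzero' (⟨x, hx⟩ : U) hx0).1 hU.2 ⟨u, hu⟩
    exact ⟨c, (congrArg Subtype.val hc).symm⟩
  have hspW : ∀ w ∈ W, ∃ c : K, w = c • y := by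
    intro w hw
    have hy0 : (⟨y, hy⟩ : W) ≠ 0 := by
      intro h0
      have : y = 0 := congrArg Subtype.val h0
      rw [this, F.B_zero_right] at hxy
      exact hxy rfl
    obtain ⟨c, hc⟩ := (finrank_eq_one_iff_of_nonzero' (⟨y, hy⟩ : W) hy0).1 hW.2 ⟨w, hw⟩
    exact ⟨c, (congrArg Subtype.val hc).symm⟩
  obtain ⟨t, h1, h2, -, h4⟩ := F.exists_levi hU.1 hW.1
    (fun w hw hw0 => by
      obtain ⟨c, rfl⟩ := hspU w hw
      have h5 := hw0 y hy
      rw [F.B_smul_left] at h5
      rw [(mul_eq_zero.1 h5).resolve_right hxy, zero_smul])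
    (fun w hw hw0 => by
      obtain ⟨c, rfl⟩ := hspW w hw
      have h5 := hw0 x hx
      rw [F.B_smul_right] at h5
      have h6 : F.σ c = 0 := (mul_eq_zero.1 h5).resolve_right hxy
      rw [map_eq_zero] at h6
      rw [h6, zero_smul])
    (LinearEquiv.smulOfNeZero K U (a : K) a.ne_zero)
  have h1' : ∀ u ∈ U, (t : V ≃ₗ[K] V) u = (a : K) • u := fun u hu => h1 ⟨u, hu⟩
  refine ⟨t, h4.1, h1', fun w hw => ?_⟩
  obtain ⟨c, hc⟩ := hspW _ (h2 y hy)
  have h5 := F.iso_B t x y
  rw [h1' x hx, hc, F.B_smul_left, F.B_smul_right] at h5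
  have h6 : (a : K) * F.σ c = 1 := mul_right_cancel₀ hxy (by rw [one_mul, mul_assoc]; exact h5)
  have h7 : F.σ a * c = 1 := by
    have := congrArg F.σ h6
    rwa [map_mul, F.σσ, map_one] at this
  have h8 : c = (((Units.map (F.σ : K →* K) a)⁻¹ : Kˣ) : K) := by
    rw [Units.val_inv_eq_inv_val, Units.coe_map]
    exact eq_inv_of_mul_eq_one_right h7
  obtain ⟨d, rfl⟩ := hspW w hw
  rw [map_smul, hc, h8, smul_comm]

/-- every point has an opposite one -/
theorem exists_opp_pt [FiniteDimensional K V] {U : Submodule K V} (hU : U ∈ F.Om 1) :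
    ∃ W ∈ F.Om 1, ¬ U ≤ F.perp W := by
  obtain ⟨W, hW, h⟩ := F.exists_opp hU
  refine ⟨W, hW, fun h1 => ?_⟩
  rw [inf_eq_left.2 h1] at h
  have := hU.2
  rw [h, finrank_bot] at this
  omega

/-- **the sums** -/
theorem sum_flag [Finite K] [FiniteDimensional K V] (ho : Opp F) {θ₁ θ₂ : Kˣ →* ℂˣ} (h1 : ∃ a, θ₂ a ≠ θ₁ a)
    (h2 : ∃ a : Kˣ, θ₂ (Units.map (F.σ : K →* K) a)⁻¹ ≠ θ₁ a) {U W : Submodule K V} (hU : U ∈ F.Om 1) (hW : W ∈ F.Om 1)
    [Fintype (F.TT U)] :
    ∑ b : F.TT U, flagTerm F.iso.subtype (linDet θ₂ 1) b W * conj (flagTerm F.iso.subtype (linDet θ₁ 1) b U) = 0 := by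
  classical
  have key : ∀ (c a : Kˣ) (t : F.iso), t ∈ F.TT U → (∀ u ∈ U, (t : V ≃ₗ[K] V) u = (a : K) • u) →
      (∀ w ∈ W, (t : V ≃ₗ[K] V) w = (c : K) • w) → θ₂ c ≠ θ₁ a →
      ∑ b : F.TT U, flagTerm F.iso.subtype (linDet θ₂ 1) b W *
        conj (flagTerm F.iso.subtype (linDet θ₁ 1) b U) = 0 := by
    intro c a t ht ha hc hne
    refine sum_zero (H := F.TT U) (t := t)
      (f := fun b => flagTerm F.iso.subtype (linDet θ₂ 1) b W * conj (flagTerm F.iso.subtype (linDet θ₁ 1) b U))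
      ht (μ := ((θ₂ c : ℂˣ) : ℂ) * conj ((θ₁ a : ℂˣ) : ℂ)) ?_ ?_
    · intro h3
      apply hne
      apply Units.ext
      have h4 := conj_val θ₁ a
      linear_combination ((θ₁ a : ℂˣ) : ℂ) * h3 - ((θ₂ c : ℂˣ) : ℂ) * h4
    · intro b
      change flagTerm F.iso.subtype (linDet θ₂ 1) (t * b) W * conj (flagTerm F.iso.subtype (linDet θ₁ 1) (t * b) U) = _
      rw [flagTerm_mul hW.2 hc, flagTerm_mul hU.2 ha, map_mul]
      ring
  by_cases hUW : U = W
  · subst hUW
    obtain ⟨a, ha⟩ := h1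
    obtain ⟨W', hW', h3⟩ := exists_opp_pt hU
    obtain ⟨t, ht, ht1, -⟩ := exists_tor hU hW' h3 a
    exact key a a t ht ht1 ht1 ha
  · obtain ⟨a, ha⟩ := h2
    obtain ⟨t, ht, ht1, ht2⟩ := exists_tor hU hW (ho U hU W hW hUW) a
    exact key _ a t ht ht1 ht2 ha

/-- **the vanishing condition for `F.hc`** -/
theorem inner_hc [Finite K] [FiniteDimensional K V] (ho : Opp F) [Fintype (F.Om 1)] {θ₁ θ₂ : Kˣ →* ℂˣ}
    (h1 : ∃ a, θ₂ a ≠ θ₁ a)
    (h2 : ∃ a : Kˣ, θ₂ (Units.map (F.σ : K →* K) a)⁻¹ ≠ θ₁ a) {U : Submodule K V} (hU : U ∈ F.Om 1)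
    [Fintype (F.TT U)] :
    ∑ b : F.TT U, F.hc (linDet θ₂ 1) (fun _ _ => 1) b * conj (flagTerm F.iso.subtype (linDet θ₁ 1) b U) = 0 := by
  classical
  have e1 : ∀ b : F.TT U, F.hc (linDet θ₂ 1) (fun _ _ => 1) b * conj (flagTerm F.iso.subtype (linDet θ₁ 1) b U) =
      ∑ W : F.Om 1, flagTerm F.iso.subtype (linDet θ₂ 1) b W.1 *
        conj (flagTerm F.iso.subtype (linDet θ₁ 1) b U) := by
    intro b
    unfold CForm.hc
    rw [Finset.sum_mul]
    exact Finset.sum_congr rfl fun W _ => by rw [mul_one]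
  rw [Finset.sum_congr rfl fun b _ => e1 b, Finset.sum_comm]
  exact Finset.sum_eq_zero fun W _ => sum_flag ho h1 h2 hU W.2

/-- the number of fixed points -/
theorem hc_one_eq [Finite V] [FiniteDimensional K V] [Fintype (F.Om 1)] (g : F.iso) :
    F.hc (linDet (1 : Kˣ →* ℂˣ) 1) (fun _ _ => 1) g = (Nat.card (MulAction.fixedBy F.Pt g) : ℂ) := by
  classical
  unfold CForm.hc
  have e1 : ∀ W : F.Om 1, flagTerm F.iso.subtype (linDet (1 : Kˣ →* ℂˣ) 1) g W.1 * 1 =
      if W.1.map (F.iso.subtype g : V →ₗ[K] V) = W.1 then 1 else 0 := by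
    intro W
    rw [mul_one]
    split_ifs with h
    · rw [flagTerm_of F.iso.subtype _ h, cl_linDet (finBasisOfFinrankEq K W.1 W.2.2)]
      rfl
    · unfold flagTerm
      rw [dif_neg h]
  rw [Finset.sum_congr rfl fun W _ => e1 W, Finset.sum_boole]
  congr 1
  rw [← Fintype.card_subtype, ← Nat.card_eq_fintype_card]
  refine Nat.card_congr
    { toFun := fun W => ⟨⟨W.1.1, W.1.2⟩, Subtype.ext W.2⟩
      invFun := fun x => ⟨⟨x.1.1, x.1.2⟩, congrArg Subtype.val x.2⟩
      left_inv := fun W => rfl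
      right_inv := fun x => rfl }

/-- **the vanishing condition for the permutation character minus one** -/
theorem inner_st [Finite K] [FiniteDimensional K V] [Finite V] (ho : Opp F) {θ₁ : Kˣ →* ℂˣ}
    (h1 : ∃ a, θ₁ a ≠ 1) {U : Submodule K V} (hU : U ∈ F.Om 1) [Fintype (F.TT U)] :
    ∑ b : F.TT U, ((Nat.card (MulAction.fixedBy F.Pt (b : F.iso)) : ℂ) - 1) *
      conj (flagTerm F.iso.subtype (linDet θ₁ 1) b U) = 0 := by
  classical
  have := finite_Om F 1
  let _ := Fintype.ofFinite (F.Om 1)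
  obtain ⟨a, ha⟩ := h1
  have h2 := inner_hc ho (θ₁ := θ₁) (θ₂ := 1) ⟨a, fun h => ha h.symm⟩ ⟨a, fun h => ha h.symm⟩ hU
  have h3 : ∑ b : F.TT U, conj (flagTerm F.iso.subtype (linDet θ₁ 1) b U) = 0 := by
    obtain ⟨W', hW', h3⟩ := exists_opp_pt hU
    obtain ⟨t, ht, ht1, -⟩ := exists_tor hU hW' h3 a
    refine sum_zero (H := F.TT U) (t := t) (f := fun b => conj (flagTerm F.iso.subtype (linDet θ₁ 1) b U))
      ht (μ := conj ((θ₁ a : ℂˣ) : ℂ)) ?_ ?_
    · intro h4
      apply ha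
      apply Units.ext
      have h5 := conj_val θ₁ a
      rw [h4, mul_one] at h5
      rw [h5, Units.val_one]
    · intro b
      change conj (flagTerm F.iso.subtype (linDet θ₁ 1) (t * b) U) = _
      rw [flagTerm_mul hU.2 ht1, map_mul]
  have e1 : ∀ b : F.TT U, ((Nat.card (MulAction.fixedBy F.Pt (b : F.iso)) : ℂ) - 1) *
      conj (flagTerm F.iso.subtype (linDet θ₁ 1) b U) =
      F.hc (linDet (1 : Kˣ →* ℂˣ) 1) (fun _ _ => 1) b * conj (flagTerm F.iso.subtype (linDet θ₁ 1) b U) -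
        conj (flagTerm F.iso.subtype (linDet θ₁ 1) b U) := by
    intro b
    rw [hc_one_eq]
    ring
  rw [Finset.sum_congr rfl fun b _ => e1 b, Finset.sum_sub_distrib, h2, h3, sub_zero]

/-- **the Steinberg character** -/
theorem irr_st [Finite K] [FiniteDimensional K V] [Finite V] (ho : Opp F) (h2 : 2 ≤ Nat.card F.Pt) :
    IsIrrCharacter F.iso (fun g => (Nat.card (MulAction.fixedBy F.Pt g) : ℂ) - 1) := by
  classical
  have := finite_iso F
  have : Finite F.Pt := finite_Om F 1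
  have hpp : ∀ x y : F.Pt, x ≠ y → ¬ F.Perp x y := by
    intro x y hxy h
    exact ho x.1 x.2 y.1 y.2 (fun h1 => hxy (Subtype.ext h1)) fun u hu v hv => h u hu v hv
  have hmp : MulAction.IsMultiplyPretransitive F.iso F.Pt 2 := by
    rw [MulAction.is_two_pretransitive_iff]
    intro a b c d hab hcd
    exact F.trans_opp (hpp a b hab) (hpp c d hcd)
  have hpt : MulAction.IsPretransitive F.iso F.Pt := by
    rw [← MulAction.is_one_pretransitive_iff]
    exact MulAction.isMultiplyPretransitive_of_le (n := 2) (by norm_num) h2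
  exact (Cfsg.Agent.S0157.result F.Pt h2).2 hmp

end Cfsg.Agent.H7.Eight.UnSum
end

-- part: H7/Eight/UnSt
section
/-!
# `GU_2(q)` and `GU_3(q)`: the number of points and the Steinberg character (helper7)

`opp_herm`, `card_pt` : `|Om 1| = p^m + 1`, `m > 0`; `st_herm` : the Steinberg character.
-/

set_option autoImplicit false
set_option linter.unusedSectionVars false

open scoped ComplexConjugate
open Cfsg

namespace Cfsg.Agent.H7.Eight.UnSt

open Cfsg.Agent.Characters Module Cfsg.Agent.H53.HC Cfsg.Agent.H477.HC Cfsg.Agent.H477.HC.CForm Cfsg.Agent.H749.Two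
open Cfsg.Agent.H7.Eight.UnFrame Cfsg.Agent.H7.Eight.UnSum
open Cfsg.Agent.H113.Two.HcOne (rad)

universe u

variable {K : Type u} [Field K] [Fintype K] {q : ℕ}

theorem opp_herm (hq : Nat.card K = q ^ 2) {n : ℕ} (hn : n ≤ 3) : Opp (hermF K hq n) := by
  intro U hU W hW hUW hle
  have hts := (hermF K hq n).TS_sup hU.1 hW.1 hle
  have h1 := ts_le hq n hts
  have h2 := Submodule.finrank_sup_add_finrank_inf_eq U W
  have hU2 := hU.2
  have hW2 := hW.2
  rw [hU2, hW2] at h2
  have h3 : finrank K (U ⊓ W : Submodule K (Fin n → K)) < 1 := by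
    by_contra h
    have e1 : U ⊓ W = U := Submodule.eq_of_le_of_finrank_le inf_le_left (by omega)
    have e2 : U ⊓ W = W := Submodule.eq_of_le_of_finrank_le inf_le_right (by omega)
    exact hUW (e1.symm.trans e2)
  omega

/-- the hyperbolic plane -/
theorem hermF_hyp (hq : Nat.card K = q ^ 2) (n : ℕ) : ∃ e f : Fin (1 + (1 + n)) → K,
    Hyp (hermF K hq (1 + (1 + n))) (hermF K hq n) e f (jherm K 1 n) := by
  obtain ⟨e, f, hee, hff, hef, hje, hjf⟩ := hermF_fr hq 1 n
  have hjB : ∀ x y, (hermF K hq (1 + (1 + n))).B (jherm K 1 n x) (jherm K 1 n y) = (hermF K hq n).B x y := by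
    intro x y
    simp only [hermForm, Fin.sum_univ_add, _root_.Cfsg.Agent.H477.HC.CForm.hermF_B, _root_.Finset.univ_unique, _root_.Fin.default_eq_zero, _root_.Fin.isValue, _root_.Cfsg.Agent.H477.HC.CForm.jherm_1, _root_.MulZeroClass.zero_mul, _root_.Finset.sum_const_zero, _root_.Cfsg.Agent.H477.HC.CForm.jherm_2, _root_.Cfsg.Agent.H477.HC.CForm.jherm_3, _root_.zero_add]
  have hjQ : ∀ x, (hermF K hq (1 + (1 + n))).Q (jherm K 1 n x) = (hermF K hq n).Q x := by
    intro x
    simp only [hermForm, Fin.sum_univ_add, _root_.Cfsg.Agent.H477.HC.CForm.hermF_Q, _root_.Finset.univ_unique, _root_.Fin.default_eq_zero, _root_.Fin.isValue, _root_.Cfsg.Agent.H477.HC.CForm.jherm_1, _root_.MulZeroClass.zero_mul, _root_.Finset.sum_const_zero, _root_.Cfsg.Agent.H477.HC.CForm.jherm_2, _root_.Cfsg.Agent.H477.HC.CForm.jherm_3, _root_.zero_add]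
  obtain ⟨-, hc⟩ := cmp_of_frame (F := hermF K hq (1 + (1 + n))) (F' := hermF K hq n) (j := jherm K 1 n) rfl hee hff
    hef (fun i => hee i i) hjB hjQ hje hjf (by simp only [_root_.Module.finrank_fintype_fun_eq_card, _root_.Fintype.card_fin, _root_.mul_one]; ring)
  refine ⟨e 0, f 0, ⟨hee 0 0, hee 0 0⟩, ⟨hff 0 0, hff 0 0⟩, by rw [hef, if_pos rfl], hjB, hjQ, fun x => hje x 0,
    fun x => hjf x 0, fun v h1 h2 => ?_⟩
  have hsp : Submodule.span K (Set.range e) = Submodule.span K {e 0} := by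
    congr 1
    ext x
    constructor
    · rintro ⟨i, rfl⟩
      rw [Subsingleton.elim i 0]
      exact rfl
    · intro hx
      exact ⟨0, (Set.mem_singleton_iff.1 hx).symm⟩
  obtain ⟨w, hw, x, hx⟩ := hc.j2 v (by
    rw [hsp]
    intro w hw
    obtain ⟨c, rfl⟩ := Submodule.mem_span_singleton.1 hw
    rw [CForm.B_smul_right, h1, mul_zero])
  rw [hsp] at hw
  obtain ⟨c, rfl⟩ := Submodule.mem_span_singleton.1 hw
  rw [hx, CForm.B_add_left, CForm.B_smul_left, hef, if_pos rfl, hjf, mul_one, add_zero] at h2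
  exact ⟨x, by rw [hx, h2, zero_smul, zero_add]⟩

theorem ani (hq : Nat.card K = q ^ 2) {n : ℕ} (hn : n ≤ 1) : ∀ x, (hermF K hq n).Sing x → x = 0 := by
  intro x hx
  have h1 : hermForm n K q x x = 0 := hx.1
  have hn' : n = 0 ∨ n = 1 := by omega
  rcases hn' with rfl | rfl
  · exact Subsingleton.elim _ _
  · unfold hermForm at h1
    rw [Fin.sum_univ_one, ← pow_succ'] at h1
    have h2 := eq_zero_of_pow_eq_zero h1
    ext i
    rw [Subsingleton.elim i 0, h2]
    rfl

theorem comm (hq : Nat.card K = q ^ 2) {n : ℕ} (hn : n ≤ 1) : ∀ a b : (hermF K hq n).iso, a * b = b * a := by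
  intro a b
  have hn' : n = 0 ∨ n = 1 := by omega
  apply Subtype.ext
  apply LinearEquiv.ext
  intro x
  rcases hn' with rfl | rfl
  · exact Subsingleton.elim _ _
  · have hsm : ∀ y : Fin 1 → K, y = y 0 • (fun _ => (1 : K)) := by
      intro y
      ext i
      rw [Subsingleton.elim i 0]
      simp
    have key : ∀ (g : (Fin 1 → K) ≃ₗ[K] (Fin 1 → K)) (y : Fin 1 → K), g y = (g (fun _ => (1 : K)) 0) • y := by
      intro g y
      conv_lhs => rw [hsm y, map_smul, hsm (g (fun _ => (1 : K)))]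
      conv_rhs => rw [hsm y]
      rw [smul_smul, smul_smul, mul_comm]
    change (a : (Fin 1 → K) ≃ₗ[K] (Fin 1 → K)) ((b : (Fin 1 → K) ≃ₗ[K] (Fin 1 → K)) x) =
      (b : (Fin 1 → K) ≃ₗ[K] (Fin 1 → K)) ((a : (Fin 1 → K) ≃ₗ[K] (Fin 1 → K)) x)
    rw [key a ((b : (Fin 1 → K) ≃ₗ[K] (Fin 1 → K)) x), key b x, key b ((a : (Fin 1 → K) ≃ₗ[K] (Fin 1 → K)) x), key a x,
      smul_smul, smul_smul, mul_comm]

/-- **the number of points** -/
theorem card_pt (hq : Nat.card K = q ^ 2) {p : ℕ} [Fact p.Prime] [CharP K p] {n : ℕ} (hn : n ≤ 1) :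
    ∃ m, 0 < m ∧ Nat.card (hermF K hq (1 + (1 + n))).Pt = p ^ m + 1 := by
  classical
  have := finite_iso (hermF K hq (1 + (1 + n)))
  have : Finite (hermF K hq (1 + (1 + n))).Pt := finite_Om _ 1
  obtain ⟨e, f, h⟩ := hermF_hyp hq n
  have hF : Fintype.card K = q ^ 2 := by rw [← Nat.card_eq_fintype_card, hq]
  obtain ⟨a, ha0, ha⟩ := LieClassical.HermBasic.exists_trace_zero_ne hF
  have hq0 : q ≠ 0 := by have := two_le_of_card hq; omega
  obtain ⟨m, hm⟩ := (IsPGroup.iff_card (p := p)).1 (Cfsg.Agent.H113.Two.SplitForm.rad_isPGroup h (p := p))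
  have hfe : (hermF K hq (1 + (1 + n))).B f e = 1 := by rw [h.hfe]; rfl
  have hf' : (hermF K hq (1 + (1 + n))).Sing (f + a • e) := by
    have h1 : (hermF K hq (1 + (1 + n))).B (f + a • e) (f + a • e) = 0 := by
      rw [CForm.B_add_left, CForm.B_add_right, CForm.B_add_right, CForm.B_smul_left, CForm.B_smul_left,
        CForm.B_smul_right, CForm.B_smul_right, h.hf.2, h.he.2, h.hef, hfe]
      have h2 : (hermF K hq (1 + (1 + n))).σ a = a ^ q := powHom_apply hq a
      rw [h2]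
      linear_combination ha
    exact ⟨h1, h1⟩
  have hlt := Cfsg.Agent.H113.Two.SplitForm.one_lt_rad h (f' := f + a • e) hf' (by
      rw [CForm.B_add_right, CForm.B_smul_right, h.he.2, mul_zero, add_zero, h.hef]) (by
      intro h1
      have h2 : a • e = 0 := by
        have := congrArg (fun v => v - f) h1
        simpa only [_root_.smul_eq_zero, _root_.add_sub_cancel_left, _root_.sub_self] using this
      exact (smul_ne_zero ha0 h.e0) h2)
  refine ⟨m, ?_, ?_⟩
  · rw [Nat.pos_iff_ne_zero]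
    rintro rfl
    rw [hm, pow_zero] at hlt
    exact lt_irrefl _ hlt
  · have h1 := (Cfsg.Agent.H113.Two.SplitForm.split h (ani hq hn) (comm hq hn)).card_G
    have hpt : MulAction.IsPretransitive (hermF K hq (1 + (1 + n))).iso (hermF K hq (1 + (1 + n))).Pt := by
      refine ⟨fun x y => ?_⟩
      obtain ⟨g, hg⟩ := (hermF K hq (1 + (1 + n))).trans_Om x.2 y.2
      exact ⟨g, Subtype.ext hg⟩
    have h2 := MulAction.index_stabilizer_of_transitive (hermF K hq (1 + (1 + n))).iso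
      ((hermF K hq (1 + (1 + n))).pt e h.e0 h.he)
    have h3 := (MulAction.stabilizer (hermF K hq (1 + (1 + n))).iso
      ((hermF K hq (1 + (1 + n))).pt e h.e0 h.he)).index_mul_card
    rw [h2, h1] at h3
    have h4 := Nat.eq_of_mul_eq_mul_right Nat.card_pos h3
    rw [h4, ← hm]
    rfl

/-- **the Steinberg character** -/
theorem st_herm (hq : Nat.card K = q ^ 2) {p : ℕ} [Fact p.Prime] [CharP K p] {n : ℕ} (hn : n ≤ 1) :
    ∃ m, 0 < m ∧ IsIrrCharacter (hermF K hq (1 + (1 + n))).iso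
        (fun g => (Nat.card (MulAction.fixedBy (hermF K hq (1 + (1 + n))).Pt g) : ℂ) - 1) ∧
      (Nat.card (MulAction.fixedBy (hermF K hq (1 + (1 + n))).Pt (1 : (hermF K hq (1 + (1 + n))).iso)) : ℂ) - 1 =
        ((p ^ m : ℕ) : ℂ) ∧
      ∀ (z : (hermF K hq (1 + (1 + n))).iso) (a : K), (∀ v, (z : (Fin (1 + (1 + n)) → K) ≃ₗ[K] _) v = a • v) →
        Nat.card (MulAction.fixedBy (hermF K hq (1 + (1 + n))).Pt z) =
          Nat.card (MulAction.fixedBy (hermF K hq (1 + (1 + n))).Pt (1 : (hermF K hq (1 + (1 + n))).iso)) := by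
  classical
  have hfP : Finite (hermF K hq (1 + (1 + n))).Pt := finite_Om _ 1
  obtain ⟨m, hm0, hm⟩ := card_pt (p := p) hq hn
  have hfix : ∀ (z : (hermF K hq (1 + (1 + n))).iso) (a : K),
      (∀ v, (z : (Fin (1 + (1 + n)) → K) ≃ₗ[K] _) v = a • v) →
        Nat.card (MulAction.fixedBy (hermF K hq (1 + (1 + n))).Pt z) = Nat.card (hermF K hq (1 + (1 + n))).Pt := by
    intro z a hz
    have h1 : MulAction.fixedBy (hermF K hq (1 + (1 + n))).Pt z = Set.univ := by
      refine Set.eq_univ_of_forall fun x => Subtype.ext ?_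
      refine map_eq_of_le (hermF K hq (1 + (1 + n))).iso.subtype fun w hw => ?_
      change (z : (Fin (1 + (1 + n)) → K) ≃ₗ[K] _) w ∈ x.1
      rw [hz]
      exact x.1.smul_mem _ hw
    rw [h1]
    exact Nat.card_congr (Equiv.Set.univ _)
  have hfix1 := hfix 1 1 (fun v => (one_smul K v).symm)
  refine ⟨m, hm0, irr_st (opp_herm hq (by omega)) ?_, ?_, fun z a hz => ?_⟩
  · rw [hm]
    have : 0 < p ^ m := pow_pos (Fact.out : p.Prime).pos m
    omega
  · rw [hfix1, hm]
    push_cast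
    ring
  · rw [hfix1, hfix z a hz]

end Cfsg.Agent.H7.Eight.UnSt
end

-- part: H7/Eight/UnDown
section
/-!
# From `GU_n(q)` to `PSU_n(q)`, with a sharper bound for the index (helper7)

`exists_psu'` : an irreducible character of `GU_n(q)` of degree `d`, trivial on the centre of `SU_n(q)`, gives a degree
`e` of `PSU_n(q)` with `e t = d`, `t` dividing the index of `SU_n(q) Z(GU_n(q))`.
-/

set_option autoImplicit false
set_option linter.unusedSectionVars false

open scoped ComplexConjugate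

namespace Cfsg.Agent.H7.Eight.UnDown

open Cfsg Cfsg.Agent.LieClassical.HermBasic Cfsg.Agent.LieClassical.HermSiegel Cfsg.Agent.Characters
open Cfsg.Agent.H477.HC Cfsg.Agent.H113.PSU.Descent Cfsg.Agent.H53.HC

universe u

/-- restriction to a subgroup which, together with the centre, is the whole group -/
theorem restrict_irr {M : Type*} [Group M] [Finite M] (N : Subgroup M)
    (hM : ∀ m : M, ∃ n ∈ N, ∃ z ∈ Subgroup.center M, m = n * z) {θ : M → ℂ} (hθ : IsIrrCharacter M θ) :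
    IsIrrCharacter N (θ ∘ N.subtype) := by
  classical
  let _ : Fintype M := Fintype.ofFinite M
  let _ : Fintype N := Fintype.ofFinite N
  let _ : Fintype (Subgroup.center M) := Fintype.ofFinite _
  have hsc : ∀ z ∈ Subgroup.center M, ∃ l : ℂ, ‖l‖ = 1 ∧ ∀ n, θ (n * z) = l * θ n := by
    intro z hz
    obtain ⟨l, hl⟩ := central_mul hθ hz
    refine ⟨l, ?_, hl⟩
    have h1 : ∀ k : ℕ, θ (z ^ k) = l ^ k * θ 1 := by
      intro k
      induction k with
      | zero => rw [pow_zero, pow_zero, one_mul]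
      | succ k ih => rw [pow_succ, hl, ih, pow_succ]; ring
    have h2 := h1 (Nat.card M)
    rw [pow_card_eq_one'] at h2
    have h3 : l ^ Nat.card M = 1 := by
      have h4 : (l ^ Nat.card M - 1) * θ 1 = 0 := by rw [sub_mul, one_mul, ← h2, sub_self]
      exact sub_eq_zero.1 ((mul_eq_zero.1 h4).resolve_right (Core.isIrr_apply_one_ne_zero hθ))
    exact Complex.norm_eq_one_of_pow_eq_one h3 Nat.card_pos.ne'
  let π : N × Subgroup.center M →* M :=
    { toFun := fun x => (x.1 : M) * (x.2 : M)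
      map_one' := by simp only [_root_.Prod.fst_one, _root_.OneMemClass.coe_one, _root_.Prod.snd_one, _root_.mul_one]
      map_mul' := fun x y => by
        have h := Subgroup.mem_center_iff.1 x.2.2 y.1
        change ((x.1 : M) * (y.1 : M)) * ((x.2 : M) * (y.2 : M)) = (x.1 : M) * (x.2 : M) * ((y.1 : M) * (y.2 : M))
        calc ((x.1 : M) * (y.1 : M)) * ((x.2 : M) * (y.2 : M)) = (x.1 : M) * ((y.1 : M) * (x.2 : M)) * (y.2 : M) := by group
          _ = (x.1 : M) * ((x.2 : M) * (y.1 : M)) * (y.2 : M) := by rw [h]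
          _ = _ := by group }
  have hπ : Function.Surjective π := by
    intro m
    obtain ⟨n, hn, z, hz, rfl⟩ := hM m
    exact ⟨(⟨n, hn⟩, ⟨z, hz⟩), rfl⟩
  apply Core.isIrr_of_classInner_self (Core.isCharacter_comp N.subtype (Core.isIrr_isCharacter hθ))
  have h1 := Core.classInner_irr_self hθ
  rw [Core.classInner_def] at h1 ⊢
  have h2 := sum_comp_hom π hπ (fun m => θ m * conj (θ m))
  have h3 : ∑ x : N × Subgroup.center M, (fun m => θ m * conj (θ m)) (π x) =
      (Nat.card (Subgroup.center M) : ℂ) * ∑ n : N, θ n * conj (θ n) := by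
    rw [Fintype.sum_prod_type_right]
    have e1 : ∀ z : Subgroup.center M, ∑ n : N, (fun m => θ m * conj (θ m)) (π (n, z)) =
        ∑ n : N, θ n * conj (θ n) := by
      intro z
      obtain ⟨l, hl1, hl⟩ := hsc z z.2
      refine Finset.sum_congr rfl fun n _ => ?_
      change θ ((n : M) * (z : M)) * conj (θ ((n : M) * (z : M))) = _
      rw [hl, map_mul]
      have h4 : l * conj l = 1 := by
        rw [Complex.mul_conj, Complex.normSq_eq_norm_sq, hl1]
        norm_num
      linear_combination (θ n * conj (θ n)) * h4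
    rw [Finset.sum_congr rfl fun z _ => e1 z, Finset.sum_const, Finset.card_univ, ← Nat.card_eq_fintype_card,
      nsmul_eq_mul]
  rw [h3] at h2
  have hcM : (Nat.card M : ℂ) ≠ 0 := Core.card_ne_zero_complex
  have hcN : (Nat.card N : ℂ) ≠ 0 := Core.card_ne_zero_complex
  have hcZ : (Nat.card (Subgroup.center M) : ℂ) ≠ 0 := Core.card_ne_zero_complex
  have h5 : ∑ m : M, θ m * conj (θ m) = Nat.card M := by
    field_simp at h1
    exact h1
  rw [h5] at h2
  have h6 : (Nat.card π.ker : ℂ) * Nat.card M = Nat.card N * Nat.card (Subgroup.center M) := by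
    have h7 := Subgroup.card_eq_card_quotient_mul_card_subgroup π.ker
    rw [Nat.card_congr (QuotientGroup.quotientKerEquivOfSurjective π hπ).toEquiv, Nat.card_prod] at h7
    rw [← Nat.cast_mul, ← Nat.cast_mul, h7, mul_comm]
  rw [h6] at h2
  have h8 : ∑ n : N, θ n * conj (θ n) = Nat.card N := by
    apply mul_left_cancel₀ hcZ
    rw [h2]
    ring
  change (Nat.card N : ℂ)⁻¹ * ∑ n : N, θ n * conj (θ n) = 1
  rw [h8, inv_mul_cancel₀ hcN]

/-- descent through a normal subgroup `M = N Z`, `Z` central -/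
theorem down_abs {I : Type u} [Group I] [Finite I] (N M : Subgroup I) [M.Normal] (hNM : N ≤ M)
    (hM : ∀ m ∈ M, ∃ n ∈ N, ∃ z ∈ Subgroup.center I, m = n * z) {χ : I → ℂ} (hχ : IsIrrCharacter I χ) {d : ℕ}
    (hd : χ 1 = d) :
    ∃ (θ : N → ℂ) (e t : ℕ), IsIrrCharacter N θ ∧ θ 1 = e ∧ e * t = d ∧ t ∣ M.index ∧
      ∀ z : N, (z : I) ∈ Subgroup.center I → χ z = χ 1 → θ z = θ 1 := by
  classical
  obtain ⟨θ, e, hθ, he, h3, h4, h5, h6⟩ := down_constituent M hχ hd
  have hθN : IsIrrCharacter (N.subgroupOf M) (θ ∘ (N.subgroupOf M).subtype) := by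
    refine restrict_irr (N.subgroupOf M) (fun m => ?_) hθ
    obtain ⟨x, hx, z, hz, h⟩ := hM m m.2
    have hz' : z ∈ M := by
      have : z = x⁻¹ * m := by rw [h]; group
      rw [this]
      exact M.mul_mem (M.inv_mem (hNM hx)) m.2
    refine ⟨⟨x, hNM hx⟩, hx, ⟨z, hz'⟩, ?_, Subtype.ext h⟩
    rw [Subgroup.mem_center_iff]
    intro g
    exact Subtype.ext (Subgroup.mem_center_iff.1 hz g)
  have hθ' := Core.isIrr_comp (Subgroup.subgroupOfEquivOfLe hNM).symm.toMonoidHom
    (Subgroup.subgroupOfEquivOfLe hNM).symm.surjective hθN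
  have hval : ∀ g : N, ((θ ∘ (N.subgroupOf M).subtype) ∘ (Subgroup.subgroupOfEquivOfLe hNM).symm.toMonoidHom) g =
      θ ⟨g, hNM g.2⟩ := fun g => rfl
  refine ⟨_, e, d / e, hθ', ?_, Nat.mul_div_cancel' h3, h4, fun z hz hz' => ?_⟩
  · rw [hval]
    exact he
  · rw [hval, hval]
    refine h6 ⟨z, hNM z.2⟩ ?_ hz'
    rw [Subgroup.mem_center_iff]
    intro g
    exact Subtype.ext (Subgroup.mem_center_iff.1 hz g)

variable {F : Type u} [Field F] [Fintype F] {q n : ℕ}

/-- `SU_n(q) Z(GU_n(q))` -/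
def MM (n : ℕ) (F : Type u) [Field F] (q : ℕ) : Subgroup (GU n F q) := NN n F q ⊔ Subgroup.center (GU n F q)

instance MM_normal : (MM n F q).Normal := by
  unfold MM
  infer_instance

theorem index_MM (hF : Fintype.card F = q ^ 2) (hn : 1 ≤ n) : (MM n F q).index ∣ q + 1 := by
  rw [← index_NN hF hn]
  exact Subgroup.index_dvd_of_le le_sup_left

theorem scalar_center {z : GU n F q} {c : F}
    (h : ∀ v, ((z : GL (Fin n) F) : Matrix (Fin n) (Fin n) F).mulVec v = c • v) : z ∈ Subgroup.center (GU n F q) := by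
  have h7 : ((z : GL (Fin n) F) : Matrix (Fin n) (Fin n) F) = c • (1 : Matrix (Fin n) (Fin n) F) := by
    apply Matrix.ext_iff_mulVec.2
    intro v
    rw [Matrix.smul_mulVec, Matrix.one_mulVec]
    exact h v
  rw [Subgroup.mem_center_iff]
  intro g
  apply Subtype.ext
  apply Units.ext
  change ((g : GL (Fin n) F) : Matrix (Fin n) (Fin n) F) * ((z : GL (Fin n) F) : Matrix (Fin n) (Fin n) F) =
    ((z : GL (Fin n) F) : Matrix (Fin n) (Fin n) F) * ((g : GL (Fin n) F) : Matrix (Fin n) (Fin n) F)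
  rw [h7, Matrix.mul_smul, Matrix.smul_mul, mul_one, one_mul]

/-- **descent to `PSU`** -/
theorem exists_psu' (hF : Fintype.card F = q ^ 2) (hn : 3 ≤ n) {χ : GU n F q → ℂ} (hχ : IsIrrCharacter _ χ) {d : ℕ}
    (hd : χ 1 = d) (hz : ∀ (z : GU n F q) (c : F), c ^ (q + 1) = 1 → c ^ n = 1 →
      (∀ v, ((z : GL (Fin n) F) : Matrix (Fin n) (Fin n) F).mulVec v = c • v) → χ z = χ 1) :
    ∃ e t : ℕ, e ∈ charDegrees (PSU n F q) ∧ e * t = d ∧ t ∣ (MM n F q).index := by
  classical
  obtain ⟨θ, e, t, hθ, he, h3, h4, h6⟩ := down_abs (NN n F q) (MM n F q) le_sup_left (fun m hm => by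
    obtain ⟨x, hx, z, hz, h⟩ := Subgroup.mem_sup_of_normal_right.1 hm
    exact ⟨x, hx, z, hz, h.symm⟩) hχ hd
  have hθ' : IsIrrCharacter (SU n F q) (θ ∘ (eSU n F q).toMonoidHom) :=
    Core.isIrr_comp (eSU n F q).toMonoidHom (eSU n F q).surjective hθ
  obtain ⟨η, hη, hη'⟩ := exists_quot (Subgroup.center (SU n F q)) hθ' (fun z hzc => by
    obtain ⟨c, hcn, hcq, rfl⟩ := (Cfsg.Agent.LieClassical.SUBasic.mem_center_SU_iff hF hn z).1 hzc
    have hact : ∀ v, act (Cfsg.Agent.LieClassical.SUBasic.suScalar q c hcn hcq) v = c • v := fun v =>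
      Cfsg.Agent.ClassicalGeometry.PSUAutBasic.act_suScalar hcn hcq v
    change θ (eSU n F q _) = θ (eSU n F q 1)
    rw [map_one]
    refine h6 _ (scalar_center (c := c) fun v => ?_) (hz _ c hcq hcn fun v => ?_)
    · rw [eSU_val, hact]
    · rw [eSU_val, hact])
  refine ⟨e, t, ⟨⟨η, hη⟩, ?_⟩, h3, h4⟩
  apply H670.PSing.charDegree_eq_of
  change η 1 = e
  rw [← he]
  have h8 := hη' 1
  rw [QuotientGroup.mk_one] at h8
  rw [h8]
  change θ (eSU n F q 1) = θ 1
  rw [map_one]

end Cfsg.Agent.H7.Eight.UnDown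
end

-- part: H7/Eight/UnDegs
section
/-!
# Degrees of `PSU_n(q)` from Harish-Chandra induction (helper7)

`DG F q n d` : there is a degree `e` of `PSU n F q` with `e t = d`, `t` dividing the index of `SU Z(GU)` in `GU`.
`dg_one` : `k ≥ 2`, trivial character; `dg_st` : `k ≥ 2`, Steinberg character of `GU_2`, `GU_3`;
`dg_pt` : `k = 1`; `dg_pt_st`, `dg_pt_hc` : `k = 1`, `n = 5`.
-/

set_option autoImplicit false
set_option linter.unusedSectionVars false

open scoped ComplexConjugate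
open Cfsg

namespace Cfsg.Agent.H7.Eight.UnDegs

open Cfsg.Agent.Characters Module Cfsg.Agent.H53.HC Cfsg.Agent.H477.HC Cfsg.Agent.H477.HC.CForm Cfsg.Agent.H749.Two
open Cfsg.Agent.H7.Eight.UnFrame Cfsg.Agent.H7.Eight.UnSum Cfsg.Agent.H7.Eight.UnSt Cfsg.Agent.H7.Eight.UnDown
open Cfsg.Agent.H7.Eight.UnVan
open Cfsg.Agent.H113.PSL.Hyper Cfsg.Agent.H113.Two.HcOne

universe u

/-- the degrees obtained from characters of `GU` -/
def DG (F : Type u) [Field F] [Fintype F] (q n d : ℕ) : Prop :=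
  ∃ e t : ℕ, e ∈ charDegrees (PSU n F q) ∧ e * t = d ∧ t ∣ (MM n F q).index

variable {F : Type u} [Field F] [Fintype F] {q : ℕ}

/-- from the isometry group -/
theorem to_psu (hF : Fintype.card F = q ^ 2) (hq : Nat.card F = q ^ 2) {n : ℕ} (hn : 3 ≤ n)
    {χ : (hermF F hq n).iso → ℂ} (hχ : IsIrrCharacter _ χ) {d : ℕ} (hd : χ 1 = d)
    (hz : ∀ (z : (hermF F hq n).iso) (a : Fˣ), a ^ (q + 1) = 1 → a ^ n = 1 →
      (∀ v, (z : (Fin n → F) ≃ₗ[F] (Fin n → F)) v = (a : F) • v) → χ z = χ 1) : DG F q n d := by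
  refine exists_psu' hF hn (χ := χ ∘ (isoGU hq n).toMonoidHom)
    (Core.isIrr_comp (isoGU hq n).toMonoidHom (isoGU hq n).surjective hχ) ?_ ?_
  · change χ (isoGU hq n 1) = _
    rw [map_one, hd]
  · intro z c hcq hcn hz'
    change χ (isoGU hq n z) = χ (isoGU hq n 1)
    rw [map_one]
    have hc0 : c ≠ 0 := by
      rintro rfl
      rw [zero_pow (Nat.succ_ne_zero q)] at hcq
      exact zero_ne_one hcq
    refine hz _ (Units.mk0 c hc0) ?_ ?_ fun v => ?_
    · apply Units.ext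
      rw [Units.val_pow_eq_pow_val, Units.val_mk0, Units.val_one, hcq]
    · apply Units.ext
      rw [Units.val_pow_eq_pow_val, Units.val_mk0, Units.val_one, hcn]
    · rw [isoGU_apply, hz' v, Units.val_mk0]

/-- **`k ≥ 2`, the trivial character** -/
theorem dg_one (hF : Fintype.card F = q ^ 2) (hq : Nat.card F = q ^ 2) {k : ℕ} (hk : 2 ≤ k) (n : ℕ) :
    DG F q (k + (k + n)) (dg (hermF F hq (k + (k + n))) k) := by
  obtain ⟨c, hc⟩ := Cfsg.Agent.H345.CusU.exists_cusU hq k hk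
  obtain ⟨W₀, hW₀, -⟩ := hermF_cmp hq k n
  obtain ⟨χ, hχ, hχ1, hχz⟩ := exists_char (hermF F hq (k + (k + n))) hW₀ hc
  exact to_psu hF hq (by omega) hχ hχ1 fun z a ha _ hz => hχz z a ha hz

/-- **`k ≥ 2`, the Steinberg character of `GU_2` and `GU_3`** -/
theorem dg_st (hF : Fintype.card F = q ^ 2) (hq : Nat.card F = q ^ 2) {p : ℕ} [Fact p.Prime] [CharP F p] {k : ℕ}
    (hk : 2 ≤ k) {n : ℕ} (hn : n ≤ 1) :
    ∃ m, 0 < m ∧ DG F q (k + (k + (1 + (1 + n)))) (dg (hermF F hq (k + (k + (1 + (1 + n))))) k * p ^ m) := by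
  classical
  obtain ⟨c, hc⟩ := Cfsg.Agent.H345.CusU.exists_cusU hq k hk
  obtain ⟨W₀, hW₀, h⟩ := hermF_cmp hq k (1 + (1 + n))
  obtain ⟨m, hm0, hirr, hdeg, hsc⟩ := st_herm (p := p) hq hn
  obtain ⟨χ, hχ, hχ1, hχz⟩ := exists_hc h hc hW₀ hirr (no_disj' hq (by omega) hW₀)
  refine ⟨m, hm0, to_psu hF hq (by omega) hχ ?_ fun z a ha _ hz => hχz z a hz fun z' hz' => ?_⟩
  · rw [hχ1, hdeg, Nat.cast_mul]
  · rw [hc.scal a ha, hsc z' a hz']

/-- a faithful linear character of the multiplicative group -/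
theorem exists_faithful (F : Type u) [Field F] [Fintype F] : ∃ φ : Fˣ →* ℂˣ, Function.Injective φ := by
  classical
  have h0 : NeZero (Nat.card Fˣ) := ⟨Nat.card_pos.ne'⟩
  let e : Fˣ ≃* rootsOfUnity (Nat.card Fˣ) ℂ :=
    mulEquivOfCyclicCardEq (Complex.card_rootsOfUnity _).symm
  exact ⟨(rootsOfUnity (Nat.card Fˣ) ℂ).subtype.comp e.toMonoidHom, Subtype.val_injective.comp e.injective⟩

/-- a generator -/
theorem exists_gen (hq : Nat.card F = q ^ 2) : ∃ g : Fˣ, ∀ j, g ^ j = 1 ↔ (q - 1) * (q + 1) ∣ j := by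
  obtain ⟨g, hg⟩ := IsCyclic.exists_generator (α := Fˣ)
  have hord : orderOf g = (q - 1) * (q + 1) := by
    rw [orderOf_eq_card_of_forall_mem_zpowers hg, Nat.card_units, hq]
    exact Cfsg.Agent.H113.PSU.Facts.sq_sub (by have := two_le_of_card hq; omega)
  exact ⟨g, fun j => by rw [← orderOf_dvd_iff_pow_eq_one, hord]⟩

theorem map_powHom (hq : Nat.card F = q ^ 2) (z : Fˣ) : Units.map (powHom hq : F →* F) z = z ^ q := by
  apply Units.ext
  rw [Units.val_pow_eq_pow_val]
  exact powHom_apply hq z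

/-- the linear character used for `k = 1` -/
theorem exists_theta_one (hq : Nat.card F = q ^ 2) {n : ℕ} (h : 4 ≤ q ∨ (q = 3 ∧ Odd n)) :
    ∃ θ : Fˣ →* ℂˣ, (∃ z : Fˣ, θ (z * Units.map (powHom hq : F →* F) z) ≠ 1) ∧
      ∀ a : Fˣ, a ^ (q + 1) = 1 → a ^ n = 1 → θ a = 1 := by
  obtain ⟨φ, hφ⟩ := exists_faithful F
  obtain ⟨g, hg⟩ := exists_gen hq
  rcases h with h | ⟨h, hn⟩
  · refine ⟨φ ^ (q + 1), ⟨g, fun h1 => ?_⟩, fun a ha _ => ?_⟩
    · rw [map_powHom, MonoidHom.pow_apply, ← map_pow, ← map_one φ] at h1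
      have h2 := hφ h1
      rw [← pow_succ', ← pow_mul, hg] at h2
      have h3 := Nat.dvd_of_mul_dvd_mul_right (by omega) h2
      have h4 : q - 1 ∣ 2 := by
        have h5 : q + 1 = (q - 1) + 2 := by omega
        rw [h5] at h3
        exact (Nat.dvd_add_right (dvd_refl _)).1 h3
      have := Nat.le_of_dvd (by norm_num) h4
      omega
    · rw [MonoidHom.pow_apply, ← map_pow, ha, map_one]
  · refine ⟨φ, ⟨g, fun h1 => ?_⟩, fun a ha ha' => ?_⟩
    · rw [map_powHom, ← map_one φ] at h1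
      have h2 := hφ h1
      rw [← pow_succ', hg, h] at h2
      revert h2
      decide
    · have h1 : orderOf a ∣ 2 ^ 2 := orderOf_dvd_of_pow_eq_one (by
        have h5 := ha
        rw [h] at h5
        exact h5)
      have h2 : orderOf a ∣ n := orderOf_dvd_of_pow_eq_one ha'
      have h3 : Nat.Coprime (2 ^ 2) n := Nat.Coprime.pow_left 2 (Nat.coprime_two_left.2 hn)
      have h4 : a = 1 := orderOf_eq_one_iff.1 (Nat.eq_one_of_dvd_coprimes h3 h1 h2)
      rw [h4, map_one]

/-- **`k = 1`, the trivial character** -/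
theorem dg_pt (hF : Fintype.card F = q ^ 2) (hq : Nat.card F = q ^ 2) {n : ℕ} (hn : 1 ≤ n)
    (h : 4 ≤ q ∨ (q = 3 ∧ Odd (1 + (1 + n)))) :
    DG F q (1 + (1 + n)) (dg (hermF F hq (1 + (1 + n))) 1) := by
  obtain ⟨θ, hθ, hθ1⟩ := exists_theta_one hq h
  obtain ⟨W₀, hW₀, -⟩ := hermF_cmp hq 1 n
  obtain ⟨χ, hχ, hχ1, hχz⟩ := exists_one hW₀ hθ
  exact to_psu hF hq (by omega) hχ
    (by rw [hχ1, Cfsg.Agent.H113.Two.HcOne.dg_one]) fun z a ha ha' hz => hχz z a hz (hθ1 a ha ha')

/-- **`k = 1`, the Steinberg character of `GU_3`** -/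
theorem dg_pt_st (hF : Fintype.card F = q ^ 2) (hq : Nat.card F = q ^ 2) {p : ℕ} [Fact p.Prime] [CharP F p]
    (h : 3 ≤ q) :
    ∃ m, 0 < m ∧ DG F q (1 + (1 + (1 + (1 + 1)))) (dg (hermF F hq (1 + (1 + (1 + (1 + 1))))) 1 * p ^ m) := by
  classical
  obtain ⟨θ, hθ, hθ1⟩ := exists_theta_one (n := 1 + (1 + (1 + (1 + 1)))) hq (by
    rcases Nat.lt_or_ge q 4 with h4 | h4
    · exact Or.inr ⟨by omega, by decide⟩
    · exact Or.inl h4)
  obtain ⟨W₀, hW₀, hc⟩ := hermF_cmp hq 1 (1 + (1 + 1))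
  obtain ⟨m, hm0, hirr, hdeg, hsc⟩ := st_herm (p := p) hq (n := 1) (le_refl _)
  have hne : ∃ a, θ a ≠ 1 := by
    obtain ⟨z, hz⟩ := hθ
    exact ⟨_, hz⟩
  obtain ⟨χ, hχ, hχ1, hχz⟩ := exists_one_gen hc hW₀ hθ hirr (fun U hU _ => inner_st (opp_herm hq (by norm_num)) hne hU)
  refine ⟨m, hm0, to_psu hF hq (by norm_num) hχ ?_ fun z a ha ha' hz => hχz z a hz fun z' hz' => ?_⟩
  · rw [hχ1, Cfsg.Agent.H113.Two.HcOne.dg_one, hdeg, Nat.cast_mul]
  · rw [hθ1 a ha ha', Units.val_one, one_mul, hsc z' a hz']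

/-- **`k = 1`, a principal series character of `GU_3`** -/
theorem dg_pt_hc (hF : Fintype.card F = q ^ 2) (hq : Nat.card F = q ^ 2) {p : ℕ} [Fact p.Prime] [CharP F p]
    (h : 3 ≤ q) :
    ∃ m, 0 < m ∧ Nat.card (hermF F hq (1 + (1 + 1))).Pt = p ^ m + 1 ∧
      DG F q (1 + (1 + (1 + (1 + 1)))) (dg (hermF F hq (1 + (1 + (1 + (1 + 1))))) 1 * (p ^ m + 1)) := by
  classical
  obtain ⟨φ, hφ⟩ := exists_faithful F
  obtain ⟨g, hg⟩ := exists_gen hq
  obtain ⟨W₀, hW₀, hc⟩ := hermF_cmp hq 1 (1 + (1 + 1))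
  obtain ⟨W₁, hW₁, -⟩ := hermF_cmp hq 1 1
  obtain ⟨m, hm0, hm⟩ := card_pt (p := p) hq (n := 1) (le_refl _)
  have hfin := finite_iso (hermF F hq (1 + (1 + 1)))
  have hfinO := finite_Om (hermF F hq (1 + (1 + 1))) 1
  let _ := Fintype.ofFinite (hermF F hq (1 + (1 + 1))).iso
  let _ := Fintype.ofFinite ((hermF F hq (1 + (1 + 1))).Om 1)
  have hqq : ∀ z : Fˣ, z ^ (q * q) = z := by
    intro z
    have h1 : z ^ (q * q - 1) = 1 := by
      have h2 : Nat.card Fˣ = q * q - 1 := by rw [Nat.card_units, hq, pow_two]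
      rw [← h2]
      exact pow_card_eq_one'
    have h3 : q * q = (q * q - 1) + 1 := by
      have : 1 ≤ q * q := Nat.one_le_iff_ne_zero.2 (Nat.mul_ne_zero (by omega) (by omega))
      omega
    rw [h3, pow_succ, h1, one_mul]
  have hθ1 : ∃ z : Fˣ, φ (z * Units.map ((hermF F hq (1 + (1 + (1 + (1 + 1))))).σ : F →* F) z) ≠ 1 := by
    refine ⟨g, fun h1 => ?_⟩
    have h1' : φ (g * Units.map (powHom hq : F →* F) g) = φ 1 := by rw [map_one]; exact h1
    rw [map_powHom] at h1'
    have h2 := hφ h1'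
    rw [← pow_succ', hg] at h2
    have h3 := Nat.le_of_dvd (by omega) h2
    have h4 : 2 * (q + 1) ≤ (q - 1) * (q + 1) := Nat.mul_le_mul_right _ (by omega)
    omega
  have hθ2 : ∃ z : Fˣ, (φ ^ q) (z * Units.map ((hermF F hq (1 + (1 + 1))).σ : F →* F) z) ≠ 1 := by
    refine ⟨g, fun h1 => ?_⟩
    have h1' : (φ ^ q) (g * Units.map (powHom hq : F →* F) g) = φ 1 := by rw [map_one]; exact h1
    rw [map_powHom, MonoidHom.pow_apply, ← map_pow] at h1'
    have h2 := hφ h1'
    rw [← pow_succ', ← pow_mul, hg, mul_comm (q + 1)] at h2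
    have h3 := Nat.dvd_of_mul_dvd_mul_right (by omega) h2
    have h4 : q - 1 ∣ 1 := by
      have h5 : q = (q - 1) + 1 := by omega
      rw [h5] at h3
      have h6 : (q - 1) + 1 - 1 = q - 1 := by omega
      rw [h6] at h3
      exact (Nat.dvd_add_right (dvd_refl _)).1 h3
    have := Nat.le_of_dvd (by norm_num) h4
    omega
  have hcus := cusOne F (hermF F hq (1 + (1 + 1))).σ hθ2
  have hirr := (hermF F hq (1 + (1 + 1))).isIrr_hc_one hcus.irr hcus.cusp hcus.dual hW₁
  have hcl := Core.isIrr_isClassFunction hcus.irr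
  have hdeg1 : (hermF F hq (1 + (1 + 1))).hc (linDet (φ ^ q) 1) (fun _ _ => 1) 1 = ((p ^ m + 1 : ℕ) : ℂ) := by
    rw [CForm.hc_one _ hcl (fun _ _ => 1) (d := 1) (fun _ _ => rfl), mul_one]
    have e1 : linDet (φ ^ q) 1 (1 : GL (Fin 1) F) = 1 := by
      unfold linDet
      rw [map_one, map_one]
      rfl
    rw [e1, mul_one, ← hm]
    rfl
  have hsc : ∀ (z' : (hermF F hq (1 + (1 + 1))).iso) (a : Fˣ),
      (∀ v, (z' : (Fin (1 + (1 + 1)) → F) ≃ₗ[F] (Fin (1 + (1 + 1)) → F)) v = (a : F) • v) →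
      (hermF F hq (1 + (1 + 1))).hc (linDet (φ ^ q) 1) (fun _ _ => 1) z' =
        (((φ ^ q) a : ℂˣ) : ℂ) * (hermF F hq (1 + (1 + 1))).hc (linDet (φ ^ q) 1) (fun _ _ => 1) 1 := by
    intro z' a hz'
    unfold CForm.hc
    rw [Finset.mul_sum]
    refine Finset.sum_congr rfl fun W _ => ?_
    have h1 := flagTerm_mul (θ := φ ^ q) W.2.2 (t := z') (a := a) (fun w _ => hz' w) 1
    rw [mul_one] at h1
    rw [h1, mul_assoc]
  obtain ⟨χ, hχ, hχ1, hχz⟩ := exists_one_gen hc hW₀ hθ1 hirr (fun U hU _ => by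
    refine inner_hc (opp_herm hq (by norm_num)) ⟨g, fun h1 => ?_⟩ ⟨g, fun h1 => ?_⟩ hU
    · rw [MonoidHom.pow_apply, ← map_pow] at h1
      have h2 := hφ h1
      have h3 : g ^ (q - 1) = 1 := by
        have h4 : g ^ q = g ^ (q - 1) * g := by rw [← pow_succ]; congr 1; omega
        rw [h4] at h2
        exact mul_eq_right.1 h2
      rw [hg] at h3
      have h5 := Nat.le_of_dvd (by omega) h3
      have h4 : (q - 1) * 4 ≤ (q - 1) * (q + 1) := Nat.mul_le_mul_left _ (by omega)
      omega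
    · have h1' : (φ ^ q) (Units.map (powHom hq : F →* F) g)⁻¹ = φ g := h1
      rw [map_powHom, MonoidHom.pow_apply, ← map_pow] at h1'
      have h2 := hφ h1'
      rw [inv_pow, ← pow_mul, hqq] at h2
      have h3 : g ^ 2 = 1 := by
        rw [pow_two]
        nth_rewrite 1 [← h2]
        rw [inv_mul_cancel]
      rw [hg] at h3
      have h5 := Nat.le_of_dvd (by norm_num) h3
      have h4 : 2 * 4 ≤ (q - 1) * (q + 1) := Nat.mul_le_mul (by omega) (by omega)
      omega)
  refine ⟨m, hm0, hm, to_psu hF hq (by norm_num) hχ ?_ fun z a ha ha' hz => hχz z a hz fun z' hz' => ?_⟩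
  · rw [hχ1, Cfsg.Agent.H113.Two.HcOne.dg_one, hdeg1, Nat.cast_mul]
  · rw [hsc z' a hz', ← mul_assoc, MonoidHom.pow_apply, ← map_pow, ← Units.val_mul, ← map_mul, ← pow_succ', ha,
      map_one, Units.val_one, one_mul]

end Cfsg.Agent.H7.Eight.UnDegs
end

-- part: H7/Eight/UnSix
section
/-!
# An extra degree of `PSU_6(3)` (helper7)

`dg_six` : the Levi subgroup `GL_2(9) x GU_2(3)`, an odd cuspidal character of `GL_2(9)` and an odd principal series
character of `GU_2(3)`.
-/

set_option autoImplicit false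
set_option linter.unusedSectionVars false

open scoped ComplexConjugate
open Cfsg

namespace Cfsg.Agent.H7.Eight.UnSix

open Cfsg.Agent.Characters Module Cfsg.Agent.H53.HC Cfsg.Agent.H477.HC Cfsg.Agent.H477.HC.CForm Cfsg.Agent.H749.Two
open Cfsg.Agent.H139.Cusp Cfsg.Agent.H345.CusU
open Cfsg.Agent.H7.Eight.UnFrame Cfsg.Agent.H7.Eight.UnSum Cfsg.Agent.H7.Eight.UnSt Cfsg.Agent.H7.Eight.UnDown
open Cfsg.Agent.H7.Eight.UnVan Cfsg.Agent.H7.Eight.UnDegs
open Cfsg.Agent.H113.PSL.Hyper Cfsg.Agent.H113.Two.HcOne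

universe u

/-- **an odd cuspidal character of `GL_2(9)`** -/
theorem exists_cus_odd {K : Type u} [Field K] [Finite K] {q : ℕ} (hq : Nat.card K = q ^ 2) (h3 : q = 3) :
    ∃ c : GL (Fin 2) K → ℂ, Cus K 2 (CForm.powHom hq) (fun _ => False) c ∧
      ∀ a : Kˣ, a ^ 2 = 1 → a ≠ 1 → c (Matrix.GeneralLinearGroup.scalar (Fin 2) a) = - c 1 := by
  classical
  obtain ⟨L, _, _, _, hL⟩ := exists_L K 2 (by norm_num)
  obtain ⟨θ, hθ⟩ := exists_theta L
  have hcardL : Nat.card Lˣ = Nat.card K ^ 2 - 1 := by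
    rw [Nat.card_units, Module.natCard_eq_pow_finrank (K := K), hL]
  have hR : Regular K 2 (powTheta θ 1 one_ne_zero) := (regular_powTheta_iff hθ one_ne_zero hL).2 (by
    intro i hi hik h
    have : i = 1 := by omega
    subst this
    rw [hq, h3] at h
    revert h
    decide)
  refine ⟨psi L (powTheta θ 1 one_ne_zero), ⟨psi_isIrr _ hL hR, psi_isCusp L _, ?_, ?_, ?_⟩, ?_⟩
  · intro h
    have hb : q ≠ 0 := by omega
    have h1 : ∀ g : ((Fin 2 → K) →ₗ[K] (Fin 2 → K))ˣ,
        cusp L (powTheta θ 1 one_ne_zero) (g : (Fin 2 → K) →ₗ[K] (Fin 2 → K)) =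
        cusp L (conjTheta (powTheta θ q hb)) (g : (Fin 2 → K) →ₗ[K] (Fin 2 → K)) := by
      intro g
      let A : GL (Fin 2) K := Matrix.GeneralLinearGroup.toLin.symm g
      have h2 := congrFun h A
      rw [Function.comp_apply, MonoidHom.comp_apply,
        psi_map_pow (powTheta θ 1 one_ne_zero) (powTheta θ q hb) hL hq
          (fun x => by rw [powTheta_apply, powTheta_apply, pow_one, map_pow]),
        psi_invT _ hL] at h2
      have h4 : ∀ θ₁ : L →*₀ ℂ, psi L θ₁ A = cusp L θ₁ (g : (Fin 2 → K) →ₗ[K] (Fin 2 → K)) := by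
        intro θ₁
        have h5 : Matrix.GeneralLinearGroup.toLin A = g := MulEquiv.apply_symm_apply _ g
        rw [← h5]
        rfl
      rw [h4, h4, cusp_star] at h2
      exact h2.symm
    obtain ⟨i, hi, h2⟩ := (cusp_eq_iff (V := Fin 2 → K) (powTheta θ 1 one_ne_zero)
      (conjTheta (powTheta θ q hb))
      (by rw [Module.finrank_fin_fun, hL]) (by rw [hL]; exact hR)).1 h1
    rw [hL] at hi
    have h3' := (conj_powTheta_eq_iff hθ one_ne_zero hb (pow_ne_zero i (Nat.card_pos (α := K)).ne')).1 h2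
    rw [hcardL, hq, h3] at h3'
    interval_cases i <;> revert h3' <;> decide
  · intro z hz
    exact hz.elim
  · rw [psi_one L _ (by norm_num), degP_eq_Ico]
  · intro a ha ha1
    have h1 := psi_scalar (powTheta θ 1 one_ne_zero) hL a 1
    rw [mul_one] at h1
    rw [h1, powTheta_apply, pow_one]
    have h2 : θ (algebraMap K L a) ^ 2 = 1 := by
      rw [← map_pow, ← map_pow, ← Units.val_pow_eq_pow_val, ha, Units.val_one, map_one, map_one]
    rcases sq_eq_sq_iff_eq_or_eq_neg.1 (h2.trans (one_pow 2).symm) with h4 | h4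
    · exfalso
      apply ha1
      have h5 : algebraMap K L a = 1 := hθ (by rw [h4, map_one])
      exact Units.ext ((algebraMap K L).injective (by rw [h5, Units.val_one, map_one]))
    · rw [h4, neg_one_mul]

/-- **the extra degree of `PSU_6(3)`** -/
theorem dg_six {F : Type u} [Field F] [Fintype F] {q : ℕ} (hF : Fintype.card F = q ^ 2) (hq : Nat.card F = q ^ 2)
    {p : ℕ} [Fact p.Prime] [CharP F p] (h3 : q = 3) :
    ∃ m, 0 < m ∧ DG F q (2 + (2 + (1 + (1 + 0))))
      (dg (hermF F hq (2 + (2 + (1 + (1 + 0))))) 2 * (p ^ m + 1)) := by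
  classical
  obtain ⟨φ, hφ⟩ := exists_faithful F
  obtain ⟨g, hg⟩ := exists_gen hq
  obtain ⟨c, hc, hodd⟩ := exists_cus_odd hq h3
  obtain ⟨W₀, hW₀, h⟩ := hermF_cmp hq 2 (1 + (1 + 0))
  obtain ⟨W₁, hW₁, -⟩ := hermF_cmp hq 1 0
  obtain ⟨m, hm0, hm⟩ := card_pt (p := p) hq (n := 0) (by norm_num)
  have hfin := finite_iso (hermF F hq (1 + (1 + 0)))
  have hfinO := finite_Om (hermF F hq (1 + (1 + 0))) 1
  let _ := Fintype.ofFinite (hermF F hq (1 + (1 + 0))).iso
  let _ := Fintype.ofFinite ((hermF F hq (1 + (1 + 0))).Om 1)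
  have hθ2 : ∃ z : Fˣ, φ (z * Units.map ((hermF F hq (1 + (1 + 0))).σ : F →* F) z) ≠ 1 := by
    refine ⟨g, fun h1 => ?_⟩
    have h1' : φ (g * Units.map (powHom hq : F →* F) g) = φ 1 := by rw [map_one]; exact h1
    rw [map_powHom] at h1'
    have h2 := hφ h1'
    rw [← pow_succ', hg, h3] at h2
    revert h2
    decide
  have hcus := cusOne F (hermF F hq (1 + (1 + 0))).σ hθ2
  have hirr := (hermF F hq (1 + (1 + 0))).isIrr_hc_one hcus.irr hcus.cusp hcus.dual hW₁
  have hcl := Core.isIrr_isClassFunction hcus.irr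
  have hdeg1 : (hermF F hq (1 + (1 + 0))).hc (linDet φ 1) (fun _ _ => 1) 1 = ((p ^ m + 1 : ℕ) : ℂ) := by
    rw [CForm.hc_one _ hcl (fun _ _ => 1) (d := 1) (fun _ _ => rfl), mul_one]
    have e1 : linDet φ 1 (1 : GL (Fin 1) F) = 1 := by
      unfold linDet
      rw [map_one, map_one]
      rfl
    rw [e1, mul_one, ← hm]
    rfl
  have hsc : ∀ (z' : (hermF F hq (1 + (1 + 0))).iso) (a : Fˣ),
      (∀ v, (z' : (Fin (1 + (1 + 0)) → F) ≃ₗ[F] (Fin (1 + (1 + 0)) → F)) v = (a : F) • v) →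
      (hermF F hq (1 + (1 + 0))).hc (linDet φ 1) (fun _ _ => 1) z' =
        ((φ a : ℂˣ) : ℂ) * (hermF F hq (1 + (1 + 0))).hc (linDet φ 1) (fun _ _ => 1) 1 := by
    intro z' a hz'
    unfold CForm.hc
    rw [Finset.mul_sum]
    refine Finset.sum_congr rfl fun W _ => ?_
    have h1 := flagTerm_mul (θ := φ) W.2.2 (t := z') (a := a) (fun w _ => hz' w) 1
    rw [mul_one] at h1
    rw [h1, mul_assoc]
  obtain ⟨χ, hχ, hχ1, hχz⟩ := exists_hc h hc hW₀ hirr (no_disj' hq (by norm_num) hW₀)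
  refine ⟨m, hm0, to_psu hF hq (by norm_num) hχ ?_ fun z a ha ha' hz => hχz z a hz fun z' hz' => ?_⟩
  · rw [hχ1, hdeg1, Nat.cast_mul]
  · have ha2 : a ^ 2 = 1 := by
      have h5 : a ^ (3 + 1) = 1 := by rw [h3] at ha; exact ha
      have h6 : a ^ 6 = 1 := ha'
      have h7 : a ^ 6 = a ^ (3 + 1) * a ^ 2 := by rw [← pow_add]
      rw [h5, one_mul] at h7
      rw [← h7, h6]
    by_cases ha1 : a = 1
    · subst ha1
      rw [hsc z' 1 hz', map_one, map_one, Units.val_one, one_mul]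
    · have h8 : ((φ a : ℂˣ) : ℂ) = -1 := by
        have h9 : ((φ a : ℂˣ) : ℂ) ^ 2 = 1 := by
          rw [← Units.val_pow_eq_pow_val, ← map_pow, ha2, map_one, Units.val_one]
        rcases sq_eq_sq_iff_eq_or_eq_neg.1 (h9.trans (one_pow 2).symm) with h10 | h10
        · exact absurd (hφ ((Units.ext h10).trans (map_one φ).symm)) ha1
        · exact h10
      rw [hodd a ha2 ha1, hsc z' a hz', h8]
      ring

end Cfsg.Agent.H7.Eight.UnSix
end

-- part: H7/Eight/UnNum
section
/-!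
# Arithmetic of the degrees of `PSU_n(q)` (helper7)

`X p e` : the part of `e` prime to `p`; `lt_gen` : comparison of two degrees; `gap` : the inequality for two
consecutive levels.
-/

set_option autoImplicit false
set_option linter.unusedSectionVars false

namespace Cfsg.Agent.H7.Eight.UnNum

open Cfsg.Agent.H113.PSU.Levi Cfsg.Agent.H113.PSU.Facts

/-- the part prime to `p` -/
def X (p e : ℕ) : ℕ := e / p ^ e.factorization p

theorem X_mul (p a b : ℕ) : X p (a * b) = X p a * X p b := Nat.ordCompl_mul a b p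

theorem X_self {p a : ℕ} (h : ¬ p ∣ a) : X p a = a := by
  unfold X
  rw [Nat.factorization_eq_zero_of_not_dvd h, pow_zero, Nat.div_one]

theorem X_one {p : ℕ} (hp : p.Prime) : X p 1 = 1 := X_self fun h => hp.one_lt.ne' (Nat.dvd_one.1 h)

theorem X_pow {p : ℕ} (hp : p.Prime) (m : ℕ) : X p (p ^ m) = 1 := by
  unfold X
  rw [hp.factorization_pow, Finsupp.single_eq_same, Nat.div_self (pow_pos hp.pos _)]

theorem X_pos {p e : ℕ} (he : e ≠ 0) : 0 < X p e := Nat.ordCompl_pos p he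

section

variable {q : ℕ}

theorem not_dvd_uu {p : ℕ} (hp : p.Prime) (hpq : p ∣ q) (hq : 2 ≤ q) {i : ℕ} (hi : 1 ≤ i) : ¬ p ∣ uu q i :=
  fun h => not_dvd_q hp hi (by omega) h hpq

theorem not_dvd_sub {p : ℕ} (hp : p.Prime) (hpq : p ∣ q) (hq : 2 ≤ q) {i : ℕ} (hi : 1 ≤ i) : ¬ p ∣ q ^ i - 1 := by
  intro h
  have h1 : 1 ≤ q ^ i := Nat.one_le_pow _ _ (by omega)
  have h2 := (Nat.dvd_sub_iff_right h1 (hpq.trans (dvd_pow_self _ (by omega)))).1 h
  exact hp.one_lt.ne' (Nat.dvd_one.1 h2)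

theorem not_dvd_t {p t : ℕ} (hp : p.Prime) (hpq : p ∣ q) (ht : t ∣ q + 1) : ¬ p ∣ t := by
  intro h
  have h1 := (Nat.dvd_add_right hpq).1 (h.trans ht)
  exact hp.one_lt.ne' (Nat.dvd_one.1 h1)

theorem uu_lt (hq : 2 ≤ q) {i : ℕ} (hi : 2 ≤ i) : uu q i < uu q (i + 1) := by
  have h1 : q ^ i * 2 ≤ q ^ (i + 1) := by rw [pow_succ]; exact Nat.mul_le_mul_left _ hq
  have h2 : 2 ^ 2 ≤ q ^ i := (Nat.pow_le_pow_left hq 2).trans (Nat.pow_le_pow_right (by omega) hi)
  unfold uu
  by_cases h : Even i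
  · rw [if_pos h, if_neg (by rw [Nat.even_add_one, not_not]; exact h)]
    omega
  · rw [if_neg h, if_pos (by rw [Nat.even_add_one]; exact h)]
    omega

theorem uu_le (hq : 2 ≤ q) {i j : ℕ} (hi : 2 ≤ i) (hij : i ≤ j) : uu q i ≤ uu q j := by
  induction j, hij using Nat.le_induction with
  | base => exact le_refl _
  | succ j hj ih => exact ih.trans (uu_lt hq (hi.trans hj)).le

theorem uu_lt' (hq : 2 ≤ q) {i j : ℕ} (hi : 2 ≤ i) (hij : i < j) : uu q i < uu q j :=
  (uu_lt hq hi).trans_le (uu_le hq (by omega) hij)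

theorem uu_one : uu q 1 = q + 1 := by
  unfold uu; rw [if_neg (by decide), pow_one]

theorem uu_two : uu q 2 = q ^ 2 - 1 := by
  unfold uu; rw [if_pos (by decide)]

theorem uu_three : uu q 3 = q ^ 3 + 1 := by
  unfold uu; rw [if_neg (by decide)]

theorem uu_even {i : ℕ} (hi : Even i) : uu q i = q ^ i - 1 := by
  unfold uu; rw [if_pos hi]

theorem uu_odd {i : ℕ} (hi : ¬ Even i) : uu q i = q ^ i + 1 := by
  unfold uu; rw [if_neg hi]

/-- **comparison of two degrees** -/
theorem lt_gen {x t C A x' t' C' A' : ℕ} (h : x * t * C = A) (h' : x' * t' * C' = A') (ht : 0 < t) (ht' : t' ≤ q + 1)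
    (hlt : (q + 1) * C' * A < A' * C) : x < x' := by
  by_contra hc
  have hc : x' ≤ x := not_lt.1 hc
  have h1 : A' * C ≤ (q + 1) * C' * A := by
    calc A' * C = x' * t' * C' * C := by rw [h']
      _ ≤ x * (q + 1) * C' * C := by gcongr
      _ = x * 1 * C * ((q + 1) * C') := by ring
      _ ≤ x * t * C * ((q + 1) * C') := by gcongr; exact ht
      _ = (q + 1) * C' * A := by rw [h]; ring
  exact absurd hlt (not_lt.2 h1)

/-- **consecutive levels** -/
theorem gap (hq : 2 ≤ q) {j k : ℕ} (hj : 2 ≤ j) (hk : 1 ≤ k) :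
    (q + 1) * (q ^ (2 * (k + 1)) - 1) < uu q j * uu q (j + 1) * (q ^ (2 * k) - 1) := by
  have h1 : uu q 2 * uu q 3 ≤ uu q j * uu q (j + 1) := Nat.mul_le_mul (uu_le hq (le_refl _) hj) (uu_le hq (by omega) (by omega))
  refine lt_of_lt_of_le ?_ (Nat.mul_le_mul_right _ h1)
  rw [uu_two, uu_three, sq_sub (by omega)]
  obtain ⟨y, hy⟩ : ∃ y, q ^ (2 * k) = y := ⟨_, rfl⟩
  have hy2 : q ^ 2 ≤ y := by rw [← hy]; exact Nat.pow_le_pow_right (by omega) (by omega)
  have e1 : q ^ (2 * (k + 1)) = q ^ 2 * y := by rw [← hy, ← pow_add]; congr 1; ring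
  rw [e1, hy]
  obtain ⟨r, rfl⟩ : ∃ r, q = r + 2 := ⟨q - 2, by omega⟩
  obtain ⟨z, rfl⟩ : ∃ z, y = (r + 2) ^ 2 + z := ⟨y - (r + 2) ^ 2, by omega⟩
  have e2 : (r + 2) ^ 2 * ((r + 2) ^ 2 + z) - 1 + 1 = (r + 2) ^ 2 * ((r + 2) ^ 2 + z) := by
    have : 0 < (r + 2) ^ 2 * ((r + 2) ^ 2 + z) := by positivity
    omega
  have e3 : (r + 2) ^ 2 + z - 1 + 1 = (r + 2) ^ 2 + z := by
    have : 0 < (r + 2) ^ 2 + z := by positivity
    omega
  have e4 : r + 2 - 1 = r + 1 := by omega
  rw [e4]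
  obtain ⟨a, ha⟩ : ∃ a, (r + 2) ^ 2 * ((r + 2) ^ 2 + z) - 1 = a := ⟨_, rfl⟩
  obtain ⟨b, hb⟩ : ∃ b, (r + 2) ^ 2 + z - 1 = b := ⟨_, rfl⟩
  rw [ha] at e2 ⊢
  rw [hb] at e3 ⊢
  have e5 : a + 1 = (r + 2) ^ 2 * (b + 1) := by rw [e2, e3]
  have e6 : (r + 2) ^ 2 ≤ b + 1 := by rw [e3]; omega
  have e7 : a < (r + 1) * ((r + 2) ^ 3 + 1) * b := by
    nlinarith only [e3, e5, Nat.zero_le (r * b), Nat.zero_le (r * r * b), Nat.zero_le (r * r * r * b)]
  calc (r + 2 + 1) * a < (r + 2 + 1) * ((r + 1) * ((r + 2) ^ 3 + 1) * b) := by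
        exact Nat.mul_lt_mul_of_pos_left e7 (by omega)
    _ = (r + 1) * (r + 2 + 1) * ((r + 2) ^ 3 + 1) * b := by ring

/-- the product of the `uu` -/
def PP (q n N : ℕ) : ℕ := ∏ i ∈ Finset.Ico n N, uu q (i + 1)

theorem PP_bot {n N : ℕ} (h : n < N) : PP q n N = uu q (n + 1) * PP q (n + 1) N := by
  unfold PP
  rw [Finset.prod_eq_prod_Ico_succ_bot h]

theorem PP_self (n : ℕ) : PP q n n = 1 := by
  unfold PP
  rw [Finset.Ico_self, Finset.prod_empty]

theorem PP_top {n N : ℕ} (h : n ≤ N) : PP q n (N + 1) = PP q n N * uu q (N + 1) := by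
  unfold PP
  rw [Finset.prod_Ico_succ_top h]

theorem PP_pos (hq : 2 ≤ q) (n N : ℕ) : 0 < PP q n N := Finset.prod_pos fun _ _ => uu_pos hq (by omega)

theorem not_dvd_PP {p : ℕ} (hp : p.Prime) (n N : ℕ) (h : ∀ i, n < i → i ≤ N → ¬ p ∣ uu q i) : ¬ p ∣ PP q n N := by
  intro h1
  obtain ⟨i, hi, h2⟩ := (Prime.dvd_finsetProd_iff hp.prime _).1 h1
  rw [Finset.mem_Ico] at hi
  exact h _ (by omega) (by omega) h2

/-- the equation of a degree of level `k` -/
def Lv (p q k n w e : ℕ) : Prop := ∃ t, t ∣ q + 1 ∧ X p e * t * (q ^ (2 * k) - 1) = PP q n (k + (k + n)) * w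

variable {p : ℕ}

theorem Lv.step (hq : 2 ≤ q) {k n w e e' : ℕ} (hk : 1 ≤ k) (hn : 1 ≤ n) (hw : 1 ≤ w) (h : Lv p q k (n + 2) 1 e)
    (h' : Lv p q (k + 1) n w e') : X p e < X p e' := by
  obtain ⟨t, ht, h1⟩ := h
  obtain ⟨t', ht', h2⟩ := h'
  refine lt_gen h1 h2 (Nat.pos_of_dvd_of_pos ht (by omega)) (Nat.le_of_dvd (by omega) ht') ?_
  have e1 : k + 1 + (k + 1 + n) = k + (k + (n + 2)) := by ring
  have h3 := gap hq (j := n + 1) (k := k) (by omega) hk
  have h4 := PP_pos hq (n + 2) (k + (k + (n + 2)))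
  rw [e1, PP_bot (n := n) (by omega), PP_bot (n := n + 1) (by omega), mul_one]
  calc (q + 1) * (q ^ (2 * (k + 1)) - 1) * PP q (n + 2) (k + (k + (n + 2)))
      < uu q (n + 1) * uu q (n + 1 + 1) * (q ^ (2 * k) - 1) * PP q (n + 2) (k + (k + (n + 2))) :=
        Nat.mul_lt_mul_of_pos_right h3 h4
    _ = uu q (n + 1) * (uu q (n + 1 + 1) * PP q (n + 1 + 1) (k + (k + (n + 2)))) * 1 * (q ^ (2 * k) - 1) := by
        rw [show n + 1 + 1 = n + 2 from rfl]; ring
    _ ≤ uu q (n + 1) * (uu q (n + 1 + 1) * PP q (n + 1 + 1) (k + (k + (n + 2)))) * w * (q ^ (2 * k) - 1) := by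
        gcongr

/-- the equation of the two rank 3 degrees -/
def Fg (p q a b e : ℕ) : Prop := X p e * 1 * ((q ^ 2 - 1) * (q + 1)) = uu q a * uu q b

theorem four_eq (hq : 2 ≤ q) : q ^ (2 * 2) - 1 = (q ^ 2 - 1) * (q ^ 2 + 1) := by
  have h : 1 ≤ q ^ 2 := Nat.one_le_pow _ _ (by omega)
  obtain ⟨y, hy⟩ : ∃ y, q ^ 2 = y + 1 := ⟨q ^ 2 - 1, by omega⟩
  have e1 : q ^ (2 * 2) = (y + 1) * (y + 1) := by rw [pow_mul, hy, pow_two]
  rw [e1, hy, Nat.add_sub_cancel]
  have : (y + 1) * (y + 1) = y * (y + 1 + 1) + 1 := by ring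
  omega

theorem sq_lt_uu (hq : 2 ≤ q) {i : ℕ} (hi : 3 ≤ i) : q ^ 2 + 1 < uu q i := by
  refine lt_of_lt_of_le ?_ (uu_le hq (by norm_num) hi)
  rw [uu_three]
  have h : q ^ 2 < q ^ 3 := Nat.pow_lt_pow_right (by omega) (by norm_num)
  omega

theorem Lv.two_f (hq : 2 ≤ q) {n w e f : ℕ} (hn : 1 ≤ n) (hw : 1 ≤ w) (h : Lv p q 2 n w e)
    (hf : Fg p q (n + 4) (n + 1) f) : X p f < X p e := by
  obtain ⟨t', ht', h2⟩ := h
  refine lt_gen hf h2 one_pos (Nat.le_of_dvd (by omega) ht') ?_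
  have e1 : 2 + (2 + n) = n + 4 := by ring
  have h1 := uu_pos hq (i := n + 1) (by omega)
  have h3 := uu_pos hq (i := n + 3) (by omega)
  have h4 := uu_pos hq (i := n + 4) (by omega)
  have h5 := sq_lt_uu hq (i := n + 2) (by omega)
  have h6 : 0 < q ^ 2 - 1 := by rw [← uu_two]; exact uu_pos hq (by norm_num)
  rw [e1, PP_bot (by omega), PP_bot (by omega), PP_bot (by omega), PP_bot (by omega), PP_self, four_eq hq]
  calc (q + 1) * ((q ^ 2 - 1) * (q ^ 2 + 1)) * (uu q (n + 4) * uu q (n + 1))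
      = (q ^ 2 + 1) * (((q + 1) * (q ^ 2 - 1)) * (uu q (n + 4) * uu q (n + 1))) := by ring
    _ < uu q (n + 2) * (((q + 1) * (q ^ 2 - 1)) * (uu q (n + 4) * uu q (n + 1))) :=
        Nat.mul_lt_mul_of_pos_right h5 (by (clear * - h1 h4 h6; positivity))
    _ ≤ uu q (n + 2) * (((q + 1) * (q ^ 2 - 1)) * (uu q (n + 4) * uu q (n + 1))) * (uu q (n + 3) * w) :=
        Nat.le_mul_of_pos_right _ (by (clear * - hw h3; positivity))
    _ = _ := by rw [show n + 1 + 1 = n + 2 from rfl, show n + 2 + 1 = n + 3 from rfl, show n + 3 + 1 = n + 4 from rfl]; ring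

theorem Lv.two_g (hq : 2 ≤ q) {n w e g : ℕ} (hn : 1 ≤ n) (hw : 1 ≤ w) (h : Lv p q 2 n w e)
    (hg : Fg p q (n + 3) (n + 2) g) : X p g < X p e := by
  obtain ⟨t', ht', h2⟩ := h
  refine lt_gen hg h2 one_pos (Nat.le_of_dvd (by omega) ht') ?_
  have e1 : 2 + (2 + n) = n + 4 := by ring
  have h1 := uu_pos hq (i := n + 1) (by omega)
  have h3 := uu_pos hq (i := n + 2) (by omega)
  have h4 := uu_pos hq (i := n + 3) (by omega)
  have h5 := sq_lt_uu hq (i := n + 4) (by omega)
  have h6 : 0 < q ^ 2 - 1 := by rw [← uu_two]; exact uu_pos hq (by norm_num)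
  rw [e1, PP_bot (by omega), PP_bot (by omega), PP_bot (by omega), PP_bot (by omega), PP_self, four_eq hq]
  calc (q + 1) * ((q ^ 2 - 1) * (q ^ 2 + 1)) * (uu q (n + 3) * uu q (n + 2))
      = (q ^ 2 + 1) * (((q + 1) * (q ^ 2 - 1)) * (uu q (n + 3) * uu q (n + 2))) := by ring
    _ < uu q (n + 4) * (((q + 1) * (q ^ 2 - 1)) * (uu q (n + 3) * uu q (n + 2))) :=
        Nat.mul_lt_mul_of_pos_right h5 (by (clear * - h3 h4 h6; positivity))
    _ ≤ uu q (n + 4) * (((q + 1) * (q ^ 2 - 1)) * (uu q (n + 3) * uu q (n + 2))) * (uu q (n + 1) * w) :=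
        Nat.le_mul_of_pos_right _ (by (clear * - hw h1; positivity))
    _ = _ := by rw [show n + 1 + 1 = n + 2 from rfl, show n + 2 + 1 = n + 3 from rfl, show n + 3 + 1 = n + 4 from rfl]; ring

theorem Lv.one_f (hq : 2 ≤ q) {n w e f : ℕ} (hn : 1 ≤ n) (hw : 1 ≤ w) (h : Lv p q 1 (n + 2) w e)
    (hf : Fg p q (n + 4) (n + 1) f) : X p f < X p e := by
  obtain ⟨t', ht', h2⟩ := h
  refine lt_gen hf h2 one_pos (Nat.le_of_dvd (by omega) ht') ?_
  have e1 : 1 + (1 + (n + 2)) = n + 4 := by ring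
  have h1 := uu_pos hq (i := n + 1) (by omega)
  have h4 := uu_pos hq (i := n + 4) (by omega)
  have h5 := uu_lt' hq (i := n + 1) (j := n + 3) (by omega) (by omega)
  have h6 : 0 < q ^ 2 - 1 := by rw [← uu_two]; exact uu_pos hq (by norm_num)
  rw [e1, PP_bot (by omega), PP_bot (by omega), PP_self, mul_one]
  calc (q + 1) * (q ^ (2 * 1) - 1) * (uu q (n + 4) * uu q (n + 1))
      = uu q (n + 1) * (((q + 1) * (q ^ 2 - 1)) * uu q (n + 4)) := by rw [mul_one]; ring
    _ < uu q (n + 3) * (((q + 1) * (q ^ 2 - 1)) * uu q (n + 4)) :=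
        Nat.mul_lt_mul_of_pos_right h5 (by (clear * - hq h4 h6; positivity))
    _ ≤ uu q (n + 3) * (((q + 1) * (q ^ 2 - 1)) * uu q (n + 4)) * w :=
        Nat.le_mul_of_pos_right _ (by positivity)
    _ = _ := by rw [show n + 2 + 1 = n + 3 from rfl, show n + 3 + 1 = n + 4 from rfl]; ring

theorem Lv.one_g (hq : 2 ≤ q) {n w e g : ℕ} (hw : 1 ≤ w) (h : Lv p q 1 (n + 2) w e)
    (hg : Fg p q (n + 3) (n + 2) g) : X p g < X p e := by
  obtain ⟨t', ht', h2⟩ := h
  refine lt_gen hg h2 one_pos (Nat.le_of_dvd (by omega) ht') ?_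
  have e1 : 1 + (1 + (n + 2)) = n + 4 := by ring
  have h1 := uu_pos hq (i := n + 2) (by omega)
  have h4 := uu_pos hq (i := n + 3) (by omega)
  have h5 := uu_lt' hq (i := n + 2) (j := n + 4) (by omega) (by omega)
  have h6 : 0 < q ^ 2 - 1 := by rw [← uu_two]; exact uu_pos hq (by norm_num)
  rw [e1, PP_bot (by omega), PP_bot (by omega), PP_self, mul_one]
  calc (q + 1) * (q ^ (2 * 1) - 1) * (uu q (n + 3) * uu q (n + 2))
      = uu q (n + 2) * (((q + 1) * (q ^ 2 - 1)) * uu q (n + 3)) := by rw [mul_one]; ring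
    _ < uu q (n + 4) * (((q + 1) * (q ^ 2 - 1)) * uu q (n + 3)) :=
        Nat.mul_lt_mul_of_pos_right h5 (by (clear * - hq h4 h6; positivity))
    _ ≤ uu q (n + 4) * (((q + 1) * (q ^ 2 - 1)) * uu q (n + 3)) * w :=
        Nat.le_mul_of_pos_right _ (by positivity)
    _ = _ := by rw [show n + 2 + 1 = n + 3 from rfl, show n + 3 + 1 = n + 4 from rfl]; ring

/-- the top level -/
theorem Lv.spec (hq : 2 ≤ q) {k m e : ℕ} (hm : k + (k + 0) = m + 1) (h : Lv p q k 0 1 e) :
    ∃ t, t ∣ q + 1 ∧ X p e * t * 1 = PP q 0 m := by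
  obtain ⟨t, ht, h1⟩ := h
  refine ⟨t, ht, ?_⟩
  have h2 : q ^ (2 * k) - 1 = uu q (m + 1) := by
    rw [← hm, uu_even ⟨k, by omega⟩]
    congr 2
    omega
  have h3 := uu_pos hq (i := m + 1) (by omega)
  rw [h2, mul_one, hm, PP_top (Nat.zero_le _)] at h1
  rw [mul_one]
  exact Nat.eq_of_mul_eq_mul_right h3 h1

theorem Lv.spec_f (hq : 2 ≤ q) {k m e f : ℕ} (hm : k + (k + 0) = m + 4) (h : Lv p q k 0 1 e)
    (hf : Fg p q (m + 4) (m + 1) f) : X p f < X p e := by
  obtain ⟨t', ht', h2⟩ := Lv.spec hq (m := m + 3) hm h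
  refine lt_gen hf h2 one_pos (Nat.le_of_dvd (by omega) ht') ?_
  have h1 := uu_pos hq (i := m + 1) (by omega)
  have h3 := uu_pos hq (i := m + 3) (by omega)
  have h6 : 0 < q ^ 2 - 1 := by rw [← uu_two]; exact uu_pos hq (by norm_num)
  have hPP := PP_pos hq 0 m
  have hev : Even (m + 4) := ⟨k, by omega⟩
  have h5 : uu q (m + 4) < uu q (m + 3) * uu q (m + 2) := by
    have ho : ¬ Even (m + 3) := by
      rw [show m + 4 = m + 3 + 1 from rfl, Nat.even_add_one] at hev; exact hev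
    rw [uu_even hev, uu_odd ho]
    have h7 : q ≤ uu q (m + 2) := by
      refine le_trans ?_ (uu_le hq (le_refl _) (by omega))
      rw [uu_two]
      have : 2 * q ≤ q ^ 2 := by rw [pow_two]; exact Nat.mul_le_mul_right _ hq
      omega
    have h8 : q ^ (m + 4) = q ^ (m + 3) * q := pow_succ _ _
    calc q ^ (m + 4) - 1 ≤ q ^ (m + 3) * q := by rw [h8]; exact Nat.sub_le _ _
      _ ≤ q ^ (m + 3) * uu q (m + 2) := Nat.mul_le_mul_left _ h7
      _ < q ^ (m + 3) * uu q (m + 2) + uu q (m + 2) := by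
          have := uu_pos hq (i := m + 2) (by omega)
          omega
      _ = (q ^ (m + 3) + 1) * uu q (m + 2) := by ring
  rw [PP_top (by omega), PP_top (by omega), PP_top (by omega)]
  calc (q + 1) * 1 * (uu q (m + 4) * uu q (m + 1))
      = uu q (m + 4) * ((q + 1) * uu q (m + 1)) := by ring
    _ < (uu q (m + 3) * uu q (m + 2)) * ((q + 1) * uu q (m + 1)) :=
        Nat.mul_lt_mul_of_pos_right h5 (by (clear * - hq h1; positivity))
    _ ≤ (uu q (m + 3) * uu q (m + 2)) * ((q + 1) * uu q (m + 1)) * (PP q 0 m * (q ^ 2 - 1)) :=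
        Nat.le_mul_of_pos_right _ (by (clear * - h6 hPP; positivity))
    _ = _ := by rw [show m + 1 + 1 = m + 2 from rfl, show m + 2 + 1 = m + 3 from rfl]; ring

theorem Lv.spec_g (hq : 2 ≤ q) {k m e g : ℕ} (hm : k + (k + 0) = m + 4) (h : Lv p q k 0 1 e)
    (hg : Fg p q (m + 3) (m + 2) g) : X p g < X p e := by
  obtain ⟨t', ht', h2⟩ := Lv.spec hq (m := m + 3) hm h
  refine lt_gen hg h2 one_pos (Nat.le_of_dvd (by omega) ht') ?_
  have h1 := uu_pos hq (i := m + 2) (by omega)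
  have h3 := uu_pos hq (i := m + 3) (by omega)
  have h4 := uu_pos hq (i := m + 1) (by omega)
  have h6 : 1 < q ^ 2 - 1 := by
    have : 2 ^ 2 ≤ q ^ 2 := Nat.pow_le_pow_left hq 2
    omega
  have hPP := PP_pos hq 0 m
  rw [PP_top (by omega), PP_top (by omega), PP_top (by omega)]
  calc (q + 1) * 1 * (uu q (m + 3) * uu q (m + 2))
      = 1 * ((q + 1) * (uu q (m + 3) * uu q (m + 2))) := by ring
    _ < (q ^ 2 - 1) * ((q + 1) * (uu q (m + 3) * uu q (m + 2))) :=
        Nat.mul_lt_mul_of_pos_right h6 (by (clear * - hq h1 h3; positivity))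
    _ ≤ (q ^ 2 - 1) * ((q + 1) * (uu q (m + 3) * uu q (m + 2))) * (PP q 0 m * uu q (m + 1)) :=
        Nat.le_mul_of_pos_right _ (by (clear * - h4 hPP; positivity))
    _ = _ := by rw [show m + 1 + 1 = m + 2 from rfl, show m + 2 + 1 = m + 3 from rfl]; ring

/-- the rank 3 degrees are not powers of `p` -/
theorem Fg.one_lt (hq : 2 ≤ q) {a b e : ℕ} (ha : 3 ≤ a) (hb : 2 ≤ b) (h : Fg p q a b e) : 1 < X p e := by
  unfold Fg at h
  have h1 : uu q 2 ≤ uu q b := uu_le hq (le_refl _) hb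
  have h2 : q + 1 < uu q a := by
    refine lt_of_lt_of_le ?_ (uu_le hq (by norm_num) ha)
    rw [uu_three]
    have : q ^ 1 < q ^ 3 := Nat.pow_lt_pow_right (by omega) (by norm_num)
    rw [pow_one] at this
    omega
  have h3 := uu_pos hq (i := 2) (by norm_num)
  have h4 : uu q 2 * (q + 1) < uu q a * uu q b := by
    calc uu q 2 * (q + 1) < uu q 2 * uu q a := Nat.mul_lt_mul_of_pos_left h2 h3
      _ ≤ uu q b * uu q a := Nat.mul_le_mul_right _ h1
      _ = _ := mul_comm _ _
  rw [← h, uu_two, mul_one] at h4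
  by_contra hc
  have h5 : X p e * ((q ^ 2 - 1) * (q + 1)) ≤ 1 * ((q ^ 2 - 1) * (q + 1)) := Nat.mul_le_mul_right _ (by omega)
  omega

end

end Cfsg.Agent.H7.Eight.UnNum
end

-- part: H7/Eight/UnPrime
section
/-!
# Primes for the top level of `PSU_6(q)`, `PSU_8(q)` (helper7)

A prime `z ≠ 3` dividing `q² + q + 1` divides no `uu q i`, `i ≤ 5`, and a prime `z ≠ 2` dividing `q⁴ + 1` divides no
`uu q i`, `i ≤ 7`.
-/

set_option autoImplicit false
set_option linter.unusedSectionVars false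

namespace Cfsg.Agent.H7.Eight.UnNum

open Cfsg.Agent.H113.PSU.Levi Cfsg.Agent.H113.PSU.Facts

variable {q z : ℕ}

theorem uu_zmod (hq : 1 ≤ q) (i : ℕ) : ((uu q i : ℕ) : ZMod z) = (q : ZMod z) ^ i - (-1) ^ i := by
  have := congrArg (Int.cast : ℤ → ZMod z) (uu_cast hq i)
  push_cast at this
  exact this

theorem dvd_uu_iff (hq : 1 ≤ q) {i : ℕ} : z ∣ uu q i ↔ (q : ZMod z) ^ i = (-1) ^ i := by
  rw [← ZMod.natCast_eq_zero_iff, uu_zmod hq, sub_eq_zero]

theorem exists_six (hq : 2 ≤ q) : ∃ z, z.Prime ∧ z ∣ uu q 6 ∧ ∀ i, 1 ≤ i → i ≤ 5 → ¬ z ∣ uu q i := by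
  obtain ⟨z, hz, hzd, hz3⟩ := exists_prime_ne (N := q ^ 2 + q + 1) Nat.prime_three (by
    intro h
    have h1 : (q ^ 2 + q + 1) % 9 = 0 := Nat.mod_eq_zero_of_dvd h
    have h2 : q % 9 < 9 := Nat.mod_lt _ (by norm_num)
    have h3 : (q ^ 2 + q + 1) % 9 = ((q % 9) ^ 2 + q % 9 + 1) % 9 := by
      simp only [Nat.add_mod, Nat.pow_mod, _root_.dvd_refl, _root_.Nat.mod_mod_of_dvd, _root_.Nat.one_mod]
    rw [h3] at h1
    interval_cases (q % 9) <;> omega) (by nlinarith)
  have : Fact z.Prime := ⟨hz⟩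
  have hz2 : z ≠ 2 := by
    rintro rfl
    have h1 : q ^ 2 + q + 1 = q * (q + 1) + 1 := by ring
    rw [h1] at hzd
    have h2 : 2 ∣ q * (q + 1) := even_iff_two_dvd.1 (Nat.even_mul_succ_self q)
    have h3 := (Nat.dvd_add_right h2).1 hzd
    omega
  obtain ⟨Q, hQ⟩ : ∃ Q : ZMod z, Q = q := ⟨_, rfl⟩
  have h1 : Q ^ 2 + Q + 1 = 0 := by
    rw [hQ]
    have := (ZMod.natCast_eq_zero_iff _ z).2 hzd
    push_cast at this
    exact this
  have h2 : Q ^ 3 = 1 := by linear_combination (Q - 1) * h1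
  have h20 : (2 : ZMod z) ≠ 0 := by
    intro h
    have h3 : ((2 : ℕ) : ZMod z) = 0 := by push_cast; exact h
    have h4 := (ZMod.natCast_eq_zero_iff 2 z).1 h3
    exact hz2 ((Nat.prime_dvd_prime_iff_eq hz Nat.prime_two).1 h4)
  have h30 : (3 : ZMod z) ≠ 0 := by
    intro h
    have h3 : ((3 : ℕ) : ZMod z) = 0 := by push_cast; exact h
    have h4 := (ZMod.natCast_eq_zero_iff 3 z).1 h3
    exact hz3 ((Nat.prime_dvd_prime_iff_eq hz Nat.prime_three).1 h4)
  refine ⟨z, hz, ?_, fun i hi1 hi2 h => ?_⟩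
  · rw [dvd_uu_iff (by omega), ← hQ]
    linear_combination (Q ^ 3 + 1) * h2
  · rw [dvd_uu_iff (by omega), ← hQ] at h
    interval_cases i
    · have h3 : (1 : ZMod z) = 0 := by linear_combination h1 - Q * h
      exact one_ne_zero h3
    · have h3 : Q = 1 := by linear_combination h2 - Q * h
      rw [h3] at h1
      exact h30 (by linear_combination h1)
    · exact h20 (by linear_combination h - h2)
    · have h3 : Q = 1 := by linear_combination h - Q * h2
      rw [h3] at h1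
      exact h30 (by linear_combination h1)
    · have h3 : Q = 0 := by linear_combination h1 - h + Q ^ 2 * h2
      rw [h3] at h2
      exact one_ne_zero (by linear_combination -h2 : (1 : ZMod z) = 0)

theorem exists_eight (hq : 2 ≤ q) : ∃ z, z.Prime ∧ z ∣ uu q 8 ∧ ∀ i, 1 ≤ i → i ≤ 7 → ¬ z ∣ uu q i := by
  obtain ⟨z, hz, hzd, hz2⟩ := exists_prime_ne (N := q ^ 4 + 1) Nat.prime_two (by
    intro h
    have h1 : (q ^ 4 + 1) % 4 = 0 := Nat.mod_eq_zero_of_dvd h
    have h2 : q % 4 < 4 := Nat.mod_lt _ (by norm_num)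
    have h3 : (q ^ 4 + 1) % 4 = ((q % 4) ^ 4 + 1) % 4 := by
      simp [Nat.add_mod, Nat.pow_mod]
    rw [h3] at h1
    interval_cases (q % 4) <;> omega) (by
      have : 2 ^ 4 ≤ q ^ 4 := Nat.pow_le_pow_left hq 4
      omega)
  have : Fact z.Prime := ⟨hz⟩
  obtain ⟨Q, hQ⟩ : ∃ Q : ZMod z, Q = q := ⟨_, rfl⟩
  have h1 : Q ^ 4 = -1 := by
    rw [hQ]
    have := (ZMod.natCast_eq_zero_iff _ z).2 hzd
    push_cast at this
    linear_combination this
  have h20 : (2 : ZMod z) ≠ 0 := by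
    intro h
    have h3 : ((2 : ℕ) : ZMod z) = 0 := by push_cast; exact h
    have h4 := (ZMod.natCast_eq_zero_iff 2 z).1 h3
    exact hz2 ((Nat.prime_dvd_prime_iff_eq hz Nat.prime_two).1 h4)
  have h8 : Q ^ 8 = 1 := by linear_combination (Q ^ 4 - 1) * h1
  have hord : orderOf Q = 2 ^ 3 := by
    refine orderOf_eq_prime_pow (p := 2) (n := 2) ?_ h8
    intro h
    have h3 : Q ^ 4 = 1 := h
    exact h20 (by linear_combination h1 - h3)
  refine ⟨z, hz, ?_, fun i hi1 hi2 h => ?_⟩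
  · rw [dvd_uu_iff (by omega), ← hQ, h8]
    norm_num
  · rw [dvd_uu_iff (by omega), ← hQ] at h
    have h2 : Q ^ (2 * i) = 1 := by
      rw [mul_comm, pow_mul, h, ← pow_mul, mul_comm, pow_mul, neg_one_sq, one_pow]
    have h3 := orderOf_dvd_of_pow_eq_one h2
    rw [hord] at h3
    have h4 : i = 4 := by omega
    subst h4
    exact h20 (by linear_combination h1 - h)

theorem Lv.dvd {p k n w e : ℕ} (h : Lv p q k n w e) (hz : z.Prime) (h1 : ¬ z ∣ uu q 1) (h2 : ¬ z ∣ uu q (k + k))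
    (h3 : z ∣ uu q (k + (k + n))) (hk : 0 < k) : z ∣ X p e := by
  obtain ⟨t, ht, h⟩ := h
  have h4 : z ∣ X p e * t * (q ^ (2 * k) - 1) := by
    rw [h]
    refine Dvd.dvd.mul_right (h3.trans ?_) _
    obtain ⟨m, hm⟩ : ∃ m, k + (k + n) = m + 1 := ⟨k + (k + n) - 1, by omega⟩
    rw [hm, PP_top (by omega)]
    exact dvd_mul_left _ _
  rcases (hz.dvd_mul).1 h4 with h5 | h5
  · rcases (hz.dvd_mul).1 h5 with h6 | h6
    · exact h6
    · exact absurd (by rw [uu_one]; exact h6.trans ht) h1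
  · exact absurd (by rw [uu_even ⟨k, rfl⟩, ← two_mul]; exact h5) h2

theorem Fg.dvd {p a b e : ℕ} (h : Fg p q a b e) (hz : z.Prime) (h1 : ¬ z ∣ uu q 1) (h2 : ¬ z ∣ uu q 2)
    (h3 : z ∣ uu q a) : z ∣ X p e := by
  have h4 : z ∣ X p e * 1 * ((q ^ 2 - 1) * (q + 1)) := by
    rw [h]
    exact Dvd.dvd.mul_right h3 _
  rcases (hz.dvd_mul).1 h4 with h5 | h5
  · rwa [mul_one] at h5
  · rcases (hz.dvd_mul).1 h5 with h6 | h6
    · exact absurd (by rw [uu_two]; exact h6) h2
    · exact absurd (by rw [uu_one]; exact h6) h1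

theorem Lv.not_dvd (hq : 2 ≤ q) {p k m e : ℕ} (hm : k + (k + 0) = m + 1) (h : Lv p q k 0 1 e) (hz : z.Prime)
    (h1 : ∀ i, 1 ≤ i → i ≤ m → ¬ z ∣ uu q i) : ¬ z ∣ X p e := by
  obtain ⟨t, -, h⟩ := h.spec hq hm
  intro h2
  refine not_dvd_PP hz 0 m (fun i h3 h4 => h1 i (by omega) h4) ?_
  rw [← h, mul_one]
  exact Dvd.dvd.mul_right h2 _

end Cfsg.Agent.H7.Eight.UnNum
end

-- part: H7/Eight/UnMain
section
/-!
# S4899: `PSU_n(q)`, `n ≥ 5`, has at least eight character degrees (helper7)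

`eight_un` : `n ≥ 8` or `q ≥ 3`.
-/

set_option autoImplicit false
set_option linter.unusedSectionVars false

open scoped ComplexConjugate
open Cfsg

namespace Cfsg.Agent.H7.Eight.UnMain

open Cfsg.Agent.Characters Module Cfsg.Agent.H53.HC Cfsg.Agent.H477.HC Cfsg.Agent.H477.HC.CForm Cfsg.Agent.H749.Two
open Cfsg.Agent.H7.Eight.UnFrame Cfsg.Agent.H7.Eight.UnSum Cfsg.Agent.H7.Eight.UnSt Cfsg.Agent.H7.Eight.UnDown
open Cfsg.Agent.H7.Eight.UnVan Cfsg.Agent.H7.Eight.UnDegs Cfsg.Agent.H7.Eight.UnSix Cfsg.Agent.H7.Eight.UnNum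
open Cfsg.Agent.H113.PSU.Levi Cfsg.Agent.H113.PSU.Facts Cfsg.Agent.H113.PSU.Descent
open Cfsg.Agent.H664.Eight

universe u

/-- the eight degrees -/
theorem core {S : Type u} [Group S] [Finite S] {p st f g a b c d : ℕ} (hp : p.Prime) (mst : st ∈ charDegrees S)
    (mf : f ∈ charDegrees S) (mg : g ∈ charDegrees S) (ma : a ∈ charDegrees S) (mb : b ∈ charDegrees S)
    (mc : c ∈ charDegrees S) (md : d ∈ charDegrees S) (hst : X p st = 1) (hst1 : st ≠ 1) (hf : 1 < X p f)
    (hg : 1 < X p g) (hfg : f ≠ g) (ha : X p f < X p a ∧ X p g < X p a) (hb : X p f < X p b ∧ X p g < X p b)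
    (hc : X p f < X p c ∧ X p g < X p c) (hd : X p f < X p d ∧ X p g < X p d)
    (hab : a ≠ b) (hac : a ≠ c) (had : a ≠ d) (hbc : b ≠ c) (hbd : b ≠ d) (hcd : c ≠ d) : Eight S := by
  have h1 := X_one hp
  have key : ∀ {x y : ℕ}, X p x < X p y → x ≠ y := by
    rintro x y h rfl
    exact lt_irrefl _ h
  refine eight_of_list [1, st, f, g, a, b, c, d] ?_ (by simp) ?_
  · have e1 : ∀ {y : ℕ}, 1 < X p y → 1 ≠ y := fun h => key (by rw [h1]; exact h)
    have e2 : ∀ {y : ℕ}, 1 < X p y → st ≠ y := fun h => key (by rw [hst]; exact h)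
    simp only [List.nodup_cons, List.mem_cons, List.not_mem_nil, or_false, not_or, not_false_eq_true, and_true,
      List.nodup_nil]
    exact ⟨⟨hst1.symm, e1 hf, e1 hg, e1 (hf.trans ha.1), e1 (hf.trans hb.1), e1 (hf.trans hc.1), e1 (hf.trans hd.1)⟩,
      ⟨e2 hf, e2 hg, e2 (hf.trans ha.1), e2 (hf.trans hb.1), e2 (hf.trans hc.1), e2 (hf.trans hd.1)⟩,
      ⟨hfg, key ha.1, key hb.1, key hc.1, key hd.1⟩, ⟨key ha.2, key hb.2, key hc.2, key hd.2⟩,
      ⟨hab, hac, had⟩, ⟨hbc, hbd⟩, hcd⟩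
  · intro x hx
    simp only [List.mem_cons, List.not_mem_nil, or_false] at hx
    rcases hx with rfl | rfl | rfl | rfl | rfl | rfl | rfl | rfl
    · exact _root_.Cfsg.Agent.H664.Eight.one_mem
    all_goals assumption

variable {F : Type u} [Field F] [Fintype F] {q p : ℕ}

theorem XD (hq : Nat.card F = q ^ 2) [hp : Fact p.Prime] [CharP F p] (hpq : p ∣ q) {k : ℕ} (hk : 0 < k) (n : ℕ) :
    X p (dg (hermF F hq (k + (k + n))) k) * (q ^ (2 * k) - 1) = PP q n (k + (k + n)) := by
  obtain ⟨a, b, h⟩ := dg_eq (p := p) hq hk n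
  have hq2 := two_le_of_card hq
  have h1 := congrArg (X p) h
  rw [X_mul, X_mul, X_mul, X_pow hp.out, X_pow hp.out, one_mul, one_mul,
    X_self (not_dvd_sub hp.out hpq hq2 (by omega))] at h1
  rw [h1]
  exact X_self (not_dvd_PP hp.out _ _ fun i hi _ => not_dvd_uu hp.out hpq hq2 (by omega))

theorem D_ne (hq : Nat.card F = q ^ 2) (p : ℕ) [hp : Fact p.Prime] [CharP F p] {k : ℕ} (hk : 0 < k) (n : ℕ) :
    dg (hermF F hq (k + (k + n))) k ≠ 0 := by
  intro h0
  obtain ⟨a, b, h⟩ := dg_eq (p := p) hq hk n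
  have h1 : 0 < p ^ b * ∏ i ∈ Finset.Ico n (k + (k + n)), uu q (i + 1) :=
    Nat.mul_pos (pow_pos hp.out.pos _) (PP_pos (two_le_of_card hq) n _)
  rw [← h, h0, zero_mul, mul_zero] at h1
  exact lt_irrefl _ h1

theorem lv_of (hq : Nat.card F = q ^ 2) [hp : Fact p.Prime] [CharP F p] (hpq : p ∣ q) {k : ℕ} (hk : 0 < k) (n : ℕ)
    {e t w : ℕ} (h : e * t = dg (hermF F hq (k + (k + n))) k * w) (ht : t ∣ q + 1) : Lv p q k n (X p w) e := by
  refine ⟨t, ht, ?_⟩
  have h1 := congrArg (X p) h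
  rw [X_mul, X_mul, X_self (not_dvd_t hp.out hpq ht)] at h1
  rw [h1, ← XD hq hpq hk n]
  ring

/-- `e` and `e p^m` -/
theorem ne_pow (hp : p.Prime) (hpq : p ∣ q) {D e t e' t' m : ℕ} (hD : D ≠ 0) (hm : 0 < m) (h : e * t = D)
    (h' : e' * t' = D * p ^ m) (ht' : t' ∣ q + 1) : e ≠ e' := by
  rintro rfl
  have h1 : e * t' = e * (t * p ^ m) := by rw [h', ← h, mul_assoc]
  have h2 : e ≠ 0 := by
    rintro rfl
    rw [zero_mul] at h
    exact hD h.symm
  have h3 := Nat.eq_of_mul_eq_mul_left (Nat.pos_of_ne_zero h2) h1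
  refine not_dvd_t hp hpq ht' ?_
  rw [h3]
  exact Dvd.dvd.mul_left (dvd_pow_self p hm.ne') _

/-- the Steinberg degree -/
theorem exists_st (hF : Fintype.card F = q ^ 2) [hp : Fact p.Prime] [CharP F p] (hpq : p ∣ q) {n : ℕ} (hn : 5 ≤ n) :
    ∃ st, st ∈ charDegrees (PSU n F q) ∧ X p st = 1 ∧ st ≠ 1 := by
  obtain ⟨χ, hχ, h1, -⟩ := H167.StChar.HasSt.of_hasRGD (Nodes.WittInst.hasRGD_PSU hF (p := p) (N := n) (by omega))
  refine ⟨_, ⟨⟨χ, hχ⟩, H670.PSing.charDegree_eq_of h1⟩, X_pow hp.out _, ?_⟩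
  have h2 := Cfsg.Agent.S0280.result hF n (by omega)
  have h3 : p ∣ Nat.card (PSU n F q) := by
    have h4 : p ∣ Nat.gcd n (q + 1) * ((q + 1) * Nat.card (PSU n F q)) := by
      rw [h2]
      refine Dvd.dvd.mul_right (hpq.trans (dvd_pow_self q ?_)) _
      have : 2 ≤ n * (n - 1) := by
        calc 2 ≤ 5 * 1 := by norm_num
          _ ≤ n * (n - 1) := Nat.mul_le_mul hn (by omega)
      omega
    rcases (hp.out.dvd_mul).1 h4 with h5 | h5
    · exact absurd h5 (not_dvd_t hp.out hpq (Nat.gcd_dvd_right _ _))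
    · rcases (hp.out.dvd_mul).1 h5 with h6 | h6
      · exact absurd h6 (not_dvd_t hp.out hpq (dvd_refl _))
      · exact h6
  have h5 : Nat.card (PSU n F q) ≠ 0 := Nat.card_pos.ne'
  have h6 := (hp.out.dvd_iff_one_le_factorization h5).1 h3
  intro h7
  have h8 : 1 < p ^ (Nat.card (PSU n F q)).factorization p := Nat.one_lt_pow (by omega) hp.out.one_lt
  omega

/-- the two rank 3 degrees -/
theorem exists_fg (hF : Fintype.card F = q ^ 2) [hp : Fact p.Prime] {r : ℕ} (hr : q = p ^ r) (hpq : p ∣ q) (n : ℕ) :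
    ∃ f g, f ∈ charDegrees (PSU (n + 4) F q) ∧ g ∈ charDegrees (PSU (n + 4) F q) ∧ Fg p q (n + 4) (n + 1) f ∧
      Fg p q (n + 3) (n + 2) g ∧ f ≠ g := by
  obtain ⟨φ, hφ⟩ := exF (F := F) hF (n := n + 4) (by omega)
  obtain ⟨ψ, hψ⟩ := exG (F := F) hF (n := n + 4) (by omega)
  have hq2 := LieClassical.HermBasic.two_le hF
  have e1 : n + 4 - 3 = n + 1 := by omega
  have e2 : n + 4 - 1 = n + 3 := by omega
  have e3 : n + 4 - 2 = n + 2 := by omega
  rw [e1] at hφ
  rw [e2, e3] at hψ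
  obtain ⟨f, hf⟩ : ∃ f, charDegree (φ : PSU (n + 4) F q → ℂ) = f := ⟨_, rfl⟩
  obtain ⟨g, hg⟩ : ∃ g, charDegree (ψ : PSU (n + 4) F q → ℂ) = g := ⟨_, rfl⟩
  have hu : ∀ i, 1 ≤ i → ¬ p ∣ uu q i := fun i hi => not_dvd_uu hp.out hpq hq2 hi
  have h2 : ¬ p ∣ q ^ 2 - 1 := not_dvd_sub hp.out hpq hq2 (by norm_num)
  have h3 : ¬ p ∣ q + 1 := not_dvd_t hp.out hpq (dvd_refl _)
  have hXq : ∀ j, X p (q ^ j) = 1 := fun j => by rw [hr, ← pow_mul, X_pow hp.out]
  rw [hf] at hφ
  rw [hg] at hψ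
  refine ⟨f, g, ⟨φ, hf⟩, ⟨ψ, hg⟩, ?_, ?_, ?_⟩
  · have h4 := congrArg (X p) hφ
    rw [X_mul, X_mul, X_mul, X_mul, X_self h2, X_self h3, hXq, X_self (hu _ (by omega)), X_self (hu _ (by omega)),
      one_mul] at h4
    unfold Fg
    rw [← h4]
    ring
  · have h4 := congrArg (X p) hψ
    rw [X_mul, X_mul, X_mul, X_mul, X_self h2, X_self h3, hXq, X_self (hu _ (by omega)), X_self (hu _ (by omega)),
      one_mul] at h4
    unfold Fg
    rw [← h4]
    ring
  · rintro rfl
    rw [hφ] at hψ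
    have h4 : q ^ 2 * (uu q (n + 4) * uu q (n + 1)) = q ^ 2 * (q * (uu q (n + 3) * uu q (n + 2))) := by
      rw [← mul_assoc, hψ]; ring
    have h5 := Nat.eq_of_mul_eq_mul_left (by positivity) h4
    have h6 : p ∣ uu q (n + 4) * uu q (n + 1) := by
      rw [h5]
      exact Dvd.dvd.mul_right hpq _
    rcases (hp.out.dvd_mul).1 h6 with h7 | h7
    · exact hu _ (by omega) h7
    · exact hu _ (by omega) h7

/-- the number of isotropic points of the 3-dimensional space -/
theorem card_pt_three (hq : Nat.card F = q ^ 2) [hp : Fact p.Prime] [CharP F p] (hpq : p ∣ q) {m : ℕ} (hm0 : 0 < m)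
    (hm : Nat.card (hermF F hq (1 + (1 + 1))).Pt = p ^ m + 1) : p ^ m + 1 = q ^ 3 + 1 := by
  have hq2 := two_le_of_card hq
  have h1 := XD hq hpq (k := 1) one_pos 1
  have h2 : dg (hermF F hq (1 + (1 + 1))) 1 = p ^ m + 1 := by
    rw [Cfsg.Agent.H113.Two.HcOne.dg_one, ← hm]
    rfl
  have h3 : ¬ p ∣ p ^ m + 1 := by
    intro h
    have h4 := (Nat.dvd_add_right (dvd_pow_self p hm0.ne')).1 h
    exact hp.out.one_lt.ne' (Nat.dvd_one.1 h4)
  rw [h2, X_self h3, PP_bot (by norm_num), PP_bot (by norm_num), PP_self, mul_one] at h1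
  have h4 : uu q (1 + 1) = q ^ 2 - 1 := uu_two
  have h5 : uu q (1 + 1 + 1) = q ^ 3 + 1 := uu_three
  rw [h4, h5, mul_one, mul_comm (q ^ 2 - 1)] at h1
  exact Nat.eq_of_mul_eq_mul_right (by rw [← uu_two]; exact uu_pos hq2 (by norm_num)) h1

section lvl

variable (hF : Fintype.card F = q ^ 2) (hq : Nat.card F = q ^ 2)

include hF hq

theorem dvd_of_MM {N t : ℕ} (hN : 1 ≤ N) (ht : t ∣ (MM N F q).index) : t ∣ q + 1 := ht.trans (index_MM hF hN)

/-- level `k ≥ 2` -/
theorem lvl_one [hp : Fact p.Prime] [CharP F p] (hpq : p ∣ q) {N k n : ℕ} (hk : 2 ≤ k) (h : k + (k + n) = N) :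
    ∃ e, e ∈ charDegrees (PSU N F q) ∧ Lv p q k n 1 e := by
  subst h
  obtain ⟨e, t, he, h1, ht⟩ := dg_one hF hq hk n
  refine ⟨e, he, ?_⟩
  have h2 := lv_of hq hpq (k := k) (by omega) n (e := e) (t := t) (w := 1) (by rw [h1, mul_one])
    (dvd_of_MM hF hq (by omega) ht)
  rwa [X_one hp.out] at h2

/-- two degrees of level `k ≥ 2` -/
theorem lvl_two [hp : Fact p.Prime] [CharP F p] (hpq : p ∣ q) {N k n : ℕ} (hk : 2 ≤ k) (hn : n ≤ 1)
    (h : k + (k + (1 + (1 + n))) = N) :
    ∃ e e', e ∈ charDegrees (PSU N F q) ∧ e' ∈ charDegrees (PSU N F q) ∧ Lv p q k (1 + (1 + n)) 1 e ∧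
      Lv p q k (1 + (1 + n)) 1 e' ∧ e ≠ e' := by
  subst h
  obtain ⟨e, t, he, h1, ht⟩ := dg_one hF hq hk (1 + (1 + n))
  obtain ⟨m, hm0, e', t', he', h1', ht'⟩ := dg_st (p := p) hF hq hk hn
  have ht := dvd_of_MM hF hq (by omega) ht
  have ht' := dvd_of_MM hF hq (by omega) ht'
  refine ⟨e, e', he, he', ?_, ?_, ne_pow hp.out hpq (D_ne hq p (by omega) _) hm0 h1 h1' ht'⟩
  · have h2 := lv_of hq hpq (k := k) (by omega) _ (e := e) (t := t) (w := 1) (by rw [h1, mul_one]) ht
    rwa [X_one hp.out] at h2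
  · have h2 := lv_of hq hpq (k := k) (by omega) _ (e := e') (t := t') (w := p ^ m) h1' ht'
    rwa [X_pow hp.out] at h2

/-- level 1 -/
theorem lvl_pt [hp : Fact p.Prime] [CharP F p] (hpq : p ∣ q) {N n : ℕ} (hn : 1 ≤ n) (h : 1 + (1 + n) = N)
    (h3 : 4 ≤ q ∨ (q = 3 ∧ Odd (1 + (1 + n)))) :
    ∃ e, e ∈ charDegrees (PSU N F q) ∧ Lv p q 1 n 1 e := by
  subst h
  obtain ⟨e, t, he, h1, ht⟩ := dg_pt hF hq hn h3
  refine ⟨e, he, ?_⟩
  have h2 := lv_of hq hpq (k := 1) (by omega) n (e := e) (t := t) (w := 1) (by rw [h1, mul_one])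
    (dvd_of_MM hF hq (by omega) ht)
  rwa [X_one hp.out] at h2

/-- three degrees of level 1 in dimension 5 -/
theorem lvl_five [hp : Fact p.Prime] [CharP F p] (hpq : p ∣ q) (h3 : 3 ≤ q) :
    ∃ e e' e'', e ∈ charDegrees (PSU 5 F q) ∧ e' ∈ charDegrees (PSU 5 F q) ∧ e'' ∈ charDegrees (PSU 5 F q) ∧
      Lv p q 1 3 1 e ∧ Lv p q 1 3 1 e' ∧ Lv p q 1 3 (q ^ 3 + 1) e'' ∧ e ≠ e' ∧ e ≠ e'' ∧ e' ≠ e'' := by
  have hq2 := two_le_of_card hq
  obtain ⟨e, t, he, h1, ht⟩ := dg_pt hF hq (n := 1 + (1 + 1)) (by norm_num) (by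
    rcases Nat.lt_or_ge q 4 with h4 | h4
    · exact Or.inr ⟨by omega, by decide⟩
    · exact Or.inl h4)
  obtain ⟨m, hm0, e', t', he', h1', ht'⟩ := dg_pt_st (p := p) hF hq h3
  obtain ⟨m', hm0', hcard, e'', t'', he'', h1'', ht''⟩ := dg_pt_hc (p := p) hF hq h3
  rw [card_pt_three hq hpq hm0' hcard] at h1''
  have ht := dvd_of_MM hF hq (by norm_num) ht
  have ht' := dvd_of_MM hF hq (by norm_num) ht'
  have ht'' := dvd_of_MM hF hq (by norm_num) ht''
  have hq3 : ¬ p ∣ q ^ 3 + 1 := by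
    rw [← uu_three]
    exact not_dvd_uu hp.out hpq hq2 (by norm_num)
  have l1 : Lv p q 1 3 1 e := by
    have h2 := lv_of hq hpq (k := 1) (by omega) _ (e := e) (t := t) (w := 1) (by rw [h1, mul_one]) ht
    rwa [X_one hp.out] at h2
  have l2 : Lv p q 1 3 1 e' := by
    have h2 := lv_of hq hpq (k := 1) (by omega) _ (e := e') (t := t') (w := p ^ m) h1' ht'
    rwa [X_pow hp.out] at h2
  have l3 : Lv p q 1 3 (q ^ 3 + 1) e'' := by
    have h2 := lv_of hq hpq (k := 1) (by omega) _ (e := e'') (t := t'') (w := q ^ 3 + 1) h1'' ht''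
    rwa [X_self hq3] at h2
  have l4 : ∀ {y}, Lv p q 1 3 1 y → X p y < X p e'' := by
    rintro y ⟨s, hs, h4⟩
    obtain ⟨s', hs', h5⟩ := l3
    refine lt_gen h4 h5 (Nat.pos_of_dvd_of_pos hs (by omega)) (Nat.le_of_dvd (by omega) hs') ?_
    have h6 : 0 < q ^ (2 * 1) - 1 := by
      rw [mul_one, ← uu_two]; exact uu_pos hq2 (by norm_num)
    have h7 : q + 1 < q ^ 3 + 1 := by
      have : q ^ 1 < q ^ 3 := Nat.pow_lt_pow_right (by omega) (by norm_num)
      rw [pow_one] at this
      omega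
    have h8 := PP_pos hq2 3 (1 + (1 + 3))
    calc (q + 1) * (q ^ (2 * 1) - 1) * (PP q 3 (1 + (1 + 3)) * 1)
        = (q + 1) * ((q ^ (2 * 1) - 1) * PP q 3 (1 + (1 + 3))) := by ring
      _ < (q ^ 3 + 1) * ((q ^ (2 * 1) - 1) * PP q 3 (1 + (1 + 3))) :=
          Nat.mul_lt_mul_of_pos_right h7 (by (clear * - h6 h8; positivity))
      _ = _ := by ring
  refine ⟨e, e', e'', he, he', he'', l1, l2, l3, ne_pow hp.out hpq (D_ne hq p (by omega) _) hm0 h1 h1' ht', ?_, ?_⟩
  · rintro rfl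
    exact lt_irrefl _ (l4 l1)
  · rintro rfl
    exact lt_irrefl _ (l4 l2)

/-- the index for `n = 6`, `q = 3` -/
theorem index_six (h3 : q = 3) {t : ℕ} (ht : t ∣ (MM 6 F q).index) : t ≤ 2 := by
  classical
  subst h3
  have h1 := index_MM (n := 6) hF (by norm_num)
  have h2 : (MM 6 F 3).index ≠ 4 := by
    intro h4
    have h5 := Subgroup.relIndex_mul_index (H := NN 6 F 3) (K := MM 6 F 3) le_sup_left
    rw [index_NN hF (by norm_num), h4] at h5
    have h6 : (NN 6 F 3).relIndex (MM 6 F 3) = 1 := by omega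
    have h7 := Subgroup.relIndex_eq_one.1 h6
    obtain ⟨g, hg⟩ := exists_gen hq
    obtain ⟨ζ, hζ⟩ : ∃ ζ : Fˣ, ζ = g ^ 2 := ⟨_, rfl⟩
    have hζ4 : ζ ^ (3 + 1) = 1 := by
      rw [hζ, ← pow_mul, hg]
    have hζ6 : ζ ^ 6 ≠ 1 := by
      intro h
      rw [hζ, ← pow_mul, hg] at h
      revert h
      decide
    have hmul : ∀ v : Fin 6 → F, ((Matrix.GeneralLinearGroup.scalar (Fin 6) ζ : GL (Fin 6) F) :
        Matrix (Fin 6) (Fin 6) F).mulVec v = (ζ : F) • v := by
      intro v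
      rw [Matrix.GeneralLinearGroup.coe_scalar, Matrix.scalar_apply, ← Matrix.smul_one_eq_diagonal,
        Matrix.smul_mulVec, Matrix.one_mulVec]
    have hmem : (Matrix.GeneralLinearGroup.scalar (Fin 6) ζ : GL (Fin 6) F) ∈ GU 6 F 3 := by
      rw [LieClassical.HermBasic.mem_GU_iff]
      intro u v
      rw [hmul, hmul]
      unfold hermForm
      refine Finset.sum_congr rfl fun i _ => ?_
      have h8 : ((ζ : F)) ^ (3 + 1) = 1 := by
        rw [← Units.val_pow_eq_pow_val, hζ4, Units.val_one]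
      rw [Pi.smul_apply, Pi.smul_apply, smul_eq_mul, smul_eq_mul, mul_pow]
      calc (ζ : F) * u i * ((ζ : F) ^ 3 * v i ^ 3) = (ζ : F) ^ (3 + 1) * (u i * v i ^ 3) := by ring
        _ = _ := by rw [h8, one_mul]
    have h8 : (⟨_, hmem⟩ : GU 6 F 3) ∈ NN 6 F 3 :=
      h7 ((le_sup_right : Subgroup.center (GU 6 F 3) ≤ MM 6 F 3) (scalar_center (c := (ζ : F)) hmul))
    have h9 : Matrix.GeneralLinearGroup.det (Matrix.GeneralLinearGroup.scalar (Fin 6) ζ : GL (Fin 6) F) = 1 := h8
    have h10 := congrArg (Units.val) h9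
    rw [Matrix.GeneralLinearGroup.val_det_apply, Matrix.GeneralLinearGroup.coe_scalar, Matrix.scalar_apply,
      Matrix.det_diagonal, Finset.prod_const, Finset.card_univ, Fintype.card_fin] at h10
    apply hζ6
    apply Units.ext
    rw [Units.val_pow_eq_pow_val]
    exact h10
  obtain ⟨i, hi⟩ : ∃ i, (MM 6 F 3).index = i := ⟨_, rfl⟩
  rw [hi] at h1 h2 ht
  have h4 := Nat.le_of_dvd (by norm_num) h1
  have h5 : i ≠ 0 := by
    rintro rfl
    omega
  have h6 := Nat.le_of_dvd (Nat.pos_of_ne_zero h5) ht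
  have h7 : i ≠ 3 := by
    rintro rfl
    omega
  omega

/-- three degrees of level 2 in dimension 6 over the field with 9 elements -/
theorem lvl_six [hp : Fact p.Prime] [CharP F p] (hpq : p ∣ q) (h3 : q = 3) :
    ∃ e e' e'', e ∈ charDegrees (PSU 6 F q) ∧ e' ∈ charDegrees (PSU 6 F q) ∧ e'' ∈ charDegrees (PSU 6 F q) ∧
      Lv p q 2 2 1 e ∧ Lv p q 2 2 1 e' ∧ (∃ w, 1 ≤ w ∧ Lv p q 2 2 w e'') ∧ e ≠ e' ∧ e ≠ e'' ∧ e' ≠ e'' := by
  obtain ⟨e, t, he, h1, ht⟩ := dg_one hF hq (k := 2) (le_refl _) (1 + (1 + 0))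
  obtain ⟨m, hm0, e', t', he', h1', ht'⟩ := dg_st (p := p) hF hq (k := 2) (le_refl _) (n := 0) (by norm_num)
  obtain ⟨m', hm0', e'', t'', he'', h1'', ht''⟩ := dg_six (p := p) hF hq h3
  have hD := D_ne hq p (k := 2) (by norm_num) (1 + (1 + 0))
  obtain ⟨D, hDD⟩ : ∃ D, dg (hermF F hq (2 + (2 + (1 + (1 + 0))))) 2 = D := ⟨_, rfl⟩
  have ht2 : t'' ≤ 2 := index_six hF hq h3 ht''
  have hd := dvd_of_MM hF hq (by norm_num) ht
  have hd' := dvd_of_MM hF hq (by norm_num) ht'
  have hd'' := dvd_of_MM hF hq (by norm_num) ht''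
  have l1 : Lv p q 2 2 1 e := by
    have h2 := lv_of hq hpq (k := 2) (by omega) _ (e := e) (t := t) (w := 1) (by rw [h1, mul_one]) hd
    rwa [X_one hp.out] at h2
  have l2 : Lv p q 2 2 1 e' := by
    have h2 := lv_of hq hpq (k := 2) (by omega) _ (e := e') (t := t') (w := p ^ m) h1' hd'
    rwa [X_pow hp.out] at h2
  have l3 : Lv p q 2 2 (X p (p ^ m' + 1)) e'' :=
    lv_of hq hpq (k := 2) (by omega) _ (e := e'') (t := t'') (w := p ^ m' + 1) h1'' hd''
  rw [hDD] at hD h1 h1' h1''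
  refine ⟨e, e', e'', he, he', he'', l1, l2, ⟨_, X_pos (Nat.succ_ne_zero _), l3⟩,
    ne_pow hp.out hpq hD hm0 h1 h1' hd', ?_, ?_⟩
  · rintro rfl
    have h4 : e * t'' = e * (t * (p ^ m' + 1)) := by rw [h1'', ← h1, mul_assoc]
    have h5 : e ≠ 0 := by
      rintro rfl
      rw [zero_mul] at h1
      exact hD h1.symm
    have h6 := Nat.eq_of_mul_eq_mul_left (Nat.pos_of_ne_zero h5) h4
    have h7 : 0 < t := Nat.pos_of_dvd_of_pos hd (by omega)
    have h8 : p ^ m' + 1 ≤ t * (p ^ m' + 1) := Nat.le_mul_of_pos_left _ h7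
    have h9 : p ^ 1 ≤ p ^ m' := Nat.pow_le_pow_right hp.out.pos hm0'
    have h10 := hp.out.two_le
    rw [pow_one] at h9
    omega
  · rintro rfl
    have h4 : D * (p ^ m * t'') = D * ((p ^ m' + 1) * t') := by
      calc D * (p ^ m * t'') = e' * t' * t'' := by rw [h1']; ring
        _ = e' * t'' * t' := by ring
        _ = _ := by rw [h1'']; ring
    have h5 := Nat.eq_of_mul_eq_mul_left (Nat.pos_of_ne_zero hD) h4
    have h6 : p ∣ (p ^ m' + 1) * t' := by
      rw [← h5]
      exact Dvd.dvd.mul_right (dvd_pow_self p hm0.ne') _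
    rcases (hp.out.dvd_mul).1 h6 with h7 | h7
    · have h8 := (Nat.dvd_add_right (dvd_pow_self p hm0'.ne')).1 h7
      exact hp.out.one_lt.ne' (Nat.dvd_one.1 h8)
    · exact not_dvd_t hp.out hpq hd' h7

end lvl

theorem ne_X {p a b : ℕ} (h : X p a < X p b) : a ≠ b := by
  rintro rfl
  exact lt_irrefl _ h

theorem ne_z {p a b z : ℕ} (h : z ∣ X p a) (h' : ¬ z ∣ X p b) : a ≠ b := by
  rintro rfl
  exact h' h

/-- **at least eight degrees** -/
theorem eight_un (hF : Fintype.card F = q ^ 2) {n : ℕ} (hn : 5 ≤ n) (h : 8 ≤ n ∨ 3 ≤ q) : Eight (PSU n F q) := by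
  obtain ⟨p, r, hp, hc, hr, hr0⟩ := LieClassical.HermBasic.exists_prime_pow hF
  have hpF : Fact p.Prime := ⟨hp⟩
  have hpq : p ∣ q := by rw [hr]; exact dvd_pow_self p hr0.ne'
  have hq2 := LieClassical.HermBasic.two_le hF
  have hq : Nat.card F = q ^ 2 := by rw [Nat.card_eq_fintype_card, hF]
  obtain ⟨m, rfl⟩ : ∃ m, n = m + 4 := ⟨n - 4, by omega⟩
  obtain ⟨st, mst, hst, hst1⟩ := exists_st hF hpq (n := m + 4) hn
  obtain ⟨f, g, mf, mg, hf, hg, hfg⟩ := exists_fg hF hr hpq m
  have hf1 : 1 < X p f := hf.one_lt hq2 (by omega) (by omega)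
  have hg1 : 1 < X p g := hg.one_lt hq2 (by omega) (by omega)
  have h11 : (1 : ℕ) ≤ 1 := le_refl _
  have hcase : 7 ≤ m ∨ m = 6 ∨ m = 5 ∨ m = 4 ∨ m = 3 ∨ m = 2 ∨ m = 1 := by omega
  rcases hcase with hm | rfl | rfl | rfl | rfl | rfl | rfl
  · -- `n ≥ 11`
    obtain ⟨k, rfl⟩ : ∃ k, m = k + 1 + 2 + 2 + 2 := ⟨m - 7, by omega⟩
    obtain ⟨a, ma, la⟩ := lvl_one hF hq hpq (N := k + 1 + 2 + 2 + 2 + 4) (k := 2) (n := k + 1 + 2 + 2 + 2)
      (by norm_num) (by omega)
    obtain ⟨b, mb, lb⟩ := lvl_one hF hq hpq (N := k + 1 + 2 + 2 + 2 + 4) (k := 3) (n := k + 1 + 2 + 2)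
      (by norm_num) (by omega)
    obtain ⟨c, mc, lc⟩ := lvl_one hF hq hpq (N := k + 1 + 2 + 2 + 2 + 4) (k := 4) (n := k + 1 + 2)
      (by norm_num) (by omega)
    obtain ⟨d, md, ld⟩ := lvl_one hF hq hpq (N := k + 1 + 2 + 2 + 2 + 4) (k := 5) (n := k + 1)
      (by norm_num) (by omega)
    have haf := la.two_f hq2 (by omega) h11 hf
    have hag := la.two_g hq2 (by omega) h11 hg
    have hab := Lv.step hq2 (by norm_num) (by omega) h11 la lb
    have hbc := Lv.step hq2 (by norm_num) (by omega) h11 lb lc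
    have hcd := Lv.step hq2 (by norm_num) (by omega) h11 lc ld
    exact core hp mst mf mg ma mb mc md hst hst1 hf1 hg1 hfg ⟨haf, hag⟩ ⟨haf.trans hab, hag.trans hab⟩
      ⟨haf.trans (hab.trans hbc), hag.trans (hab.trans hbc)⟩
      ⟨haf.trans (hab.trans (hbc.trans hcd)), hag.trans (hab.trans (hbc.trans hcd))⟩
      (ne_X hab) (ne_X (hab.trans hbc)) (ne_X (hab.trans (hbc.trans hcd))) (ne_X hbc) (ne_X (hbc.trans hcd)) (ne_X hcd)
  · -- `n = 10`
    obtain ⟨a, ma, la⟩ := lvl_one hF hq hpq (N := 6 + 4) (k := 2) (n := 4 + 2) (by norm_num) (by omega)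
    obtain ⟨b, mb, lb⟩ := lvl_one hF hq hpq (N := 6 + 4) (k := 3) (n := 2 + 2) (by norm_num) (by omega)
    obtain ⟨c, d, mc, md, lc, ld, hcd⟩ := lvl_two hF hq hpq (N := 6 + 4) (k := 4) (n := 0) (by norm_num)
      (by norm_num) (by omega)
    have haf := la.two_f hq2 (by omega) h11 hf
    have hag := la.two_g hq2 (by omega) h11 hg
    have hab := Lv.step hq2 (by norm_num) (by omega) h11 la lb
    have hbc := Lv.step hq2 (n := 2) (by norm_num) (by omega) h11 lb lc
    have hbd := Lv.step hq2 (n := 2) (by norm_num) (by omega) h11 lb ld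
    exact core hp mst mf mg ma mb mc md hst hst1 hf1 hg1 hfg ⟨haf, hag⟩ ⟨haf.trans hab, hag.trans hab⟩
      ⟨haf.trans (hab.trans hbc), hag.trans (hab.trans hbc)⟩ ⟨haf.trans (hab.trans hbd), hag.trans (hab.trans hbd)⟩
      (ne_X hab) (ne_X (hab.trans hbc)) (ne_X (hab.trans hbd)) (ne_X hbc) (ne_X hbd) hcd
  · -- `n = 9`
    obtain ⟨a, ma, la⟩ := lvl_one hF hq hpq (N := 5 + 4) (k := 2) (n := 3 + 2) (by norm_num) (by omega)
    obtain ⟨b, c, mb, mc, lb, lc, hbc⟩ := lvl_two hF hq hpq (N := 5 + 4) (k := 3) (n := 1) (by norm_num)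
      (by norm_num) (by omega)
    obtain ⟨d, md, ld⟩ := lvl_one hF hq hpq (N := 5 + 4) (k := 4) (n := 1) (by norm_num) (by omega)
    have haf := la.two_f hq2 (by omega) h11 hf
    have hag := la.two_g hq2 (by omega) h11 hg
    have hab := Lv.step hq2 (n := 3) (by norm_num) (by omega) h11 la lb
    have hac := Lv.step hq2 (n := 3) (by norm_num) (by omega) h11 la lc
    have hbd := Lv.step hq2 (n := 1) (by norm_num) (by omega) h11 lb ld
    have hcd := Lv.step hq2 (n := 1) (by norm_num) (by omega) h11 lc ld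
    exact core hp mst mf mg ma mb mc md hst hst1 hf1 hg1 hfg ⟨haf, hag⟩ ⟨haf.trans hab, hag.trans hab⟩
      ⟨haf.trans hac, hag.trans hac⟩ ⟨haf.trans (hab.trans hbd), hag.trans (hab.trans hbd)⟩
      (ne_X hab) (ne_X hac) (ne_X (hab.trans hbd)) hbc (ne_X hbd) (ne_X hcd)
  · -- `n = 8`
    obtain ⟨z, hz, hz8, hz7⟩ := exists_eight hq2
    obtain ⟨a, ma, la⟩ := lvl_one hF hq hpq (N := 4 + 4) (k := 2) (n := 2 + 2) (by norm_num) (by omega)
    obtain ⟨b, c, mb, mc, lb, lc, hbc⟩ := lvl_two hF hq hpq (N := 4 + 4) (k := 3) (n := 0) (by norm_num)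
      (by norm_num) (by omega)
    obtain ⟨d, md, ld⟩ := lvl_one hF hq hpq (N := 4 + 4) (k := 4) (n := 0) (by norm_num) (by omega)
    have haf := la.two_f hq2 (by omega) h11 hf
    have hag := la.two_g hq2 (by omega) h11 hg
    have hab := Lv.step hq2 (n := 2) (by norm_num) (by omega) h11 la lb
    have hac := Lv.step hq2 (n := 2) (by norm_num) (by omega) h11 la lc
    have hzd := Lv.not_dvd hq2 (m := 7) (by norm_num) ld hz hz7
    have hz1 := hz7 1 (by norm_num) (by norm_num)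
    have hza := la.dvd hz hz1 (hz7 4 (by norm_num) (by norm_num)) hz8 (by norm_num)
    have hzb := lb.dvd hz hz1 (hz7 6 (by norm_num) (by norm_num)) hz8 (by norm_num)
    have hzc := lc.dvd hz hz1 (hz7 6 (by norm_num) (by norm_num)) hz8 (by norm_num)
    exact core hp mst mf mg ma mb mc md hst hst1 hf1 hg1 hfg ⟨haf, hag⟩ ⟨haf.trans hab, hag.trans hab⟩
      ⟨haf.trans hac, hag.trans hac⟩ ⟨ld.spec_f hq2 (m := 4) (by norm_num) hf, ld.spec_g hq2 (m := 4) (by norm_num) hg⟩
      (ne_X hab) (ne_X hac) (ne_z hza hzd) hbc (ne_z hzb hzd) (ne_z hzc hzd)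
  · -- `n = 7`
    have hq3 : 3 ≤ q := by omega
    obtain ⟨a, ma, la⟩ := lvl_pt hF hq hpq (N := 3 + 4) (n := 3 + 2) (by norm_num) (by omega) (by
      rcases Nat.lt_or_ge q 4 with h4 | h4
      · exact Or.inr ⟨by omega, by decide⟩
      · exact Or.inl h4)
    obtain ⟨b, c, mb, mc, lb, lc, hbc⟩ := lvl_two hF hq hpq (N := 3 + 4) (k := 2) (n := 1) (by norm_num)
      (by norm_num) (by omega)
    obtain ⟨d, md, ld⟩ := lvl_one hF hq hpq (N := 3 + 4) (k := 3) (n := 1) (by norm_num) (by omega)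
    have haf := la.one_f (n := 3) hq2 (by omega) h11 hf
    have hag := la.one_g (n := 3) hq2 h11 hg
    have hab := Lv.step hq2 (n := 3) (by norm_num) (by omega) h11 la lb
    have hac := Lv.step hq2 (n := 3) (by norm_num) (by omega) h11 la lc
    have hbd := Lv.step hq2 (n := 1) (by norm_num) (by omega) h11 lb ld
    have hcd := Lv.step hq2 (n := 1) (by norm_num) (by omega) h11 lc ld
    exact core hp mst mf mg ma mb mc md hst hst1 hf1 hg1 hfg ⟨haf, hag⟩ ⟨haf.trans hab, hag.trans hab⟩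
      ⟨haf.trans hac, hag.trans hac⟩ ⟨haf.trans (hab.trans hbd), hag.trans (hab.trans hbd)⟩
      (ne_X hab) (ne_X hac) (ne_X (hab.trans hbd)) hbc (ne_X hbd) (ne_X hcd)
  · -- `n = 6`
    have hq3 : 3 ≤ q := by omega
    obtain ⟨z, hz, hz6, hz5⟩ := exists_six hq2
    obtain ⟨d, md, ld⟩ := lvl_one hF hq hpq (N := 2 + 4) (k := 3) (n := 0) (by norm_num) (by omega)
    have hzd := Lv.not_dvd hq2 (m := 5) (by norm_num) ld hz hz5
    have hz1 := hz5 1 (by norm_num) (by norm_num)
    have hz2 := hz5 2 (by norm_num) (by norm_num)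
    have hz4 := hz5 4 (by norm_num) (by norm_num)
    have hdf := ld.spec_f hq2 (m := 2) (by norm_num) hf
    have hdg := ld.spec_g hq2 (m := 2) (by norm_num) hg
    rcases Nat.lt_or_ge q 4 with h4 | h4
    · obtain ⟨a, b, c, ma, mb, mc, la, lb, ⟨w, hw, lc⟩, hab, hac, hbc⟩ := lvl_six hF hq hpq (by omega)
      have hza := la.dvd hz hz1 hz4 hz6 (by norm_num)
      have hzb := lb.dvd hz hz1 hz4 hz6 (by norm_num)
      have hzc := lc.dvd hz hz1 hz4 hz6 (by norm_num)
      exact core hp mst mf mg ma mb mc md hst hst1 hf1 hg1 hfg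
        ⟨la.two_f hq2 (by omega) h11 hf, la.two_g hq2 (by omega) h11 hg⟩
        ⟨lb.two_f hq2 (by omega) h11 hf, lb.two_g hq2 (by omega) h11 hg⟩
        ⟨lc.two_f hq2 (by omega) hw hf, lc.two_g hq2 (by omega) hw hg⟩ ⟨hdf, hdg⟩
        hab hac (ne_z hza hzd) hbc (ne_z hzb hzd) (ne_z hzc hzd)
    · obtain ⟨a, ma, la⟩ := lvl_pt hF hq hpq (N := 2 + 4) (n := 2 + 2) (by norm_num) (by omega) (Or.inl h4)
      obtain ⟨b, c, mb, mc, lb, lc, hbc⟩ := lvl_two hF hq hpq (N := 2 + 4) (k := 2) (n := 0) (by norm_num)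
        (by norm_num) (by omega)
      have haf := la.one_f (n := 2) hq2 (by omega) h11 hf
      have hag := la.one_g (n := 2) hq2 h11 hg
      have hab := Lv.step hq2 (n := 2) (by norm_num) (by omega) h11 la lb
      have hac := Lv.step hq2 (n := 2) (by norm_num) (by omega) h11 la lc
      have hza := la.dvd hz hz1 hz2 hz6 (by norm_num)
      have hzb := lb.dvd hz hz1 hz4 hz6 (by norm_num)
      have hzc := lc.dvd hz hz1 hz4 hz6 (by norm_num)
      exact core hp mst mf mg ma mb mc md hst hst1 hf1 hg1 hfg ⟨haf, hag⟩ ⟨haf.trans hab, hag.trans hab⟩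
        ⟨haf.trans hac, hag.trans hac⟩ ⟨hdf, hdg⟩
        (ne_X hab) (ne_X hac) (ne_z hza hzd) hbc (ne_z hzb hzd) (ne_z hzc hzd)
  · -- `n = 5`
    have hq3 : 3 ≤ q := by omega
    obtain ⟨a, b, c, ma, mb, mc, la, lb, lc, hab, hac, hbc⟩ := lvl_five hF hq hpq hq3
    obtain ⟨d, md, ld⟩ := lvl_one hF hq hpq (N := 1 + 4) (k := 2) (n := 1) (by norm_num) (by omega)
    have haf := la.one_f (n := 1) hq2 (by omega) h11 hf
    have hag := la.one_g (n := 1) hq2 h11 hg
    have hbf := lb.one_f (n := 1) hq2 (by omega) h11 hf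
    have hbg := lb.one_g (n := 1) hq2 h11 hg
    have hw : 1 ≤ q ^ 3 + 1 := by omega
    have hcf := lc.one_f (n := 1) hq2 (by omega) hw hf
    have hcg := lc.one_g (n := 1) hq2 hw hg
    have had := Lv.step hq2 (n := 1) (by norm_num) (by omega) h11 la ld
    have hbd := Lv.step hq2 (n := 1) (by norm_num) (by omega) h11 lb ld
    refine core hp mst mf mg ma mb mc md hst hst1 hf1 hg1 hfg ⟨haf, hag⟩ ⟨hbf, hbg⟩
      ⟨hcf, hcg⟩ ⟨haf.trans had, hag.trans had⟩ hab hac (ne_X had) hbc (ne_X hbd) ?_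
    rintro rfl
    obtain ⟨t, ht, h1⟩ := lc
    obtain ⟨s, hs, h2⟩ := ld
    have e1 : PP q 3 (1 + (1 + 3)) = uu q 4 * uu q 5 := by
      rw [PP_bot (by norm_num), PP_bot (by norm_num), PP_self, mul_one]
    have e2 : PP q 1 (2 + (2 + 1)) = uu q 2 * (uu q 3 * (uu q 4 * uu q 5)) := by
      rw [PP_bot (by norm_num), PP_bot (by norm_num), PP_bot (by norm_num), PP_bot (by norm_num), PP_self, mul_one]
    rw [e1, mul_one, ← uu_two] at h1
    rw [e2, four_eq hq2, mul_one, ← uu_two, uu_three] at h2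
    obtain ⟨x, hx⟩ : ∃ x, X p c = x := ⟨_, rfl⟩
    rw [hx] at h1 h2
    have hY := uu_pos hq2 (i := 2) (by norm_num)
    have hx0 : 0 < x := by rw [← hx]; omega
    have h3 : (x * uu q 2) * (s * (q ^ 2 + 1)) = (x * uu q 2) * (t * uu q 2) := by
      calc (x * uu q 2) * (s * (q ^ 2 + 1)) = x * s * (uu q 2 * (q ^ 2 + 1)) := by ring
        _ = uu q 2 * (uu q 4 * uu q 5 * (q ^ 3 + 1)) := by rw [h2]; ring
        _ = uu q 2 * (x * t * uu q 2) := by rw [h1]
        _ = _ := by ring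
    have h4 := Nat.eq_of_mul_eq_mul_left (Nat.mul_pos hx0 hY) h3
    have h5 : uu q 2 + 2 = q ^ 2 + 1 := by
      rw [uu_two]
      have : 1 ≤ q ^ 2 := Nat.one_le_pow _ _ (by omega)
      omega
    have h6 := Nat.le_of_dvd (by omega) ht
    have h7 : 0 < s := Nat.pos_of_dvd_of_pos hs (by omega)
    rw [← h5] at h4
    obtain ⟨Y, hYY⟩ : ∃ Y, uu q 2 = Y := ⟨_, rfl⟩
    rw [hYY] at h4 h5 hY
    have h8 : s < t := by
      by_contra h9
      have h9 : t ≤ s := not_lt.1 h9
      have h10 : t * Y ≤ s * Y := Nat.mul_le_mul_right _ h9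
      have h11 : s * (Y + 2) = s * Y + 2 * s := by ring
      omega
    obtain ⟨v, rfl⟩ : ∃ v, t = s + 1 + v := ⟨t - s - 1, by omega⟩
    have h9 : q * 3 ≤ q ^ 2 := by rw [pow_two]; exact Nat.mul_le_mul_left _ hq3
    have h10 : (s + 1 + v) * Y = s * Y + Y + v * Y := by ring
    have h11 : s * (Y + 2) = s * Y + 2 * s := by ring
    have h12 : 0 ≤ v * Y := Nat.zero_le _
    (clear * - hq3 h5 h6 h4 h9 h10 h11; omega)

end Cfsg.Agent.H7.Eight.UnMain
end
end

-- part: H733/Eight/FillB2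
section
prune_inst 0x10001100020000000000120000000c0000000000800080200804000000020900000000000000100200000001000002000000400000000a000400000001208880500032000004040089000000410000000000000000000000000000000000004010000
set_option linter.all false
open scoped Cfsg.Agent.FastGrp

-- part: H362/Eight/SpRow
section
/-!
# S4899: the degrees of `PSp_{2m}(q)`, `m ≥ 3`: the small cases (helper362)

`eight_eight_two` (`m = 4`, `q = 2`), `eight_eight_three`, `eight_six_five`, `eight_six_three`;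
`eight_sp'` : all `m ≥ 3` except `m = 3`, `q = 2`.
-/

set_option autoImplicit false
set_option linter.unusedSectionVars false

open Cfsg

namespace Cfsg.Agent.H362.Eight

open Cfsg.Agent.H477.HC Module Cfsg.Agent.H53.HC Cfsg.Agent.Characters Cfsg.Agent.H362.Dl Cfsg.Agent.H664.Eight
open Cfsg.Agent.H996.Eight.Interval

universe u v

variable (K : Type u) [Field K] [Finite K]

theorem simple_psp {m : ℕ} (hm : 3 ≤ m) : IsSimpleGroup (PSp m K) := by
  let _ := Fintype.ofFinite K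
  exact S0270.result m (by omega) (by omega)

/-- **`PSp_8(2)`** -/
theorem eight_eight_two (h : Nat.card K = 2) : Eight (PSp 4 K) := by
  have := finite_psp' K 4
  have := simple_psp K (m := 4) (by norm_num)
  obtain ⟨f, g, hf, hg, -, -, -, h4, h5⟩ := exists_fg K (m := 4) (by norm_num)
  have hd3 := dg_sp K (m := 4) (k := 3) (by norm_num) (by norm_num)
  have hd4 := dg_sp K (m := 4) (k := 4) le_rfl (by norm_num)
  have m3 := dg_mem K (m := 4) (k := 3) (by norm_num) (by norm_num) (fun _ => le_rfl) (fun _ => le_rfl) (fun _ => by norm_num)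
  have m4 := dg_mem K (m := 4) (k := 4) (by norm_num) le_rfl (fun _ => by norm_num) (fun _ => by norm_num) (fun _ => by norm_num)
  have mst := st_mem K (m := 4) (by norm_num)
  have m5 := mul_mem K (k := 3) (n := 1) (by norm_num) (fun _ => le_rfl) (fun _ => le_rfl) (fun _ => by norm_num)
    (st_mem K (m := 1) le_rfl)
  rw [h] at h4 h5 hd3 hd4 mst m5
  norm_num only [Finset.prod_range_succ] at h4 h5 hd3 hd4 mst m5
  have e1 : f = 135 := by omega
  have e2 : g = 119 := by omega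
  have e3 : dg (CForm.spF K 4) 3 = 34425 := by omega
  have e4 : dg (CForm.spF K 4) 4 = 48195 := by omega
  rw [e1] at hf
  rw [e2] at hg
  rw [e3] at m3 m5
  rw [e4] at m4
  obtain ⟨e, he, he1, he2⟩ := _root_.Cfsg.Agent.H996.Eight.Interval.exists_between (Small.of_mem hg (by norm_num)) (X := 135) (D := 34425) (by norm_num) m3 (by norm_num)
  refine eight_of_list [1, 119, 135, e, 34425, 48195, 65536, 68850] ?_ le_rfl ?_
  · simp only [List.nodup_cons, List.mem_cons, List.not_mem_nil, or_false, not_or, List.nodup_nil, not_false_eq_true, and_true]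
    omega
  · intro d hd
    simp only [List.mem_cons, List.not_mem_nil, or_false] at hd
    rcases hd with rfl | rfl | rfl | rfl | rfl | rfl | rfl | rfl
    exacts [_root_.Cfsg.Agent.H664.Eight.one_mem, hg, hf, he, m3, m4, mst, m5]

/-- **`PSp_8(3)`** -/
theorem eight_eight_three (h : Nat.card K = 3) : Eight (PSp 4 K) := by
  have := finite_psp' K 4
  have := simple_psp K (m := 4) (by norm_num)
  obtain ⟨f, g, hf, hg, -, -, -, h4, h5⟩ := exists_fg K (m := 4) (by norm_num)
  have hd3 := dg_sp K (m := 4) (k := 3) (by norm_num) (by norm_num)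
  have hd4 := dg_sp K (m := 4) (k := 4) le_rfl (by norm_num)
  have m3 := dg_mem K (m := 4) (k := 3) (by norm_num) (by norm_num) (fun _ => le_rfl) (fun _ => le_rfl) (fun _ => by norm_num)
  have m4 := dg_mem K (m := 4) (k := 4) (by norm_num) le_rfl (fun _ => by norm_num) (fun _ => by norm_num) (fun _ => by norm_num)
  have mst := st_mem K (m := 4) (by norm_num)
  have m5 := mul_mem K (k := 3) (n := 1) (by norm_num) (fun _ => le_rfl) (fun _ => le_rfl) (fun _ => by norm_num)
    (st_mem K (m := 1) le_rfl)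
  rw [h] at h4 h5 hd3 hd4 mst m5
  norm_num only [Finset.prod_range_succ] at h4 h5 hd3 hd4 mst m5
  have e1 : f = 1680 := by omega
  have e2 : g = 1599 := by omega
  have e3 : dg (CForm.spF K 4) 3 = 14694400 := by omega
  have e4 : dg (CForm.spF K 4) 4 = 38205440 := by omega
  rw [e1] at hf
  rw [e2] at hg
  rw [e3] at m3 m5
  rw [e4] at m4
  obtain ⟨e, he, he1, he2⟩ := _root_.Cfsg.Agent.H996.Eight.Interval.exists_between (Small.of_mem hg (by norm_num)) (X := 1680) (D := 14694400) (by norm_num) m3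
    (by norm_num)
  refine eight_of_list [1, 1599, 1680, e, 14694400, 38205440, 43046721, 44083200] ?_ le_rfl ?_
  · simp only [List.nodup_cons, List.mem_cons, List.not_mem_nil, or_false, not_or, List.nodup_nil, not_false_eq_true, and_true]
    omega
  · intro d hd
    simp only [List.mem_cons, List.not_mem_nil, or_false] at hd
    rcases hd with rfl | rfl | rfl | rfl | rfl | rfl | rfl | rfl
    exacts [_root_.Cfsg.Agent.H664.Eight.one_mem, hg, hf, he, m3, m4, mst, m5]

/-! ### `PSp_6(3)` -/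

theorem odd_central {G : Type v} [Group G] [Finite G] (hG : commutator G = ⊤) {n : ℕ} (hn : Odd n)
    (ρ : Representation ℂ G (Fin n → ℂ)) (hρ : ρ.IsIrreducible) {z : G} (hz : z ∈ Subgroup.center G) (hz2 : z * z = 1) :
    ρ z = 1 := by
  obtain ⟨l, hl⟩ := Central.exists_smul_of_comm (ρ := ρ) hρ (ρ z) fun g => by
    rw [← map_mul, ← map_mul, Subgroup.mem_center_iff.1 hz g]
  let f : G →* ℂˣ := MonoidHom.toHomUnits ((LinearMap.det : ((Fin n → ℂ) →ₗ[ℂ] (Fin n → ℂ)) →* ℂ).comp ρ)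
  have hf : f z = 1 := by
    have h1 : z ∈ commutator G := hG ▸ Subgroup.mem_top z
    exact (Abelianization.commutator_subset_ker f) h1
  have h2 : LinearMap.det (ρ z) = 1 := by
    have := congrArg (Units.val) hf
    exact this
  rw [hl, LinearMap.det_smul, Module.finrank_fin_fun, map_one, mul_one] at h2
  have h3 : l * l = 1 := by
    have h4 : ρ z * ρ z = 1 := by rw [← map_mul, hz2, map_one]
    rw [hl, smul_mul_smul_comm, mul_one] at h4
    have h5 := congrArg (LinearMap.det) h4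
    have h6 : (1 : (Fin n → ℂ) →ₗ[ℂ] (Fin n → ℂ)) ≠ 0 := by
      intro h7
      obtain ⟨k, hk⟩ := hn
      have h8 := congrFun (LinearMap.congr_fun h7 (Pi.single ⟨0, by omega⟩ 1)) ⟨0, by omega⟩
      rw [Module.End.one_apply, Pi.single_eq_same] at h8
      exact one_ne_zero h8
    have h7 : (l * l) • (1 : (Fin n → ℂ) →ₗ[ℂ] (Fin n → ℂ)) = (1 : ℂ) • (1 : (Fin n → ℂ) →ₗ[ℂ] (Fin n → ℂ)) := by
      rw [h4, one_smul]
    exact smul_left_injective ℂ h6 h7
  obtain ⟨k, hk⟩ := hn
  rw [hk, pow_succ, pow_mul, pow_two, h3, one_pow, one_mul] at h2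
  rw [hl, h2, one_smul]

theorem thirteen_mem (h : Nat.card K = 3) : 13 ∈ charDegrees (PSp 3 K) := by
  classical
  let _ := Fintype.ofFinite K
  have hc : Fintype.card K = 3 := by rw [← Nat.card_eq_fintype_card, h]
  obtain ⟨ρ, hρ⟩ := (S2347.result (F := K) 3 (by norm_num) (by rw [hc]; decide)).2
  have hn : (Fintype.card K ^ 3 - 1) / 2 = 13 := by rw [hc]; norm_num
  have hχ : IsIrrCharacter _ ρ.character := Core.isIrrCharacter_of_rep ρ hρ
  have h1 : ρ.character 1 = (13 : ℕ) := by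
    rw [Representation.char_one, Module.finrank_fin_fun, hn]
  obtain ⟨η, hη, hη'⟩ := exists_quot (Subgroup.center (Matrix.symplecticGroup (Fin 3) K)) hχ fun z hz => by
    have hz2 : z * z = 1 := by
      rcases Cfsg.Agent.ClassicalGeometry.SympInvolutions.center_eq hz with h4 | h4
      · have : z = 1 := Subtype.ext h4
        rw [this, one_mul]
      · apply Subtype.ext
        change (z : Matrix (Fin 3 ⊕ Fin 3) (Fin 3 ⊕ Fin 3) K) * _ = 1
        rw [h4, neg_mul_neg, one_mul]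
    have h5 := odd_central (S0269.result 3 (Or.inl le_rfl)) (by rw [hn]; decide) ρ hρ hz hz2
    change LinearMap.trace ℂ _ (ρ z) = LinearMap.trace ℂ _ (ρ 1)
    rw [h5, map_one ρ]
  refine mem_cd hη ?_
  rw [← h1, ← hη']
  rfl

theorem exists_st (h : Nat.card K = 3) : ∃ t : ℕ, 0 < t ∧ 7280 * t ∈ charDegrees (PSp 3 K) := by
  classical
  have hd2 := dg_sp K (m := 3) (k := 2) (by norm_num) (by norm_num)
  rw [h] at hd2
  norm_num [Finset.prod_range_succ] at hd2
  obtain ⟨c, hc⟩ := exists_cus (K := K) 2 (by norm_num) 1 one_ne_zero (fun i hi hi' => by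
      obtain rfl : i = 1 := by omega
      rw [h]; norm_num) (fun i hi => by
      rw [h]
      interval_cases i <;> norm_num)
  obtain ⟨ψ₀, hψ, hψ'⟩ := exists_psi K (n := 1) one_pos (two_ne_zero_three K h) hc.irr
  obtain ⟨χ₃, hχ₃, hχ₃'⟩ := psp_char_hc K (n := 1) (k := 2) (by norm_num) hc hψ (fun z' hz' => by
    rw [eq_negOne K hz']; exact hψ')
  have := finite_iso (CForm.spF K 1)
  obtain ⟨t, ht0, ht⟩ := Core.isIrr_apply_one hψ
  have hd2' : dg (CForm.spF K 3) 2 = 7280 := by omega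
  have hd2'' : dg (CForm.spF K (2 + 1)) 2 = 7280 := hd2'
  rw [hd2'', ht] at hχ₃'
  exact ⟨t, ht0, mem_cd hχ₃ (by rw [hχ₃', Nat.cast_mul])⟩

/-- **`PSp_6(3)`** -/
theorem eight_six_three (h : Nat.card K = 3) : Eight (PSp 3 K) := by
  have := finite_psp' K 3
  have := simple_psp K (m := 3) le_rfl
  obtain ⟨f, g, hf, hg, -, -, -, h4, h5⟩ := exists_fg K (m := 3) (by norm_num)
  have hd3 := dg_sp K (m := 3) (k := 3) le_rfl (by norm_num)
  have m3 := dg_mem K (m := 3) (k := 3) (by norm_num) (by norm_num) (fun _ => le_rfl) (fun _ => le_rfl) (fun _ => by norm_num)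
  have mst := st_mem K (m := 3) (by norm_num)
  have m13 := thirteen_mem K h
  obtain ⟨t, ht0, mt⟩ := exists_st K h
  rw [h] at h4 h5 hd3 mst
  norm_num only [Finset.prod_range_succ] at h4 h5 hd3 mst
  have e1 : f = 195 := by omega
  have e2 : g = 168 := by omega
  have e3 : dg (CForm.spF K 3) 3 = 17920 := by omega
  rw [e1] at hf
  rw [e2] at hg
  rw [e3] at m3
  obtain ⟨e, he, he1, he2⟩ := _root_.Cfsg.Agent.H996.Eight.Interval.exists_between (Small.of_mem m13 (by norm_num)) (X := 195) (D := 17920) (by norm_num) m3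
    (by norm_num)
  refine eight_of_list [1, 13, 168, 195, e, 7280 * t, 17920, 19683] ?_ le_rfl ?_
  · simp only [List.nodup_cons, List.mem_cons, List.not_mem_nil, or_false, not_or, List.nodup_nil, not_false_eq_true, and_true]
    omega
  · intro d hd
    simp only [List.mem_cons, List.not_mem_nil, or_false] at hd
    rcases hd with rfl | rfl | rfl | rfl | rfl | rfl | rfl | rfl
    exacts [_root_.Cfsg.Agent.H664.Eight.one_mem, m13, hg, hf, he, mt, m3, mst]

/-! ### `PSp_6(5)` -/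

theorem card_psp_one (h : Nat.card K = 5) : Nat.card (PSp 1 K) = 60 := by
  let _ := Fintype.ofFinite K
  have hc : Fintype.card K = 5 := by rw [← Nat.card_eq_fintype_card, h]
  have h1 := S0245.result (F := K) hc 1
  have h2 := S0246.result (F := K) hc 1 (by norm_num)
  have h3 := Subgroup.card_mul_index (Subgroup.center (Matrix.symplecticGroup (Fin 1) K))
  rw [h1, h2] at h3
  have h4 : (Subgroup.center (Matrix.symplecticGroup (Fin 1) K)).index = Nat.card (PSp 1 K) := rfl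
  rw [h4] at h3
  simp only [Finset.prod_range_succ, Finset.prod_range_zero] at h3
  norm_num at h3
  omega

/-- a degree of `A_5` different from `1` and `5` -/
theorem exists_deg_five (h : Nat.card K = 5) : ∃ d ∈ charDegrees (PSp 1 K), 1 < d ∧ d ≠ 5 := by
  classical
  have := finite_psp' K 1
  let _ := Fintype.ofFinite K
  have hc : Fintype.card K = 5 := by rw [← Nat.card_eq_fintype_card, h]
  have hperf : commutator (PSp 1 K) = ⊤ := by
    have h1 := S0269.result (F := K) 1 (Or.inr (Or.inr (by omega)))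
    have h2 := Subgroup.map_commutator (⊤ : Subgroup (Matrix.symplecticGroup (Fin 1) K)) ⊤
      (QuotientGroup.mk' (Subgroup.center (Matrix.symplecticGroup (Fin 1) K)))
    have h3 := Subgroup.map_top_of_surjective (QuotientGroup.mk' (Subgroup.center (Matrix.symplecticGroup (Fin 1) K)))
      (QuotientGroup.mk'_surjective _)
    rw [h3] at h2
    change Subgroup.map _ (commutator (Matrix.symplecticGroup (Fin 1) K)) = _ at h2
    rw [h1, h3] at h2
    exact h2.symm
  have := Core.finite_irr (G := PSp 1 K)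
  have := Fintype.ofFinite (IrrCharacter (PSp 1 K))
  by_contra hcon
  push Not at hcon
  have hdeg : ∀ χ : IrrCharacter (PSp 1 K), χ ≠ ⟨1, Core.isIrr_one⟩ → (χ : PSp 1 K → ℂ) 1 = 5 := by
    intro χ hχ
    obtain ⟨n, hn0, hn⟩ := Core.isIrr_apply_one χ.2
    by_cases hn1 : n = 1
    · exfalso
      rw [hn1, Nat.cast_one] at hn
      obtain ⟨f, hf⟩ := Linear.exists_hom_of_isIrrCharacter χ.2 hn
      apply hχ
      apply Subtype.ext
      funext g
      have h3 : g ∈ commutator (PSp 1 K) := hperf ▸ Subgroup.mem_top g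
      have h4 : f g = 1 := (Abelianization.commutator_subset_ker f) h3
      have h5 := congrFun hf g
      rw [h5]
      simp [h4]
    · have h3 := hcon n (mem_cd χ.2 hn) (by omega)
      rw [hn, h3]; norm_num
  have hs := CharDeep.PowerDegrees.sum_sq (G := PSp 1 K)
  rw [card_psp_one K h, ← Finset.add_sum_erase _ _ (Finset.mem_univ (⟨1, Core.isIrr_one⟩ : IrrCharacter (PSp 1 K))),
    Finset.sum_congr rfl (fun χ hχ => by rw [hdeg χ (Finset.ne_of_mem_erase hχ)]), Finset.sum_const,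
    nsmul_eq_mul] at hs
  change (1 : ℂ) ^ 2 + _ = _ at hs
  have h6 : 1 + ((Finset.univ.erase (⟨1, Core.isIrr_one⟩ : IrrCharacter (PSp 1 K))).card) * 25 = 60 := by
    have : ((1 + ((Finset.univ.erase (⟨1, Core.isIrr_one⟩ : IrrCharacter (PSp 1 K))).card) * 25 : ℕ) : ℂ) = (60 : ℕ) := by
      rw [← hs]
      push_cast
      ring
    exact_mod_cast this
  omega

/-- **`PSp_6(5)`** -/
theorem eight_six_five (h : Nat.card K = 5) : Eight (PSp 3 K) := by
  classical
  obtain ⟨d, hd, hd1, hd5⟩ := exists_deg_five K h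
  have m1 := mul_mem K (k := 2) (n := 1) (by norm_num) (fun h' => by omega) (fun h' => by omega) (fun _ => le_rfl) hd
  have m2 := mul_mem K (k := 2) (n := 1) (by norm_num) (fun h' => by omega) (fun h' => by omega) (fun _ => le_rfl)
    (st_mem K (m := 1) le_rfl)
  have m3 := dg_mem K (m := 3) (k := 2) (by norm_num) (by norm_num) (fun h' => by omega) (fun h' => by omega) (fun _ => le_rfl)
  have m4 := dg_mem K (m := 3) (k := 3) (by norm_num) (by norm_num) (fun h' => by omega) (fun h' => by omega)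
    (fun _ => by norm_num)
  rw [h, one_pow, pow_one] at m2
  have hpos := dg_pos K (m := 3) (k := 2) (by norm_num) (by norm_num)
  have hlt := dg_lt K (m := 3) (k := 1) (l := 2) one_pos (by norm_num) (by norm_num) (by norm_num only [_root_.IsEmpty.forall_iff])
  have hlt' := dg_lt K (m := 3) (k := 2) (l := 3) (by norm_num) (by norm_num) (by norm_num) (by norm_num only [_root_.IsEmpty.forall_iff])
  have hne1 := extra_ne K (m := 3) (k := 3) (d := d) le_rfl (by norm_num) le_rfl hd1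
  have hne2 := extra_ne K (m := 3) (k := 3) (d := 5) le_rfl (by norm_num) le_rfl (by norm_num)
  change dg (CForm.spF K 3) 2 * d ≠ _ at hne1
  change dg (CForm.spF K 3) 2 * 5 ≠ _ at hne2
  change dg (CForm.spF K 3) 2 * d ∈ charDegrees (PSp 3 K) at m1
  change dg (CForm.spF K 3) 2 * 5 ∈ charDegrees (PSp 3 K) at m2
  have s1 := dg_ne_st K (m := 3) (k := 2) (by norm_num) (by norm_num) d
  have s2 := dg_ne_st K (m := 3) (k := 2) (by norm_num) (by norm_num) 5
  have s3 := dg_ne_st K (m := 3) (k := 2) (by norm_num) (by norm_num) 1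
  have s4 := dg_ne_st K (m := 3) (k := 3) (by norm_num) (by norm_num) 1
  rw [mul_one] at s3 s4
  have hx : dg (CForm.spF K 3) 2 * 1 < dg (CForm.spF K 3) 2 * d := Nat.mul_lt_mul_of_pos_left hd1 hpos
  have hy : dg (CForm.spF K 3) 2 * d ≠ dg (CForm.spF K 3) 2 * 5 := fun h' => hd5 (Nat.eq_of_mul_eq_mul_left hpos h')
  refine eight_of_four K (m := 3) (by norm_num)
    {dg (CForm.spF K 3) 2, dg (CForm.spF K 3) 3, dg (CForm.spF K 3) 2 * 5, dg (CForm.spF K 3) 2 * d} ?_ ?_
  · intro e he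
    simp only [Finset.mem_insert, Finset.mem_singleton] at he
    rcases he with rfl | rfl | rfl | rfl
    · exact ⟨m3, by omega, s3⟩
    · exact ⟨m4, by omega, s4⟩
    · exact ⟨m2, by omega, s2⟩
    · exact ⟨m1, by omega, s1⟩
  · rw [Finset.card_insert_of_notMem, Finset.card_insert_of_notMem, Finset.card_insert_of_notMem, Finset.card_singleton]
    · simp only [Finset.mem_singleton]
      exact fun h' => hy h'.symm
    · simp only [Finset.mem_insert, Finset.mem_singleton]
      exact fun h' => h'.elim (fun h' => hne2 h'.symm) (fun h' => hne1 h'.symm)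
    · simp only [Finset.mem_insert, Finset.mem_singleton]
      omega

/-- **all cases but `PSp_6(2)`** -/
theorem eight_sp' {m : ℕ} (hm : 3 ≤ m) (h : ¬ (m = 3 ∧ Nat.card K = 2)) : Eight (PSp m K) := by
  have hq : 1 < Nat.card K := Finite.one_lt_card
  have key : ∀ a, 0 < a → (Nat.card K = 2 → 3 ≤ a) → (Nat.card K = 3 → 3 ≤ a) → (Nat.card K = 5 → 2 ≤ a) → a + 2 ≤ m →
      Eight (PSp m K) := by
    intro a ha h2 h3 h5 ham
    obtain ⟨k, rfl⟩ : ∃ k, m = k + 1 := ⟨m - 1, by omega⟩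
    have m1 := mul_mem K (k := k) (n := 1) (by omega) (fun h' => by have := h2 h'; omega) (fun h' => by have := h3 h'; omega)
      (fun h' => by have := h5 h'; omega) (st_mem K (m := 1) le_rfl)
    rw [one_pow, pow_one] at m1
    exact eight_gen_one K hm ha h2 h3 h5 ham hq m1
  by_cases h2 : Nat.card K = 2
  · rcases (by omega : m = 4 ∨ 5 ≤ m) with rfl | hm5
    · exact eight_eight_two K h2
    · exact key 3 (by norm_num) (fun _ => le_rfl) (fun _ => le_rfl) (fun _ => by norm_num) hm5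
  by_cases h3 : Nat.card K = 3
  · rcases (by omega : m = 3 ∨ m = 4 ∨ 5 ≤ m) with rfl | rfl | hm5
    · exact eight_six_three K h3
    · exact eight_eight_three K h3
    · exact key 3 (by norm_num) (fun _ => le_rfl) (fun _ => le_rfl) (fun _ => by norm_num) hm5
  by_cases h5 : Nat.card K = 5
  · rcases (by omega : m = 3 ∨ 4 ≤ m) with rfl | hm4
    · exact eight_six_five K h5
    · exact key 2 (by norm_num) (fun h' => absurd h' h2) (fun h' => absurd h' h3) (fun _ => le_rfl) hm4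
  · exact key 1 one_pos (fun h' => absurd h' h2) (fun h' => absurd h' h3) (fun h' => absurd h' h5) hm

end Cfsg.Agent.H362.Eight
end

-- part: H234/Eight/OmCount
section
/-!
# The degrees `dg (minusF K l) k` (helper234, for S4899)

`card_next` : the number of totally singular vectors extending a totally singular `k`-frame, for any form with a
complement (`H749.Two.Cmp`);
`card_tup_minus`, `dg_minus` : `(q^k - 1) dg = ∏_{i<k} (q^(l-i+1)+1)(q^(l-i)-1)` for `O⁻_{2l+2}(q)`.
-/

set_option autoImplicit false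
set_option linter.unusedSectionVars false

open Cfsg

namespace Cfsg.Agent.H234.Eight

open Cfsg.Agent.H477.HC Module Cfsg.Agent.H53.HC Cfsg.Agent.H362.Dl Cfsg.Agent.H749.Two

universe u v w

section general

variable {K : Type u} [Field K] {V : Type v} [AddCommGroup V] [Module K V] {F : CForm K V}
  {X : Type w} [AddCommGroup X] [Module K X] {F' : CForm K X} {j : X →ₗ[K] V} {W₀ : Submodule K V}

theorem T_zero (F : CForm K V) : F.T 0 = 0 := by
  have := F.T_add 0 0
  rw [add_zero] at this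
  exact left_eq_add.1 this

variable [Finite K] [Finite V] [FiniteDimensional K V] [FiniteDimensional K X]

theorem card_next_std (h : Cmp F F' j W₀) {k : ℕ} (hW₀ : W₀ ∈ F.Om k) {N : ℕ}
    (hN : Nat.card {x : X // F'.Q x = 0} = N + 1) :
    Nat.card {w : V // F.Q w = 0 ∧ w ∈ F.perp W₀ ∧ w ∉ W₀} = Nat.card K ^ k * N := by
  classical
  obtain ⟨r, hr, hrj, hrW⟩ := h.exists_proj
  have hQ : ∀ (u : V) (x : X), u ∈ W₀ → F.Q (u + j x) = F'.Q x := by
    intro u x hu
    rw [F.Q_add, hW₀.1.1 u hu, h.jQ, F.B_eq_zero (h.j1 x u hu), T_zero, zero_add, add_zero]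
  have hX : Nat.card {x : X // F'.Q x = 0 ∧ x ≠ 0} = N := by
    have hf : Finite X := by
      have hjinj : Function.Injective j := fun x y hxy => by rw [← hrj x, ← hrj y, hxy]
      exact Finite.of_injective j hjinj
    have h0 : F'.Q 0 = 0 := by
      have := F'.Q_smul 0 0
      rwa [zero_smul, zero_mul, zero_mul] at this
    have e : Option {x : X // F'.Q x = 0 ∧ x ≠ 0} ≃ {x : X // F'.Q x = 0} :=
      { toFun := fun o => match o with
          | none => ⟨0, h0⟩
          | some x => ⟨x.1, x.2.1⟩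
        invFun := fun x => if hx : x.1 = 0 then none else some ⟨x.1, x.2, hx⟩
        left_inv := fun o => by
          match o with
          | none => simp
          | some x => simp [x.2.2]
        right_inv := fun x => by
          by_cases hx : x.1 = 0
          · apply Subtype.ext
            simp [hx]
          · apply Subtype.ext
            simp [hx] }
    have := Nat.card_congr e
    rw [Finite.card_option, hN] at this
    omega
  have hW : Nat.card W₀ = Nat.card K ^ k := by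
    rw [Module.natCard_eq_pow_finrank (K := K), hW₀.2]
  rw [← hX, ← hW, ← Nat.card_prod]
  refine Nat.card_congr
    { toFun := fun w => (⟨w.1 - j (r w.1), ?_⟩, ⟨r w.1, ?_, ?_⟩)
      invFun := fun p => ⟨(p.1 : V) + j p.2.1, ?_, ?_, ?_⟩
      left_inv := fun w => ?_
      right_inv := fun p => ?_ }
  · obtain ⟨u, hu, x, hx⟩ := h.j2 w.1 w.2.2.1
    rw [hx, map_add, hrW u hu, hrj, zero_add, add_sub_cancel_right]
    exact hu
  · obtain ⟨u, hu, x, hx⟩ := h.j2 w.1 w.2.2.1
    have h1 := w.2.1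
    rw [hx, hQ u x hu] at h1
    rw [hx, map_add, hrW u hu, hrj, zero_add, h1]
  · obtain ⟨u, hu, x, hx⟩ := h.j2 w.1 w.2.2.1
    intro h0
    rw [hx, map_add, hrW u hu, hrj, zero_add] at h0
    apply w.2.2.2
    rw [hx, h0, map_zero, add_zero]
    exact hu
  · rw [hQ _ _ p.1.2, p.2.2.1]
  · exact Submodule.add_mem _ (hW₀.1.le_perp p.1.2) (h.j1 _)
  · intro h1
    have h2 : r (p.1 + j p.2.1) = 0 := hrW _ h1
    rw [map_add, hrW _ p.1.2, hrj, zero_add] at h2
    exact p.2.2.2 h2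
  · apply Subtype.ext
    change w.1 - j (r w.1) + j (r w.1) = w.1
    rw [sub_add_cancel]
  · have h3 : r ((p.1 : V) + j p.2.1) = p.2.1 := by rw [map_add, hrW _ p.1.2, hrj, zero_add]
    refine Prod.ext (Subtype.ext ?_) (Subtype.ext ?_)
    · change (p.1 : V) + j p.2.1 - j (r ((p.1 : V) + j p.2.1)) = p.1
      rw [h3, add_sub_cancel_right]
    · exact h3

/-- **the number of vectors extending a totally singular frame** -/
theorem card_next (h : Cmp F F' j W₀) {k : ℕ} (hW₀ : W₀ ∈ F.Om k) {N : ℕ}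
    (hN : Nat.card {x : X // F'.Q x = 0} = N + 1) {W : Submodule K V} (hW : W ∈ F.Om k) :
    Nat.card {w : V // F.Q w = 0 ∧ w ∈ F.perp W ∧ w ∉ W} = Nat.card K ^ k * N := by
  rw [← card_next_std h hW₀ hN]
  obtain ⟨g, hg⟩ := F.trans_Om hW₀ hW
  have hmem : ∀ w : V, (g : V ≃ₗ[K] V) w ∈ W ↔ w ∈ W₀ := by
    intro w
    rw [← hg]
    constructor
    · rintro ⟨u, hu, hu'⟩
      have : u = w := (g : V ≃ₗ[K] V).injective hu'
      rwa [← this]
    · intro hw
      exact ⟨w, hw, rfl⟩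
  symm
  refine Nat.card_congr (Equiv.subtypeEquiv (g : V ≃ₗ[K] V).toEquiv fun w => ?_)
  change _ ↔ F.Q ((g : V ≃ₗ[K] V) w) = 0 ∧ (g : V ≃ₗ[K] V) w ∈ F.perp W ∧ (g : V ≃ₗ[K] V) w ∉ W
  rw [F.iso_Q, hmem]
  refine and_congr Iff.rfl (and_congr ?_ Iff.rfl)
  constructor
  · intro hw u hu
    rw [← hg] at hu
    obtain ⟨u', hu', rfl⟩ := hu
    exact (F.iso_B g w u').trans (hw u' hu')
  · intro hw u hu
    rw [← F.iso_B g]
    exact hw _ ((hmem u).2 hu)

end general

section minus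

variable (K : Type u) [Field K] [Finite K] {p : ℕ} [Fact p.Prime] [CharP K p] (a b : K)
  (hab : ∀ z₁ z₂ : K, z₁ ^ 2 + a * z₁ * z₂ + b * z₂ ^ 2 = 0 → z₁ = 0 ∧ z₂ = 0)

theorem card_zero_minus (n : ℕ) : Nat.card {x : (Fin n ⊕ Fin n) ⊕ Fin 2 → K // (CForm.minusF K n a b hab).Q x = 0} =
    (Nat.card K ^ (n + 1) + 1) * (Nat.card K ^ n - 1) + 1 := by
  let _ := Fintype.ofFinite K
  have h1 := Cfsg.Agent.S0290.result (F := K) rfl (n + 1) (by omega) a b hab
  rw [Nat.add_sub_cancel, num_minus Fintype.one_lt_card] at h1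
  rw [Nat.card_eq_fintype_card (α := K), mul_comm (_ + 1)]
  exact h1

theorem card_tup_minus {k l : ℕ} (hk : k ≤ l + 1) : Nat.card (Tup (CForm.minusF K l a b hab) k) =
    ∏ i ∈ Finset.range k, (Nat.card K ^ i * ((Nat.card K ^ (l - i + 1) + 1) * (Nat.card K ^ (l - i) - 1))) := by
  classical
  induction k with
  | zero =>
    rw [Finset.prod_range_zero, Nat.card_eq_one_iff_unique]
    exact ⟨⟨fun a b => Subtype.ext (Subsingleton.elim _ _)⟩,
      ⟨⟨Fin.elim0, linearIndependent_empty_type, fun i => i.elim0, fun i => i.elim0⟩⟩⟩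
  | succ k ih =>
    rw [Finset.prod_range_succ, ← ih (by omega)]
    obtain ⟨n, rfl⟩ : ∃ n, l = k + n := ⟨l - k, by omega⟩
    obtain ⟨W₀, hW₀, hc⟩ := minusF_cmp K hab k n
    refine card_tup_succ_of _ k _ fun s => ?_
    rw [Nat.add_sub_cancel_left]
    exact card_next hc hW₀ (card_zero_minus K a b hab n)
      ⟨(CForm.minusF K (k + n) a b hab).TS_span s.2.2.2 s.2.2.1, by rw [finrank_span_eq_card s.2.1, Fintype.card_fin]⟩

theorem card_Om_minus {k l : ℕ} (hk : k ≤ l) : Nat.card ((CForm.minusF K l a b hab).Om k) *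
    ∏ i ∈ Finset.range k, (Nat.card K ^ (i + 1) - 1) =
      ∏ i ∈ Finset.range k, ((Nat.card K ^ (l - i + 1) + 1) * (Nat.card K ^ (l - i) - 1)) := by
  have hq : 1 < Nat.card K := Finite.one_lt_card
  have h1 := card_tup (CForm.minusF K l a b hab) k
  rw [card_tup_minus K a b hab (by omega)] at h1
  have h2 : ∏ i ∈ Finset.range k, (Nat.card K ^ k - Nat.card K ^ i) =
      (∏ i ∈ Finset.range k, Nat.card K ^ i) * ∏ i ∈ Finset.range k, (Nat.card K ^ (i + 1) - 1) := by
    rw [← Finset.prod_range_reflect (fun i => Nat.card K ^ (i + 1) - 1), ← Finset.prod_mul_distrib]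
    refine Finset.prod_congr rfl fun i hi => ?_
    rw [Finset.mem_range] at hi
    rw [Nat.mul_sub, mul_one, ← pow_add]
    congr 2
    omega
  rw [h2, Finset.prod_mul_distrib] at h1
  have h4 : 0 < ∏ i ∈ Finset.range k, Nat.card K ^ i := Finset.prod_pos fun i _ => by positivity
  apply Nat.eq_of_mul_eq_mul_left h4
  rw [h1]
  ring

/-- the Witt index -/
theorem finrank_le_minus {l : ℕ} {W : Submodule K ((Fin l ⊕ Fin l) ⊕ Fin 2 → K)}
    (hW : (CForm.minusF K l a b hab).TS W) : finrank K W ≤ l := by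
  by_contra hlt
  push Not at hlt
  have h1 := card_tup_minus K a b hab (k := l + 1) (l := l) le_rfl
  rw [Finset.prod_range_succ, Nat.sub_self, pow_zero (Nat.card K), Nat.sub_self, mul_zero, mul_zero, mul_zero] at h1
  have hli := (Module.finBasis K W).linearIndependent
  have h2 : (LinearIndependent K (fun i : Fin (l + 1) => ((Module.finBasis K W (Fin.castLE hlt i) : W) :
      (Fin l ⊕ Fin l) ⊕ Fin 2 → K)) :) := by
    have h3 := hli.comp (Fin.castLE hlt) (Fin.castLE_injective hlt)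
    exact h3.map' W.subtype (Submodule.ker_subtype _)
  have hne : Nonempty (Tup (CForm.minusF K l a b hab) (l + 1)) :=
    ⟨⟨_, h2, fun i => hW.1 _ (Subtype.property _), fun i j => hW.2 _ (Subtype.property _) _ (Subtype.property _)⟩⟩
  have h4 : 0 < Nat.card (Tup (CForm.minusF K l a b hab) (l + 1)) := Nat.card_pos
  omega

/-- **the degree** -/
theorem dg_minus {k l : ℕ} (hk : k ≤ l) (hk0 : 0 < k) : (Nat.card K ^ k - 1) * dg (CForm.minusF K l a b hab) k =
    ∏ i ∈ Finset.range k, ((Nat.card K ^ (l - i + 1) + 1) * (Nat.card K ^ (l - i) - 1)) := by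
  rw [← card_Om_minus K a b hab hk]
  unfold dg
  obtain ⟨j, rfl⟩ : ∃ j, k = j + 1 := ⟨k - 1, by omega⟩
  rw [Finset.prod_range_succ, Finset.prod_Ico_eq_prod_range, Nat.add_sub_cancel]
  have h1 : ∏ i ∈ Finset.range j, (Nat.card K ^ (1 + i) - 1) = ∏ i ∈ Finset.range j, (Nat.card K ^ (i + 1) - 1) :=
    Finset.prod_congr rfl fun i _ => by rw [add_comm]
  rw [h1]
  ring

end minus

end Cfsg.Agent.H234.Eight
end

-- part: H234/Eight/OmDeg
section
/-!
# Character degrees of `PΩ⁻_{2l+2}(q)` (helper234, for S4899)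

`De S c d e` : `S` has a character of degree `e` and `d = e t`, `t ∣ c`.
`exists_dg` : `d = dg k`; `exists_qq` : `d = q² dg (l-1)`; `exists_st` : the Steinberg character.
-/

set_option autoImplicit false
set_option linter.unusedSectionVars false

open Cfsg

namespace Cfsg.Agent.H234.Eight

open Cfsg.Agent.H477.HC Module Cfsg.Agent.H53.HC Cfsg.Agent.H362.Dl Cfsg.Agent.H749.Two Cfsg.Agent.H674.Dl
open Cfsg.Agent.Characters MulAction

universe u v w

/-- a degree of `S` below `d` -/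
def De (S : Type*) [Group S] (c d e : ℕ) : Prop := Ch S e ∧ 0 < e ∧ ∃ t, t ∣ c ∧ d = e * t

/-- the bound of the index -/
def cq (q : ℕ) : ℕ := if Odd q then 4 else 2

theorem cq_odd {q : ℕ} (h : Odd q) : cq q = 4 := if_pos h

theorem cq_even {q : ℕ} (h : ¬ Odd q) : cq q = 2 := if_neg h

theorem de_of_iso {ι : Type} [Fintype ι] [DecidableEq ι] {K : Type u} [Field K] [Finite K] (F : CForm K (ι → K))
    (hB : ∀ u v, F.B u v = F.Q (u + v) - F.Q u - F.Q v) {χ : F.iso → ℂ} (hχ : IsIrrCharacter F.iso χ)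
    {d c : ℕ} (hd : χ 1 = d)
    (hcen : ∀ z : Omega K F.Q, z ∈ Subgroup.center (Omega K F.Q) → ∀ z' : F.iso,
      (∀ v, (z' : (ι → K) ≃ₗ[K] (ι → K)) v = (omMat z).mulVec v) → χ z' = χ 1)
    (hidx : (Omega K F.Q).index ∣ c) : ∃ e, De (POmega K F.Q) c d e := by
  have hχ' := Characters.Core.isIrr_comp (isoQuad F hB).toMonoidHom (isoQuad F hB).surjective hχ
  obtain ⟨e, h1, h2, h3, h4⟩ := ch_down (Omega K F.Q) hχ' (d := d)
    (by rw [Function.comp_apply, map_one, hd]) (fun z hz => by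
      rw [Function.comp_apply, Function.comp_apply, map_one]
      exact hcen z hz _ fun v => rfl)
  exact ⟨e, h1, h4, d / e, h3.trans hidx, (Nat.mul_div_cancel' h2).symm⟩

section minus

variable (K : Type u) [Field K] [Finite K] {p : ℕ} [Fact p.Prime] [CharP K p] (a b : K)
  (hab : ∀ z₁ z₂ : K, z₁ ^ 2 + a * z₁ * z₂ + b * z₂ ^ 2 = 0 → z₁ = 0 ∧ z₂ = 0)

include p hab in
theorem idx_cq {l : ℕ} (hl : 3 ≤ l) : (Omega K (quadFormMinus l K a b)).index ∣ cq (Nat.card K) := by
  obtain ⟨h1, h2⟩ := idx_minus K (p := p) hab hl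
  by_cases ho : Odd (Nat.card K)
  · rwa [cq_odd ho]
  · rw [cq_even ho]
    exact h2 ho

include p hab in
/-- for `q = 5`, and `q = 3`, `l` odd, the centre is trivial -/
theorem center_one {l : ℕ} (hl : 3 ≤ l) (h : Nat.card K = 5 ∨ (Nat.card K = 3 ∧ Odd l)) :
    ∀ z : Omega K (quadFormMinus l K a b), z ∈ Subgroup.center (Omega K (quadFormMinus l K a b)) → z = 1 := by
  have ho : Odd (Nat.card K) := by
    rcases h with h | h
    · rw [h]; decide
    · rw [h.1]; decide
  refine center_of_card K (minus_idx_mul K a b hab hl) (minus_idx_four K (p := p) ho a b hab l) ?_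
  rcases h with h | h
  · rw [h]
    have h6 : (5 ^ (l + 1) + 1) % 4 = 2 := by
      rw [Nat.add_mod, Nat.pow_mod]
      norm_num
    rw [Nat.gcd_rec, h6]
    decide
  · rw [h.1]
    exact gcd_even_pow h.2.add_one

/-- the admissible `k` -/
def Adm (q l k : ℕ) : Prop := 3 ≤ k ∨ (2 ≤ k ∧ (4 ≤ q ∨ (q = 3 ∧ Odd l))) ∨ (1 ≤ k ∧ 4 ≤ q)

include p hab in
/-- a cuspidal character trivial on the scalars of the centre -/
theorem exists_cus' {l k : ℕ} (hl : 3 ≤ l) (hk : Adm (Nat.card K) l k) :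
    ∃ (Z : Kˣ → Prop) (c : GL (Fin k) K → ℂ), Cus K k (RingHom.id K) Z c ∧
      ∀ z : Omega K (quadFormMinus l K a b), z ∈ Subgroup.center (Omega K (quadFormMinus l K a b)) →
        ∃ a : Kˣ, Z a ∧ ∀ v, (omMat z).mulVec v = (a : K) • v := by
  have hq : 2 ≤ Nat.card K := Finite.one_lt_card
  by_cases h1 : Nat.card K = 5 ∧ k = 1
  · obtain ⟨h5, rfl⟩ := h1
    obtain ⟨c, hc⟩ := exists_cus_one (K := K) h5 1 (by norm_num) (by norm_num) (by rintro ⟨h, -⟩; omega)
    exact ⟨_, c, hc, fun z hz => scal_one K (center_one K (p := p) a b hab hl (Or.inl h5) z hz)⟩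
  by_cases h2 : Nat.card K = 3 ∧ k = 2
  · obtain ⟨h3, rfl⟩ := h2
    have hlo : Odd l := by
      unfold Adm at hk
      rcases hk with h | ⟨-, h | h⟩ | h
      · omega
      · omega
      · exact h.2
      · omega
    obtain ⟨c, hc⟩ := exists_cus_one (K := K) h3 2 (by norm_num) (by norm_num) (by rintro ⟨h, -⟩; omega)
    exact ⟨_, c, hc, fun z hz => scal_one K (center_one K (p := p) a b hab hl (Or.inr ⟨h3, hlo⟩) z hz)⟩
  have hk0 : 0 < k := by
    unfold Adm at hk
    omega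
  obtain ⟨c, hc⟩ := exists_cus_sq K rfl k hk0 (fun h => by
    unfold Adm at hk
    rcases hk with h' | ⟨-, h' | h'⟩ | h' <;> omega) (fun h => by
    unfold Adm at hk
    rcases hk with h' | ⟨h', h'' | h''⟩ | h' <;> omega) (fun h => by omega)
  exact ⟨_, c, hc, fun z hz => scal_of (cen_minus K (by omega) a b hab z hz)⟩

include p in
/-- **the degrees `dg k`** -/
theorem exists_dg {l k : ℕ} (hl : 3 ≤ l) (hkl : k ≤ l) (hk : Adm (Nat.card K) l k) :
    ∃ e, De (POmega K (quadFormMinus l K a b)) (cq (Nat.card K)) (dg (CForm.minusF K l a b hab) k) e := by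
  obtain ⟨n, rfl⟩ : ∃ n, l = k + n := ⟨l - k, by omega⟩
  obtain ⟨W₀, hW₀, -⟩ := minusF_cmp K hab k n
  obtain ⟨Z, c, hc, hcen⟩ := exists_cus' K (p := p) a b hab hl hk
  obtain ⟨χ, hχ, hχ1, hχz⟩ := exists_char (CForm.minusF K (k + n) a b hab) hW₀ hc
  refine (de_of_iso (CForm.minusF K (k + n) a b hab) (minus_hB K (k + n) a b hab) hχ hχ1 (fun z hz z' hz' => ?_)
    (idx_cq K (p := p) a b hab hl) :)
  obtain ⟨a, ha, h⟩ := hcen z hz
  exact hχz z' a ha fun v => (hz' v).trans (h v)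

/-- two different points of `O⁻_4` are not orthogonal -/
theorem not_perp {x y : (CForm.minusF K 1 a b hab).Pt} (hxy : x ≠ y) : ¬ (CForm.minusF K 1 a b hab).Perp x y := by
  intro h
  have hTS : (CForm.minusF K 1 a b hab).TS (x.1 ⊔ y.1) :=
    (CForm.minusF K 1 a b hab).TS_sup x.2.1 y.2.1 fun u hu v hv => h u hu v hv
  have h1 := finrank_le_minus K a b hab hTS
  have h2 : x.1 = x.1 ⊔ y.1 := Submodule.eq_of_le_of_finrank_le le_sup_left (by rw [x.2.2]; exact h1)
  have h3 : y.1 = x.1 ⊔ y.1 := Submodule.eq_of_le_of_finrank_le le_sup_right (by rw [y.2.2]; exact h1)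
  exact hxy (Subtype.ext (h2.trans h3.symm))

theorem card_pt : Nat.card (CForm.minusF K 1 a b hab).Pt = Nat.card K ^ 2 + 1 := by
  have hq : 2 ≤ Nat.card K := Finite.one_lt_card
  have h1 := card_Om_minus K a b hab (k := 1) (l := 1) le_rfl
  rw [Finset.prod_range_one, Finset.prod_range_one] at h1
  have h2 : 0 < Nat.card K ^ (0 + 1) - 1 := by rw [zero_add, pow_one]; omega
  apply Nat.eq_of_mul_eq_mul_right h2
  rw [show (0 + 1 : ℕ) = 1 - 0 by rfl] at h2 ⊢
  exact h1

/-- the Steinberg character of `O⁻_4` -/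
theorem exists_st_four : ∃ ψ : (CForm.minusF K 1 a b hab).iso → ℂ, IsIrrCharacter _ ψ ∧ ψ 1 = (Nat.card K ^ 2 : ℕ) ∧
    ∀ (z : (CForm.minusF K 1 a b hab).iso) (c : K), c ≠ 0 →
      (∀ x, (z : ((Fin 1 ⊕ Fin 1) ⊕ Fin 2 → K) ≃ₗ[K] ((Fin 1 ⊕ Fin 1) ⊕ Fin 2 → K)) x = c • x) → ψ z = ψ 1 := by
  classical
  have hfin := finite_iso (CForm.minusF K 1 a b hab)
  have hfP : Finite (CForm.minusF K 1 a b hab).Pt := finite_Om (CForm.minusF K 1 a b hab) 1
  have hc := card_pt K a b hab
  have hq : 2 ≤ Nat.card K := Finite.one_lt_card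
  have hc2 : 2 ≤ Nat.card (CForm.minusF K 1 a b hab).Pt := by
    rw [hc]
    nlinarith only [hq]
  have h2 : IsMultiplyPretransitive (CForm.minusF K 1 a b hab).iso (CForm.minusF K 1 a b hab).Pt 2 := by
    rw [is_two_pretransitive_iff]
    intro x y x' y' hxy hxy'
    exact (CForm.minusF K 1 a b hab).trans_opp (not_perp K a b hab hxy) (not_perp K a b hab hxy')
  have h1 : IsPretransitive (CForm.minusF K 1 a b hab).iso (CForm.minusF K 1 a b hab).Pt := by
    rw [← is_one_pretransitive_iff]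
    exact isMultiplyPretransitive_of_le (m := 1) (n := 2) (by norm_num) hc2
  have hone : Nat.card (fixedBy (CForm.minusF K 1 a b hab).Pt (1 : (CForm.minusF K 1 a b hab).iso)) =
      Nat.card (CForm.minusF K 1 a b hab).Pt := by
    have h3 : fixedBy (CForm.minusF K 1 a b hab).Pt (1 : (CForm.minusF K 1 a b hab).iso) = Set.univ := by
      ext x; simp
    rw [h3, Nat.card_coe_set_eq, Set.ncard_univ]
  refine ⟨_, (Cfsg.Agent.S0157.result (CForm.minusF K 1 a b hab).Pt hc2).2 h2, ?_, fun z c hc0 hz => ?_⟩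
  · rw [hone, hc]
    push_cast
    ring
  · have h3 : fixedBy (CForm.minusF K 1 a b hab).Pt z = Set.univ := by
      ext x
      simp only [Set.mem_univ, iff_true, mem_fixedBy]
      obtain ⟨v, h0, hv, rfl⟩ := (CForm.minusF K 1 a b hab).exists_pt x
      rw [CForm.smul_pt, CForm.pt_eq_iff]
      exact ⟨c, hc0, hz v⟩
    simp only [hone]
    rw [h3, Nat.card_coe_set_eq, Set.ncard_univ]

include p in
/-- **the degree `q² dg (l-1)`** -/
theorem exists_qq {l k : ℕ} (hl : 3 ≤ l) (hkl : k + 1 = l) (hk : Adm (Nat.card K) l k) :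
    ∃ e, De (POmega K (quadFormMinus l K a b)) (cq (Nat.card K))
      (dg (CForm.minusF K l a b hab) k * Nat.card K ^ 2) e := by
  subst hkl
  obtain ⟨W₀, hW₀, hcmp⟩ := minusF_cmp K hab k 1
  obtain ⟨Z, c, hc, hcen⟩ := exists_cus' K (p := p) a b hab hl hk
  obtain ⟨ψ, hψ, hψ1, hψz⟩ := exists_st_four K a b hab
  obtain ⟨χ, hχ, hχ1, hχz⟩ := exists_hc hcmp hc hW₀ hψ
    (no_disj (m := k + 1) (fun W hW => finrank_le_minus K a b hab hW) (by omega) hW₀)
  refine de_of_iso (CForm.minusF K (k + 1) a b hab) (minus_hB K (k + 1) a b hab) hχ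
    (by rw [hχ1, hψ1]; push_cast; rfl) (fun z hz z' hz' => ?_) (idx_cq K (p := p) a b hab hl)
  obtain ⟨a', ha, h⟩ := hcen z hz
  refine hχz z' a' (fun v => (hz' v).trans (h v)) fun z'' hz'' => ?_
  rw [hc.scal a' ha, hψz z'' (a' : K) a'.ne_zero hz'']

include p hab in
/-- **the Steinberg character** -/
theorem exists_st {l : ℕ} (hl : 3 ≤ l) : Ch (POmega K (quadFormMinus l K a b)) (Nat.card K ^ (l * (l + 1))) := by
  classical
  have hp : p.Prime := Fact.out
  have : Finite (POmega K (quadFormMinus l K a b)) := Finite.of_surjective _ (QuotientGroup.mk'_surjective _)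
  obtain ⟨χ, hχ, h1, -⟩ := H167.StChar.HasSt.of_hasRGD (Nodes.WittInst.hasRGD_PO_minus (m := l) (p := p) a b hab (by omega))
  refine ⟨χ, hχ, ?_⟩
  rw [h1]
  congr 1
  obtain ⟨s, hs⟩ := card_pow K p
  let _ := Fintype.ofFinite K
  have h2 := Cfsg.Agent.S0294.result (F := K) rfl (l + 1) (by omega) a b hab
  rw [Nat.add_sub_cancel, ← Nat.card_eq_fintype_card (α := K), hs] at h2
  rw [hs, ← pow_mul]
  congr 1
  have hs0 : s ≠ 0 := by
    rintro rfl
    rw [pow_zero] at hs
    have : 2 ≤ Nat.card K := Finite.one_lt_card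
    omega
  -- factors prime to `p`
  have e1 : ∀ n, n ≠ 0 → ¬ p ∣ (p ^ s) ^ n + 1 := by
    intro n hn h
    have h3 : p ∣ (p ^ s) ^ n := dvd_pow (dvd_pow_self p hs0) hn
    exact hp.one_lt.ne' (Nat.dvd_one.1 ((Nat.dvd_add_right h3).1 h))
  have e2 : ∀ n, n ≠ 0 → ¬ p ∣ (p ^ s) ^ n - 1 := by
    intro n hn h
    have h3 : p ∣ (p ^ s) ^ n := dvd_pow (dvd_pow_self p hs0) hn
    have h4 : 1 ≤ (p ^ s) ^ n := Nat.one_le_pow _ _ (pow_pos hp.pos _)
    have h5 := Nat.dvd_sub h3 h
    rw [Nat.sub_sub_self h4] at h5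
    exact hp.one_lt.ne' (Nat.dvd_one.1 h5)
  have e3 : ¬ p ∣ ((p ^ s) ^ (l + 1) + 1) * ∏ i ∈ Finset.range l, ((p ^ s) ^ (2 * (i + 1)) - 1) := by
    rw [hp.dvd_mul, Prime.dvd_finsetProd_iff hp.prime]
    rintro (h | ⟨i, -, h⟩)
    · exact e1 _ (by omega) h
    · exact e2 _ (by omega) h
  have hg : ¬ p ∣ Nat.gcd 4 ((p ^ s) ^ (l + 1) + 1) := fun h => e1 _ (by omega) (h.trans (Nat.gcd_dvd_right _ _))
  have h3 : Nat.factorization _ p = Nat.factorization _ p := congrArg (fun n => Nat.factorization n p) h2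
  have hg0 : Nat.gcd 4 ((p ^ s) ^ (l + 1) + 1) ≠ 0 := fun h => by rw [h] at hg; exact hg (dvd_zero _)
  have h40 : ((p ^ s) ^ (l + 1) + 1) * ∏ i ∈ Finset.range l, ((p ^ s) ^ (2 * (i + 1)) - 1) ≠ 0 := fun h => by
    rw [h] at e3; exact e3 (dvd_zero _)
  rw [Nat.factorization_mul hg0 Nat.card_pos.ne', mul_assoc, Nat.factorization_mul (pow_ne_zero _ (pow_ne_zero _ hp.ne_zero)) h40,
    Finsupp.add_apply, Finsupp.add_apply, Nat.factorization_eq_zero_of_not_dvd hg,
    Nat.factorization_eq_zero_of_not_dvd e3, zero_add, add_zero, ← pow_mul, hp.factorization_pow,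
    Finsupp.single_eq_same] at h3
  rw [h3]
  ring

end minus

end Cfsg.Agent.H234.Eight
end

-- part: H234/Eight/OmMain
section
/-!
# `PΩ⁻_{2l+2}(q)` has at least eight character degrees, apart from `q ≤ 3`, `l = 3` (helper234, for S4899)

The degrees are `1`, the two rank 3 degrees `g < f`, the Steinberg degree, the degrees below `dg (l-2)`, `dg (l-1)`,
`dg l` and `q² dg (l-1)`; for `l = 4`, `q ≤ 3` the degree below `dg (l-2)` is replaced by one from the interval lemma.
-/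

set_option autoImplicit false
set_option linter.unusedSectionVars false

open Cfsg

namespace Cfsg.Agent.H234.Eight

open Cfsg.Agent.H477.HC Module Cfsg.Agent.H53.HC Cfsg.Agent.H362.Dl Cfsg.Agent.H749.Two Cfsg.Agent.H674.Dl
open Cfsg.Agent.Characters MulAction
open Cfsg.Agent.H664.Eight (Eight)

universe u v w

theorem mem_of_ch {S : Type*} [Group S] {d : ℕ} (h : Ch S d) : d ∈ charDegrees S := by
  obtain ⟨χ, hχ⟩ := h.exists_irr
  exact ⟨χ, hχ⟩

section num

variable {S : Type*} [Group S] [Finite S]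

theorem eight_of {p a b c g f s e : ℕ} (hp : p.Prime) (ha : Ch S a) (hb : Ch S b) (hc : Ch S c) (hg : Ch S g)
    (hf : Ch S f) (hs : Ch S s) (he : Ch S e) (h1a : 1 < a) (hab : a < b) (hbc : b < c) (pa : ¬ p ∣ a) (pb : ¬ p ∣ b)
    (pc : ¬ p ∣ c) (pg : p ∣ g) (pf : p ∣ f) (ps : p ∣ s) (pe : p ∣ e) (hgf : g < f) (hfs : f < s) (hfe : f < e)
    (hes : e ≠ s) : Eight S := by
  have key : ∀ {x y : ℕ}, ¬ p ∣ x → p ∣ y → x ≠ y := fun h h' e => h (e ▸ h')
  have p1 : ¬ p ∣ 1 := hp.one_lt.ne' ∘ Nat.dvd_one.1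
  refine Cfsg.Agent.H664.Eight.eight_of_list [1, a, b, c, g, f, s, e] ?_ (by simp) ?_
  · simp only [List.nodup_cons, List.mem_cons, List.not_mem_nil, or_false, not_or, not_false_eq_true, List.nodup_nil,
      and_true]
    exact ⟨⟨h1a.ne, (h1a.trans hab).ne, ((h1a.trans hab).trans hbc).ne, key p1 pg, key p1 pf, key p1 ps, key p1 pe⟩,
      ⟨hab.ne, (hab.trans hbc).ne, key pa pg, key pa pf, key pa ps, key pa pe⟩,
      ⟨hbc.ne, key pb pg, key pb pf, key pb ps, key pb pe⟩, ⟨key pc pg, key pc pf, key pc ps, key pc pe⟩,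
      ⟨hgf.ne, (hgf.trans hfs).ne, (hgf.trans hfe).ne⟩, ⟨hfs.ne, hfe.ne⟩, hes.symm⟩
  · intro d hd
    simp only [List.mem_cons, List.not_mem_nil, or_false] at hd
    rcases hd with rfl | rfl | rfl | rfl | rfl | rfl | rfl | rfl
    · exact Cfsg.Agent.H664.Eight.one_mem
    all_goals exact mem_of_ch (by assumption)

theorem eight_of' {p b c g f s e d : ℕ} (hb : Ch S b) (hc : Ch S c) (hg : Ch S g)
    (hf : Ch S f) (hs : Ch S s) (he : Ch S e) (hd : d ∈ charDegrees S) (h1g : 1 < g) (hgf : g < f) (hfd : f < d)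
    (hdb : d < b) (hbc : b < c) (hds : d < s) (hde : d < e) (pb : ¬ p ∣ b) (pc : ¬ p ∣ c) (ps : p ∣ s) (pe : p ∣ e)
    (hes : e ≠ s) : Eight S := by
  have key : ∀ {x y : ℕ}, ¬ p ∣ x → p ∣ y → x ≠ y := fun h h' e => h (e ▸ h')
  refine Cfsg.Agent.H664.Eight.eight_of_list [1, g, f, d, b, c, s, e] ?_ (by simp) ?_
  · simp only [List.nodup_cons, List.mem_cons, List.not_mem_nil, or_false, not_or, not_false_eq_true, List.nodup_nil,
      and_true]
    refine ⟨⟨?_, ?_, ?_, ?_, ?_, ?_, ?_⟩, ⟨?_, ?_, ?_, ?_, ?_, ?_⟩, ⟨?_, ?_, ?_, ?_, ?_⟩, ⟨?_, ?_, ?_, ?_⟩,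
      ⟨?_, key pb ps, key pb pe⟩, ⟨key pc ps, key pc pe⟩, hes.symm⟩
    all_goals (clear * - h1g hgf hfd hdb hbc hds hde; omega)
  · intro x hx
    simp only [List.mem_cons, List.not_mem_nil, or_false] at hx
    rcases hx with rfl | rfl | rfl | rfl | rfl | rfl | rfl | rfl
    · exact Cfsg.Agent.H664.Eight.one_mem
    · exact mem_of_ch hg
    · exact mem_of_ch hf
    · exact hd
    all_goals exact mem_of_ch (by assumption)

end num

section arith

theorem cq_le {q : ℕ} : cq q ≤ 4 := by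
  unfold cq; split <;> omega

theorem cq_two : cq 2 = 2 := cq_even (by decide)

/-- growth -/
theorem grow_aux {q x A D D' : ℕ} (hq : 2 ≤ q) (hx : q ≤ x) (hx2 : q = 2 → 4 ≤ x) (hA : (q ^ 2 + 1) * (q - 1) ≤ A)
    (hD : 0 < D) (h : (q * x - 1) * D' = (x - 1) * D * A) : cq q * D < D' := by
  have h1 : cq q * (q * x - 1) < (x - 1) * ((q ^ 2 + 1) * (q - 1)) := by
    rcases Nat.lt_or_ge q 3 with h3 | h3
    · have hq2 : q = 2 := by omega
      subst hq2
      rw [cq_two]
      have := hx2 rfl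
      omega
    · have h2 : cq q * (q * x - 1) ≤ 4 * (q * x - 1) := Nat.mul_le_mul_right _ cq_le
      refine h2.trans_lt ?_
      obtain ⟨r, rfl⟩ : ∃ r, q = r + 3 := ⟨q - 3, by omega⟩
      obtain ⟨y, rfl⟩ : ∃ y, x = y + (r + 3) := ⟨x - (r + 3), by omega⟩
      have e1 : y + (r + 3) - 1 = y + (r + 2) := by omega
      have e2 : r + 3 - 1 = r + 2 := by omega
      rw [e1, e2]
      have h4 : 4 * ((r + 3) * (y + (r + 3)) - 1) < 4 * ((r + 3) * (y + (r + 3))) := by
        have : 0 < (r + 3) * (y + (r + 3)) := by positivity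
        omega
      have h5 : 4 * ((r + 3) * (y + (r + 3))) < (y + (r + 2)) * (((r + 3) ^ 2 + 1) * (r + 2)) + 4 := by
        linarith only [Nat.zero_le (r * y), Nat.zero_le (r ^ 2 * y), Nat.zero_le (r ^ 3 * y), Nat.zero_le (r ^ 3), Nat.zero_le (r ^ 4), _root_.sq_nonneg (↑r : ℤ), _root_.Nat.cast_nonneg (α := ℤ) (r), _root_.Nat.cast_nonneg (α := ℤ) (y)]
      have h6 : 0 < (r + 3) * (y + (r + 3)) := by positivity
      omega
  have h2 : cq q * (q * x - 1) * D < (x - 1) * D * A := by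
    calc cq q * (q * x - 1) * D < (x - 1) * ((q ^ 2 + 1) * (q - 1)) * D := Nat.mul_lt_mul_of_pos_right h1 hD
      _ ≤ (x - 1) * A * D := Nat.mul_le_mul_right _ (Nat.mul_le_mul_left _ hA)
      _ = (x - 1) * D * A := by ring
  rw [← h] at h2
  have h3 : (q * x - 1) * (cq q * D) < (q * x - 1) * D' := by
    calc (q * x - 1) * (cq q * D) = cq q * (q * x - 1) * D := by ring
      _ < _ := h2
  exact lt_of_mul_lt_mul_left h3 (Nat.zero_le _)

end arith

section minus

variable (K : Type u) [Field K] [Finite K] {p : ℕ} [Fact p.Prime] [CharP K p] (a b : K)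
  (hab : ∀ z₁ z₂ : K, z₁ ^ 2 + a * z₁ * z₂ + b * z₂ ^ 2 = 0 → z₁ = 0 ∧ z₂ = 0)

theorem dg_minus_pos {k l : ℕ} (hk : k ≤ l) (hk0 : 0 < k) : 0 < dg (CForm.minusF K l a b hab) k := by
  have hq : 1 < Nat.card K := Finite.one_lt_card
  rcases Nat.eq_zero_or_pos (dg (CForm.minusF K l a b hab) k) with h | h
  · exfalso
    have h1 := dg_minus K a b hab hk hk0
    rw [h, mul_zero] at h1
    have h2 : 0 < ∏ i ∈ Finset.range k, ((Nat.card K ^ (l - i + 1) + 1) * (Nat.card K ^ (l - i) - 1)) := by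
      refine Finset.prod_pos fun i hi => ?_
      rw [Finset.mem_range] at hi
      have : 1 < Nat.card K ^ (l - i) := Nat.one_lt_pow (by omega) hq
      exact Nat.mul_pos (by omega) (by omega)
    omega
  · exact h

/-- growth of the degrees -/
theorem dg_grow {k l : ℕ} (hk : k + 1 ≤ l) (hk0 : 0 < k) (h2 : Nat.card K = 2 → 2 ≤ k) :
    cq (Nat.card K) * dg (CForm.minusF K l a b hab) k < dg (CForm.minusF K l a b hab) (k + 1) := by
  have hq : 2 ≤ Nat.card K := Finite.one_lt_card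
  have h1 := dg_minus K a b hab (k := k) (l := l) (by omega) hk0
  have h3 := dg_minus K a b hab (k := k + 1) (l := l) hk (by omega)
  rw [Finset.prod_range_succ, ← h1] at h3
  refine grow_aux (x := Nat.card K ^ k) (A := (Nat.card K ^ (l - k + 1) + 1) * (Nat.card K ^ (l - k) - 1)) hq ?_ ?_ ?_
    (dg_minus_pos K a b hab (by omega) hk0) ?_
  · calc Nat.card K = Nat.card K ^ 1 := (pow_one _).symm
      _ ≤ _ := Nat.pow_le_pow_right (by omega) hk0
  · intro h
    rw [h]
    calc 4 = 2 ^ 2 := by norm_num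
      _ ≤ _ := Nat.pow_le_pow_right (by omega) (h2 h)
  · refine Nat.mul_le_mul ?_ ?_
    · exact Nat.add_le_add_right (Nat.pow_le_pow_right (by omega) (by omega)) 1
    · refine Nat.sub_le_sub_right ?_ 1
      calc Nat.card K = Nat.card K ^ 1 := (pow_one _).symm
        _ ≤ _ := Nat.pow_le_pow_right (by omega) (by omega)
  · rw [← h3]
    congr 2
    rw [pow_succ]
    ring

theorem dg_mono {k j l : ℕ} (hj : k ≤ j) (hl : j ≤ l) (hk0 : 0 < k) (h2 : Nat.card K = 2 → 2 ≤ k) :
    dg (CForm.minusF K l a b hab) k ≤ dg (CForm.minusF K l a b hab) j := by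
  have hc : 1 ≤ cq (Nat.card K) := by unfold cq; split <;> omega
  induction j, hj using Nat.le_induction with
  | base => exact le_rfl
  | succ j hj ih =>
    refine (ih (by omega)).trans ?_
    have h := dg_grow K a b hab (k := j) (l := l) (by omega) (by omega) (fun h => by have := h2 h; omega)
    nlinarith only [hc, h]

/-- a lower bound -/
theorem dg_two_lower {l : ℕ} (hl : 3 ≤ l) : 4 * (Nat.card K ^ (2 * l) - 1) <
    (Nat.card K ^ 2 - 1) * dg (CForm.minusF K l a b hab) 2 := by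
  have hq : 2 ≤ Nat.card K := Finite.one_lt_card
  have h1 := dg_minus K a b hab (k := 2) (l := l) (by omega) (by omega)
  rw [Finset.prod_range_succ, Finset.prod_range_one, Nat.sub_zero] at h1
  rw [h1]
  have e1 : l - 1 + 1 = l := by omega
  rw [e1]
  have h2 : Nat.card K ^ (2 * l) - 1 = (Nat.card K ^ l - 1) * (Nat.card K ^ l + 1) := by
    rw [two_mul, pow_add]
    have : 1 ≤ Nat.card K ^ l := Nat.one_le_pow _ _ (by omega)
    obtain ⟨t, ht⟩ : ∃ t, Nat.card K ^ l = t + 1 := ⟨Nat.card K ^ l - 1, by omega⟩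
    rw [ht, Nat.add_sub_cancel]
    have : (t + 1) * (t + 1) = t * (t + 1 + 1) + 1 := by ring
    omega
  have h3 : 2 ^ 4 ≤ Nat.card K ^ (l + 1) :=
    (Nat.pow_le_pow_left hq 4).trans (Nat.pow_le_pow_right (by omega) (by omega))
  have h4 : 2 ^ 2 ≤ Nat.card K ^ (l - 1) :=
    (Nat.pow_le_pow_left hq 2).trans (Nat.pow_le_pow_right (by omega) (by omega))
  have h5 : 0 < Nat.card K ^ (2 * l) - 1 := by
    have : 1 < Nat.card K ^ (2 * l) := Nat.one_lt_pow (by omega) (by omega)
    omega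
  have h6 : 4 < (Nat.card K ^ (l + 1) + 1) * (Nat.card K ^ (l - 1) - 1) := by
    obtain ⟨t, ht⟩ : ∃ t, Nat.card K ^ (l - 1) = t + 2 := ⟨Nat.card K ^ (l - 1) - 2, by omega⟩
    have ht' : Nat.card K ^ (l - 1) - 1 = t + 1 := by omega
    rw [ht']
    nlinarith only [h3]
  calc 4 * (Nat.card K ^ (2 * l) - 1) < (Nat.card K ^ (l + 1) + 1) * (Nat.card K ^ (l - 1) - 1) * (Nat.card K ^ (2 * l) - 1) :=
        Nat.mul_lt_mul_of_pos_right h6 h5
    _ = _ := by rw [h2]; ring

variable {K}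

theorem p_dvd_q : p ∣ Nat.card K := by
  obtain ⟨s, hs⟩ := card_pow K p
  rw [hs]
  refine dvd_pow_self p ?_
  rintro rfl
  rw [pow_zero] at hs
  have : 2 ≤ Nat.card K := Finite.one_lt_card
  omega

theorem p_not_pow_sub {n : ℕ} (hn : n ≠ 0) : ¬ p ∣ Nat.card K ^ n - 1 := by
  intro h
  have hp : p.Prime := Fact.out
  have h3 : p ∣ Nat.card K ^ n := dvd_pow p_dvd_q hn
  have h4 : 1 ≤ Nat.card K ^ n := Nat.one_le_pow _ _ Nat.card_pos
  have h5 := Nat.dvd_sub h3 h
  rw [Nat.sub_sub_self h4] at h5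
  exact hp.one_lt.ne' (Nat.dvd_one.1 h5)

theorem p_not_pow_add {n : ℕ} (hn : n ≠ 0) : ¬ p ∣ Nat.card K ^ n + 1 := by
  intro h
  have hp : p.Prime := Fact.out
  have h3 : p ∣ Nat.card K ^ n := dvd_pow p_dvd_q hn
  exact hp.one_lt.ne' (Nat.dvd_one.1 ((Nat.dvd_add_right h3).1 h))

variable (K)

theorem p_not_dg {k l : ℕ} (hk : k ≤ l) (hk0 : 0 < k) : ¬ p ∣ dg (CForm.minusF K l a b hab) k := by
  intro h
  have hp : p.Prime := Fact.out
  have h1 := dg_minus K a b hab hk hk0
  have h2 : p ∣ ∏ i ∈ Finset.range k, ((Nat.card K ^ (l - i + 1) + 1) * (Nat.card K ^ (l - i) - 1)) := by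
    rw [← h1]
    exact Dvd.dvd.mul_left h _
  rw [Prime.dvd_finsetProd_iff hp.prime] at h2
  obtain ⟨i, hi, h3⟩ := h2
  rw [Finset.mem_range] at hi
  rcases hp.dvd_mul.1 h3 with h4 | h4
  · exact p_not_pow_add (by omega) h4
  · exact p_not_pow_sub (by omega) h4

/-- the common facts -/
structure Facts (S : Type*) [Group S] (p q l : ℕ) (D : ℕ → ℕ) : Prop where
  hp : p.Prime
  hq : 2 ≤ q
  pq : p ∣ q
  even : ¬ Odd q → p = 2
  hl : 3 ≤ l
  st : Ch S (q ^ (l * (l + 1)))
  rk : ∃ f g : ℕ, Ch S f ∧ Ch S g ∧ (q ^ 2 - 1) * f = q ^ 2 * (q ^ (2 * l) - 1) ∧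
    (q ^ 2 - 1) * g = q * (q ^ (l + 1) + 1) * (q ^ (l - 1) - 1)
  dg : ∀ k, k ≤ l → Adm q l k → ∃ e, De S (cq q) (D k) e
  qq : ∀ k, k + 1 = l → Adm q l k → ∃ e, De S (cq q) (D k * q ^ 2) e
  pD : ∀ k, k ≤ l → 0 < k → ¬ p ∣ D k
  grow : ∀ k, k + 1 ≤ l → 0 < k → (q = 2 → 2 ≤ k) → cq q * D k < D (k + 1)
  mono : ∀ k, 2 ≤ k → k ≤ l → D 2 ≤ D k
  two : 4 * (q ^ (2 * l) - 1) < (q ^ 2 - 1) * D 2
  one : q ≠ 2 → q ^ (l + 1) < D 1
  ex : ∀ k, k ≤ l → 0 < k → (q ^ k - 1) * D k = ∏ i ∈ Finset.range k, ((q ^ (l - i + 1) + 1) * (q ^ (l - i) - 1))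

include p hab in
theorem facts {l : ℕ} (hl : 3 ≤ l) : Facts (POmega K (quadFormMinus l K a b)) p (Nat.card K) l
    (dg (CForm.minusF K l a b hab)) := by
  have hq : 2 ≤ Nat.card K := Finite.one_lt_card
  refine
    { hp := Fact.out
      hq := hq
      pq := p_dvd_q
      even := fun h => ?_
      hl := hl
      st := exists_st K (p := p) a b hab hl
      rk := ?_
      dg := fun k hk hA => exists_dg K (p := p) a b hab hl hk hA
      qq := fun k hk hA => exists_qq K (p := p) a b hab hl hk hA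
      pD := fun k hk hk0 => p_not_dg K a b hab hk hk0
      grow := fun k hk hk0 h2 => dg_grow K a b hab hk hk0 h2
      mono := fun k hk hkl => dg_mono K a b hab hk hkl (by omega) (fun _ => le_rfl)
      two := dg_two_lower K a b hab hl
      one := fun h2 => ?_
      ex := fun k hk hk0 => dg_minus K a b hab hk hk0 }
  · have hp : p.Prime := Fact.out
    obtain ⟨s, hs⟩ := card_pow K p
    rw [Nat.not_odd_iff_even] at h
    rw [hs] at h
    have := Nat.Prime.dvd_of_dvd_pow Nat.prime_two h.two_dvd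
    exact ((Nat.prime_dvd_prime_iff_eq Nat.prime_two hp).1 this).symm
  · obtain ⟨f, g, hf, hg, h1, h2⟩ := rk3_minus K a b hab hl
    have e1 : ((Nat.card K ^ 2 - 1 : ℕ) : ℤ) = (Nat.card K : ℤ) ^ 2 - 1 := by
      rw [Nat.cast_sub (Nat.one_le_pow _ _ (by omega))]; push_cast; ring
    have e2 : ((Nat.card K ^ (2 * l) - 1 : ℕ) : ℤ) = (Nat.card K : ℤ) ^ (2 * l) - 1 := by
      rw [Nat.cast_sub (Nat.one_le_pow _ _ (by omega))]; push_cast; ring
    have e3 : ((Nat.card K ^ (l - 1) - 1 : ℕ) : ℤ) = (Nat.card K : ℤ) ^ (l - 1) - 1 := by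
      rw [Nat.cast_sub (Nat.one_le_pow _ _ (by omega))]; push_cast; ring
    refine ⟨f, g, hf, hg, ?_, ?_⟩
    · have : (((Nat.card K ^ 2 - 1) * f : ℕ) : ℤ) = ((Nat.card K ^ 2 * (Nat.card K ^ (2 * l) - 1) : ℕ) : ℤ) := by
        rw [Nat.cast_mul, Nat.cast_mul, e1, e2, h1]
        push_cast
        ring
      exact_mod_cast this
    · have : (((Nat.card K ^ 2 - 1) * g : ℕ) : ℤ) =
          ((Nat.card K * (Nat.card K ^ (l + 1) + 1) * (Nat.card K ^ (l - 1) - 1) : ℕ) : ℤ) := by
        rw [Nat.cast_mul, Nat.cast_mul _ (Nat.card K ^ (l - 1) - 1), e1, e3, h2]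
        push_cast
        ring
      exact_mod_cast this
  · have h1 := dg_minus K a b hab (k := 1) (l := l) (by omega) (by omega)
    rw [Finset.prod_range_one, Nat.sub_zero, pow_one] at h1
    have h3 : Nat.card K - 1 ≤ Nat.card K ^ l - 1 := by
      refine Nat.sub_le_sub_right ?_ 1
      calc Nat.card K = Nat.card K ^ 1 := (pow_one _).symm
        _ ≤ _ := Nat.pow_le_pow_right (by omega) (by omega)
    by_contra hlt
    push Not at hlt
    have h4 : (Nat.card K - 1) * dg (CForm.minusF K l a b hab) 1 ≤ (Nat.card K ^ l - 1) * Nat.card K ^ (l + 1) :=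
      Nat.mul_le_mul h3 hlt
    rw [h1] at h4
    have h5 : 0 < Nat.card K ^ l - 1 := by omega
    linarith only [h4, h5]

end minus

section concl

variable {S : Type u} [Group S] [Finite S] {p q l : ℕ} {D : ℕ → ℕ}

theorem De.le_mul {c d e : ℕ} (h : De S c d e) (hc : 0 < c) : d ≤ c * e := by
  obtain ⟨-, -, t, ht, rfl⟩ := h
  rw [mul_comm]
  exact Nat.mul_le_mul_right _ (Nat.le_of_dvd hc ht)

theorem De.dvd {c d e : ℕ} (h : De S c d e) : e ∣ d := by
  obtain ⟨-, -, t, -, rfl⟩ := h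
  exact Dvd.intro _ rfl

theorem cq_pos (q : ℕ) : 0 < cq q := by unfold cq; split <;> omega

/-- the numerical facts used in all cases -/
structure Num (S : Type u) [Group S] (p q l : ℕ) (D : ℕ → ℕ) (f g e : ℕ) : Prop where
  cf : Ch S f
  cg : Ch S g
  ce : Ch S e
  pg : p ∣ g
  pf : p ∣ f
  pe : p ∣ e
  gf : g < f
  fs : f < q ^ (l * (l + 1))
  fe : f < e
  es : e ≠ q ^ (l * (l + 1))
  eg : (q ^ 2 - 1) * g = q * (q ^ (l + 1) + 1) * (q ^ (l - 1) - 1)
  ef : (q ^ 2 - 1) * f = q ^ 2 * (q ^ (2 * l) - 1)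
  ee : D (l - 1) * q ^ 2 ≤ cq q * e
  de : ∃ t, t ∣ cq q ∧ D (l - 1) * q ^ 2 = e * t

theorem Facts.num (F : Facts S p q l D) (hA : Adm q l (l - 1)) : ∃ f g e, Num S p q l D f g e := by
  have hl := F.hl
  have hq := F.hq
  have hp := F.hp
  obtain ⟨f, g, hf, hg, ef, eg⟩ := F.rk
  obtain ⟨e, he⟩ := F.qq (l - 1) (by omega) hA
  have hq2 : 4 ≤ q ^ 2 := (by norm_num : 4 = 2 ^ 2) ▸ Nat.pow_le_pow_left hq 2
  have hpq2 : ¬ p ∣ q ^ 2 - 1 := by
    intro h
    have h1 : p ∣ q ^ 2 := dvd_pow F.pq two_ne_zero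
    have h2 := Nat.dvd_sub h1 h
    rw [Nat.sub_sub_self (by omega)] at h2
    exact hp.one_lt.ne' (Nat.dvd_one.1 h2)
  have pg : p ∣ g := by
    have : p ∣ (q ^ 2 - 1) * g := by
      rw [eg, mul_assoc]
      exact Dvd.dvd.mul_right F.pq _
    exact (hp.dvd_mul.1 this).resolve_left hpq2
  have pf : p ∣ f := by
    have : p ∣ (q ^ 2 - 1) * f := by
      rw [ef]
      exact Dvd.dvd.mul_right (dvd_pow F.pq two_ne_zero) _
    exact (hp.dvd_mul.1 this).resolve_left hpq2
  have hle := he.le_mul (cq_pos q)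
  have hqpos : 0 < q := by omega
  have hbig : 4 ≤ q ^ (l - 1) := hq2.trans (Nat.pow_le_pow_right hqpos (by omega))
  have h2l : q ^ (2 * l) = q ^ (l + 1) * q ^ (l - 1) := by rw [← pow_add]; congr 1; omega
  have hl1 : q ^ (l + 1) = q ^ (l - 1) * q ^ 2 := by rw [← pow_add]; congr 1; omega
  have hpos2l : 0 < q ^ (2 * l) - 1 := by
    have : 1 < q ^ (2 * l) := Nat.one_lt_pow (by omega) hq
    omega
  have gf : g < f := by
    have h1 : (q ^ 2 - 1) * g < (q ^ 2 - 1) * f := by
      rw [eg, ef, h2l]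
      obtain ⟨x, hx⟩ : ∃ x, q ^ (l - 1) = x + 1 := ⟨q ^ (l - 1) - 1, by omega⟩
      rw [hl1, hx, Nat.add_sub_cancel]
      have h2 : (x + 1) * q ^ 2 * (x + 1) - 1 ≥ ((x + 1) * q ^ 2 + 1) * x := by
        have : ((x + 1) * q ^ 2 + 1) * x + 1 ≤ (x + 1) * q ^ 2 * (x + 1) := by nlinarith only [hq2]
        omega
      calc q * ((x + 1) * q ^ 2 + 1) * x = q * (((x + 1) * q ^ 2 + 1) * x) := by ring
        _ < q ^ 2 * (((x + 1) * q ^ 2 + 1) * x) := by
            refine Nat.mul_lt_mul_of_pos_right (by nlinarith only [hq2]) ?_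
            have : 0 < x := by omega
            (clear * - hq this; positivity)
        _ ≤ _ := Nat.mul_le_mul_left _ h2
    exact lt_of_mul_lt_mul_left h1 (Nat.zero_le _)
  have fs : f < q ^ (l * (l + 1)) := by
    have h1 : (q ^ 2 - 1) * f < (q ^ 2 - 1) * q ^ (l * (l + 1)) := by
      rw [ef]
      calc q ^ 2 * (q ^ (2 * l) - 1) < q ^ 2 * q ^ (2 * l) := Nat.mul_lt_mul_of_pos_left (by omega) (by omega)
        _ = q ^ (2 * l + 2) := by rw [← pow_add]; congr 1; omega
        _ ≤ q ^ (l * (l + 1)) := Nat.pow_le_pow_right hqpos (by nlinarith only [hl])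
        _ = 1 * q ^ (l * (l + 1)) := (one_mul _).symm
        _ ≤ _ := Nat.mul_le_mul_right _ (by omega)
    exact lt_of_mul_lt_mul_left h1 (Nat.zero_le _)
  have fe : f < e := by
    have h1 := F.mono (l - 1) (by omega) (by omega)
    have h2 := F.two
    have h3 : (q ^ 2 - 1) * (4 * f) < (q ^ 2 - 1) * (4 * e) := by
      calc (q ^ 2 - 1) * (4 * f) = 4 * ((q ^ 2 - 1) * f) := by ring
        _ = q ^ 2 * (4 * (q ^ (2 * l) - 1)) := by rw [ef]; ring
        _ < q ^ 2 * ((q ^ 2 - 1) * D 2) := Nat.mul_lt_mul_of_pos_left h2 (by omega)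
        _ ≤ q ^ 2 * ((q ^ 2 - 1) * D (l - 1)) := Nat.mul_le_mul_left _ (Nat.mul_le_mul_left _ h1)
        _ = (q ^ 2 - 1) * (D (l - 1) * q ^ 2) := by ring
        _ ≤ (q ^ 2 - 1) * (cq q * e) := Nat.mul_le_mul_left _ hle
        _ ≤ _ := Nat.mul_le_mul_left _ (Nat.mul_le_mul_right _ cq_le)
    have h4 := lt_of_mul_lt_mul_left h3 (Nat.zero_le _)
    omega
  have pD := F.pD (l - 1) (by omega) (by omega)
  obtain ⟨ce, he0, t, ht, hte⟩ := he
  have pe : p ∣ e := by
    by_cases ho : Odd q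
    · rw [cq_odd ho] at ht
      have h1 : p ∣ e * t := by rw [← hte]; exact Dvd.dvd.mul_left (dvd_pow F.pq two_ne_zero) _
      refine (hp.dvd_mul.1 h1).resolve_right fun h2 => ?_
      have h3 : p ∣ 2 ^ 2 := h2.trans (ht.trans (by norm_num))
      have h4 := (Nat.prime_dvd_prime_iff_eq hp Nat.prime_two).1 (hp.dvd_of_dvd_pow h3)
      have h5 : 2 ∣ q := h4 ▸ F.pq
      rw [← Nat.not_even_iff_odd] at ho
      exact ho (even_iff_two_dvd.2 h5)
    · have h2 := F.even ho
      rw [cq_even ho] at ht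
      rw [h2]
      rw [Nat.not_odd_iff_even, even_iff_two_dvd] at ho
      have h4 : 4 ∣ e * t := by
        rw [← hte]
        exact Dvd.dvd.mul_left ((by norm_num : 4 = 2 ^ 2) ▸ pow_dvd_pow_of_dvd ho 2) _
      rcases (Nat.dvd_prime Nat.prime_two).1 ht with rfl | rfl
      · rw [mul_one] at h4
        exact (by norm_num : 2 ∣ 4).trans h4
      · exact Nat.dvd_of_mul_dvd_mul_right (by norm_num : 0 < 2) (by simpa using h4)
  refine ⟨f, g, e, ⟨hf, hg, ce, pg, pf, pe, gf, fs, fe, ?_, eg, ef, hle, t, ht, hte⟩⟩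
  intro h
  have h1 : q ^ 3 ∣ q ^ 2 * D (l - 1) := by
    rw [mul_comm, hte, h]
    exact Dvd.dvd.mul_right (pow_dvd_pow q (by nlinarith only [hl])) _
  rw [pow_succ] at h1
  exact pD (F.pq.trans (Nat.dvd_of_mul_dvd_mul_left (by positivity) h1))

/-- **the general case** -/
theorem eight_of_facts (F : Facts S p q l D) (h : 5 ≤ l ∨ 4 ≤ q) : Eight S := by
  have hl := F.hl
  have hq := F.hq
  have hp := F.hp
  obtain ⟨f, g, e, N⟩ := F.num (by unfold Adm; omega)
  obtain ⟨x, hx⟩ := F.dg (l - 2) (by omega) (by unfold Adm; omega)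
  obtain ⟨y, hy⟩ := F.dg (l - 1) (by omega) (by unfold Adm; omega)
  obtain ⟨z, hz⟩ := F.dg l le_rfl (by unfold Adm; omega)
  have hc := cq_pos q
  have hc4 := @cq_le q
  have g1 := F.grow (l - 2) (by omega) (by omega) (by omega)
  have g2 := F.grow (l - 1) (by omega) (by omega) (by omega)
  rw [show l - 2 + 1 = l - 1 by omega] at g1
  rw [show l - 1 + 1 = l by omega] at g2
  have p1 := F.pD (l - 2) (by omega) (by omega)
  have p2 := F.pD (l - 1) (by omega) (by omega)
  have p3 := F.pD l (by omega) (by omega)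
  have hx1 : 1 < x := by
    have h1 : 4 < D (l - 2) := by
      rcases Nat.lt_or_ge l 4 with h4 | h4
      · have h3 : l = 3 := by omega
        subst h3
        have h5 := F.one (by omega)
        have h6 : 2 ^ (3 + 1) ≤ q ^ (3 + 1) := Nat.pow_le_pow_left hq _
        change 4 < D 1
        omega
      · have h5 := F.mono (l - 2) (by omega) (by omega)
        have h6 := F.two
        have h7 : q ^ 2 - 1 ≤ q ^ (2 * l) - 1 := Nat.sub_le_sub_right (Nat.pow_le_pow_right (by omega) (by omega)) 1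
        have h8 : (q ^ 2 - 1) * 4 < (q ^ 2 - 1) * D 2 := by
          calc (q ^ 2 - 1) * 4 ≤ (q ^ (2 * l) - 1) * 4 := Nat.mul_le_mul_right _ h7
            _ = 4 * (q ^ (2 * l) - 1) := mul_comm _ _
            _ < _ := h6
        have h9 := lt_of_mul_lt_mul_left h8 (Nat.zero_le _)
        omega
    have h2 := hx.le_mul hc
    by_contra hlt
    have : cq q * x ≤ 4 * 1 := Nat.mul_le_mul hc4 (by omega)
    omega
  have hxy : x < y := by
    have h1 := hy.le_mul hc
    have h2 : cq q * D (l - 2) < cq q * y := lt_of_lt_of_le g1 h1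
    exact lt_of_le_of_lt (Nat.le_of_dvd (Nat.pos_of_ne_zero fun h => p1 (by rw [h]; exact dvd_zero _)) hx.dvd)
      (lt_of_mul_lt_mul_left h2 (Nat.zero_le _))
  have hyz : y < z := by
    have h1 := hz.le_mul hc
    have h2 : cq q * D (l - 1) < cq q * z := lt_of_lt_of_le g2 h1
    exact lt_of_le_of_lt (Nat.le_of_dvd (Nat.pos_of_ne_zero fun h => p2 (by rw [h]; exact dvd_zero _)) hy.dvd)
      (lt_of_mul_lt_mul_left h2 (Nat.zero_le _))
  exact eight_of hp hx.1 hy.1 hz.1 N.cg N.cf F.st N.ce hx1 hxy hyz (fun h => p1 (h.trans hx.dvd))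
    (fun h => p2 (h.trans hy.dvd)) (fun h => p3 (h.trans hz.dvd)) N.pg N.pf
    (dvd_pow F.pq (by nlinarith only [hl])) N.pe N.gf N.fs N.fe N.es

open Cfsg.Agent.H996.Eight.Interval in
/-- `l = 4`, `q ≤ 3` -/
theorem eight_four [IsSimpleGroup S] (F : Facts S p q 4 D) (h : q = 2 ∨ q = 3) : Eight S := by
  have hp := F.hp
  obtain ⟨f, g, e, N⟩ := F.num (by unfold Adm; omega)
  obtain ⟨y, hy⟩ := F.dg 3 (by omega) (by unfold Adm; omega)
  obtain ⟨z, hz⟩ := F.dg 4 le_rfl (by unfold Adm; omega)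
  have hc := cq_pos q
  have g2 := F.grow 3 (by omega) (by omega) (by omega)
  have p2 := F.pD 3 (by omega) (by omega)
  have p3 := F.pD 4 (by omega) (by omega)
  have hex := F.ex 3 (by omega) (by omega)
  have hyz : y < z := by
    have h1 := hz.le_mul hc
    have h2 : cq q * D 3 < cq q * z := lt_of_lt_of_le g2 h1
    exact lt_of_le_of_lt (Nat.le_of_dvd (Nat.pos_of_ne_zero fun h => p2 (by rw [h]; exact dvd_zero _)) hy.dvd)
      (lt_of_mul_lt_mul_left h2 (Nat.zero_le _))
  have hyle := hy.le_mul hc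
  have eg := N.eg
  have ef := N.ef
  have ee := N.ee
  have hst := F.st
  have hg1 : 1 < g := by
    rcases h with rfl | rfl <;> norm_num at eg <;> omega
  obtain ⟨d, hd, hd1, hd2⟩ := _root_.Cfsg.Agent.H996.Eight.Interval.exists_between (Small.of_mem (mem_of_ch N.cg) hg1) (X := f) (D := q ^ (4 * (4 + 1)))
    (by have := N.gf; omega) (mem_of_ch hst) N.fs
  have key : d < y ∧ d < q ^ (4 * (4 + 1)) ∧ d < e := by
    rcases h with rfl | rfl
    · rw [cq_two] at ee hyle
      norm_num only [Finset.prod_range_succ] at hex eg ef ee ⊢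
      have hD : D 3 = 227205 := by omega
      have hg : g = 154 := by omega
      have hf : f = 340 := by omega
      subst hg hf
      omega
    · rw [cq_odd (by decide)] at ee hyle
      norm_num only [Finset.prod_range_succ] at hex eg ef ee ⊢
      have hD : D 3 = 358543360 := by omega
      have hg : g = 2379 := by omega
      have hf : f = 7380 := by omega
      subst hg hf
      omega
  exact eight_of' hy.1 hz.1 N.cg N.cf F.st N.ce hd hg1 N.gf hd1 key.1 hyz key.2.1 key.2.2 (fun h => p2 (h.trans hy.dvd))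
    (fun h => p3 (h.trans hz.dvd)) (dvd_pow F.pq (by norm_num)) N.pe N.es

end concl

section general

variable (K : Type u) [Field K] [Finite K]

theorem exists_prime : ∃ p, p.Prime ∧ CharP K p := by
  obtain ⟨p, hp⟩ := CharP.exists K
  exact ⟨p, (CharP.char_is_prime_or_zero K p).resolve_right (CharP.char_ne_zero_of_finite K p), hp⟩

/-- `PΩ⁻_{2l+2}(q)`, `l ≥ 5` or `q ≥ 4` -/
theorem eight_gen (a b : K) (hab : ∀ z₁ z₂ : K, z₁ ^ 2 + a * z₁ * z₂ + b * z₂ ^ 2 = 0 → z₁ = 0 ∧ z₂ = 0) {l : ℕ}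
    (hl : 3 ≤ l) (h : 5 ≤ l ∨ 4 ≤ Nat.card K) : Eight (POmega K (quadFormMinus l K a b)) := by
  obtain ⟨p, hp, hc⟩ := exists_prime K
  have : Fact p.Prime := ⟨hp⟩
  have : Finite (POmega K (quadFormMinus l K a b)) := Finite.of_surjective _ (QuotientGroup.mk'_surjective _)
  exact eight_of_facts (facts K (p := p) a b hab hl) h

/-- `PΩ⁻_{2l+2}(q)`, apart from `l = 3`, `q ≤ 3` -/
theorem eight_ne (a b : K) (hab : ∀ z₁ z₂ : K, z₁ ^ 2 + a * z₁ * z₂ + b * z₂ ^ 2 = 0 → z₁ = 0 ∧ z₂ = 0) {l : ℕ}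
    (hl : 3 ≤ l) (h : 4 ≤ l ∨ 4 ≤ Nat.card K) : Eight (POmega K (quadFormMinus l K a b)) := by
  by_cases h1 : 5 ≤ l ∨ 4 ≤ Nat.card K
  · exact eight_gen K a b hab hl h1
  obtain ⟨p, hp, hc⟩ := exists_prime K
  have : Fact p.Prime := ⟨hp⟩
  have : Finite (POmega K (quadFormMinus l K a b)) := Finite.of_surjective _ (QuotientGroup.mk'_surjective _)
  have hl4 : l = 4 := by omega
  subst hl4
  have hq : 1 < Nat.card K := Finite.one_lt_card
  let _ := Fintype.ofFinite K
  have hs : IsSimpleGroup (POmega K (quadFormMinus 4 K a b)) := Cfsg.Agent.S0297.result 5 (by norm_num) a b hab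
  exact eight_four (facts K (p := p) a b hab (by omega)) (by omega)

end general

end Cfsg.Agent.H234.Eight
end

-- part: H234/Eight/OmPrime
section
/-!
# Self-centralizing Sylow subgroups of prime order `r ∣ q^(l+1) + 1` in `PΩ⁻_{2l+2}(q)` (helper234)

`exists_selfcent` : if the centre of `Ω` is trivial, `2` and `r` are the only primes dividing `q^(l+1) + 1`, `r ∥ |Ω|`.
`om83` : `PΩ⁻_8(3)`, `r = 41`; `om82` : `PΩ⁻_8(2)`, `r = 17`.
-/

set_option autoImplicit false
set_option linter.unusedSectionVars false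

open Cfsg

namespace Cfsg.Agent.H234.Eight

open Module Cfsg.Agent.H477.HC Cfsg.Agent.H674.Dl

universe u v w

theorem card_centralizer_equiv {G : Type*} {H : Type*} [Group G] [Group H] (e : G ≃* H) (x : G) :
    Nat.card (Subgroup.centralizer ({e x} : Set H)) = Nat.card (Subgroup.centralizer ({x} : Set G)) := by
  symm
  refine Nat.card_congr (Equiv.subtypeEquiv e.toEquiv fun g => ?_)
  rw [Subgroup.mem_centralizer_singleton_iff]
  change _ ↔ e g ∈ _
  rw [Subgroup.mem_centralizer_singleton_iff, ← map_mul, ← map_mul, e.injective.eq_iff]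

section

variable {ι : Type} [Fintype ι] [DecidableEq ι] {K : Type u} [Field K] [Finite K] (F : CForm K (ι → K))
  (hB : ∀ u v, F.B u v = F.Q (u + v) - F.Q u - F.Q v) (hσ : ∀ a, F.σ a = a)

/-- the isometry of an element of `Ω` -/
noncomputable def im (z : Omega K F.Q) : F.iso := isoQuad F hB (z : isometryGroup K F.Q)

theorem im_mul (z w : Omega K F.Q) : im F hB (z * w) = im F hB z * im F hB w := by
  unfold im
  rw [Subgroup.coe_mul, map_mul]

theorem im_one : im F hB 1 = 1 := by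
  unfold im
  rw [Subgroup.coe_one, map_one]

theorem im_pow (z : Omega K F.Q) (n : ℕ) : im F hB (z ^ n) = im F hB z ^ n := by
  unfold im
  rw [Subgroup.coe_pow, map_pow]

theorem im_injective : Function.Injective (im F hB) := by
  intro z w h
  exact Subtype.ext ((isoQuad F hB).injective h)

variable {r m : ℕ} (hr : r.Prime) (hrq : r ∣ Nat.card K ^ m + 1) (hm : 0 < m) (hn : Fintype.card ι = 2 * m)
  (hprim : ∀ i, 0 < i → i < 2 * m → ¬ r ∣ Nat.card K ^ i - 1)

include hB hσ hr hrq hm hn hprim in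
theorem selfcent (hcen : ∀ z : Omega K F.Q, z ∈ Subgroup.center (Omega K F.Q) → z = 1)
    (hd2 : ¬ r ^ 2 ∣ Nat.card (POmega K F.Q))
    (hs : ∀ s : ℕ, s.Prime → s ∣ Nat.card K ^ m + 1 → s = 2 ∨ s = r) (x' : POmega K F.Q) (hx' : orderOf x' = r) :
    Nat.card (Subgroup.centralizer ({x'} : Set (POmega K F.Q))) = r := by
  classical
  have : Fact r.Prime := ⟨hr⟩
  have hfin : Finite (POmega K F.Q) := Finite.of_surjective _ (QuotientGroup.mk'_surjective _)
  have hbot : Subgroup.center (Omega K F.Q) = ⊥ := by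
    rw [Subgroup.eq_bot_iff_forall]
    exact hcen
  let e : Omega K F.Q ≃* POmega K F.Q :=
    ((QuotientGroup.quotientMulEquivOfEq hbot).trans QuotientGroup.quotientBot).symm
  have hcard : Nat.card (Omega K F.Q) = Nat.card (POmega K F.Q) := Nat.card_congr e.toEquiv
  rw [← hcard] at hd2
  obtain ⟨x, rfl⟩ : ∃ x, x' = e x := ⟨e.symm x', (e.apply_symm_apply x').symm⟩
  have hx : orderOf x = r := by rw [← hx', MulEquiv.orderOf_eq]
  rw [card_centralizer_equiv]
  have hVn : finrank K (ι → K) = 2 * m := by rw [finrank_fintype_fun_eq_card, hn]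
  have hx1 : x ≠ 1 := by
    rintro rfl
    rw [orderOf_one] at hx
    exact hr.one_lt.ne hx
  have hX : im F hB x ^ r = 1 := by rw [← im_pow, ← hx, pow_orderOf_eq_one, im_one]
  have hX1 : im F hB x ≠ 1 := fun h => hx1 (im_injective F hB (h.trans (im_one F hB).symm))
  have hxC : x ∈ Subgroup.centralizer ({x} : Set (Omega K F.Q)) := Subgroup.mem_centralizer_singleton_iff.2 rfl
  -- the primes of the centralizer
  have hprime : ∀ s : ℕ, s.Prime → s ∣ Nat.card (Subgroup.centralizer ({x} : Set (Omega K F.Q))) → s = r := by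
    intro s hsp hsd
    have : Fact s.Prime := ⟨hsp⟩
    obtain ⟨g, hg⟩ := exists_prime_orderOf_dvd_card' s hsd
    have hgx : (g : Omega K F.Q) * x = x * g := Subgroup.mem_centralizer_singleton_iff.1 g.2
    have hG : im F hB (g : Omega K F.Q) * im F hB x = im F hB x * im F hB g := by
      rw [← im_mul, hgx, im_mul]
    have h1 := Singer.cent_pow F hr hrq hm hVn hprim hX hX1 hσ hG
    have h2 : (g : Omega K F.Q) ^ (Nat.card K ^ m + 1) = 1 :=
      im_injective F hB (by rw [im_pow, h1, im_one])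
    have h3 : orderOf (g : Omega K F.Q) = s := by rw [Subgroup.orderOf_coe, hg]
    have h4 : s ∣ Nat.card K ^ m + 1 := h3 ▸ orderOf_dvd_of_pow_eq_one h2
    rcases hs s hsp h4 with h5 | h5
    · exfalso
      subst h5
      have hg1 : (g : Omega K F.Q) ≠ 1 := by
        intro h
        rw [h, orderOf_one] at h3
        omega
      have hg2 : (g : Omega K F.Q) * g = 1 := by
        have := pow_orderOf_eq_one (g : Omega K F.Q)
        rwa [h3, pow_two] at this
      have h6 := Singer.cent_neg F hr hrq hm hVn hprim hX hX1 (t := im F hB (g : Omega K F.Q)) hG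
        (by rw [← im_mul, hg2, im_one]) (fun h => hg1 (im_injective F hB (h.trans (im_one F hB).symm)))
      apply hg1
      apply hcen
      rw [Subgroup.mem_center_iff]
      intro z
      apply im_injective F hB
      rw [im_mul, im_mul]
      apply Subtype.ext
      ext v : 1
      change (im F hB z : (ι → K) ≃ₗ[K] (ι → K)) ((im F hB (g : Omega K F.Q) : (ι → K) ≃ₗ[K] (ι → K)) v) =
        (im F hB (g : Omega K F.Q) : (ι → K) ≃ₗ[K] (ι → K)) ((im F hB z : (ι → K) ≃ₗ[K] (ι → K)) v)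
      rw [h6, h6, map_neg]
    · exact h5
  have hC0 : Nat.card (Subgroup.centralizer ({x} : Set (Omega K F.Q))) ≠ 0 := Nat.card_pos.ne'
  have h1 : Nat.card (Subgroup.centralizer ({x} : Set (Omega K F.Q))) =
      r ^ (Nat.card (Subgroup.centralizer ({x} : Set (Omega K F.Q)))).primeFactorsList.length :=
    Nat.eq_prime_pow_of_unique_prime_dvd hC0 (fun {s} hsp hsd => hprime s hsp hsd)
  have h2 : r ∣ Nat.card (Subgroup.centralizer ({x} : Set (Omega K F.Q))) := by
    have h3 : orderOf (⟨x, hxC⟩ : Subgroup.centralizer ({x} : Set (Omega K F.Q))) ∣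
      Nat.card (Subgroup.centralizer ({x} : Set (Omega K F.Q))) := orderOf_dvd_natCard _
    rwa [Subgroup.orderOf_mk, hx] at h3
  have h3 : Nat.card (Subgroup.centralizer ({x} : Set (Omega K F.Q))) ∣ Nat.card (Omega K F.Q) :=
    Subgroup.card_subgroup_dvd_card _
  obtain ⟨k, hk⟩ : ∃ k, k = (Nat.card (Subgroup.centralizer ({x} : Set (Omega K F.Q)))).primeFactorsList.length := ⟨_, rfl⟩
  rw [← hk] at h1
  have hk1 : k = 1 := by
    rcases Nat.lt_or_ge k 2 with h | h
    · rcases Nat.eq_zero_or_pos k with rfl | h'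
      · rw [h1, pow_zero] at h2
        exact absurd (Nat.dvd_one.1 h2) hr.one_lt.ne'
      · omega
    · exact absurd ((pow_dvd_pow r h).trans (h1 ▸ h3)) hd2
  rw [h1, hk1, pow_one]

/-- every element of order divisible by `r` has order `r` -/
theorem order_of_cent {G : Type*} [Group G] [Finite G] {r : ℕ} (hr : r.Prime)
    (h : ∀ x : G, orderOf x = r → Nat.card (Subgroup.centralizer ({x} : Set G)) = r) (g : G) (hg : r ∣ orderOf g) :
    orderOf g = r := by
  obtain ⟨k, hk⟩ := hg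
  have hg0 : 0 < orderOf g := orderOf_pos g
  have hk0 : 0 < k := Nat.pos_of_ne_zero (by rintro rfl; rw [mul_zero] at hk; omega)
  have h1 : orderOf (g ^ k) = r := by
    rw [orderOf_pow_of_dvd hk0.ne' (by rw [hk]; exact Dvd.intro_left _ rfl), hk, Nat.mul_div_cancel _ hk0]
  have h2 := h _ h1
  have h3 : g ∈ Subgroup.centralizer ({g ^ k} : Set G) := Subgroup.mem_centralizer_singleton_iff.2 (by
    rw [← pow_succ, ← pow_succ'])
  have h4 : orderOf (⟨g, h3⟩ : Subgroup.centralizer ({g ^ k} : Set G)) ∣ _ := orderOf_dvd_natCard _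
  rw [h2, Subgroup.orderOf_mk] at h4
  exact Nat.dvd_antisymm h4 (by rw [hk]; exact Dvd.intro _ rfl)

end

section minus

variable (K : Type u) [Field K] [Finite K] (a b : K)
  (hab : ∀ z₁ z₂ : K, z₁ ^ 2 + a * z₁ * z₂ + b * z₂ ^ 2 = 0 → z₁ = 0 ∧ z₂ = 0)

theorem charP_of_card {p : ℕ} (hp : p.Prime) (h : Nat.card K = p) : CharP K p := by
  obtain ⟨s, hs⟩ := CharP.exists K
  have hsp : s.Prime := (CharP.char_is_prime_or_zero K s).resolve_right (CharP.char_ne_zero_of_finite K s)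
  have : Fact s.Prime := ⟨hsp⟩
  obtain ⟨n, hn⟩ := card_pow K s
  rw [h] at hn
  have h1 : p ∣ s := hp.dvd_of_dvd_pow (dvd_of_eq hn)
  rwa [(Nat.prime_dvd_prime_iff_eq hp hsp).1 h1]

include hab in
theorem card_om83 (h : Nat.card K = 3) : Nat.card (POmega K (quadFormMinus 3 K a b)) = 10151968619520 := by
  let _ := Fintype.ofFinite K
  rw [Nat.card_eq_fintype_card (α := K)] at h
  have h1 := Cfsg.Agent.S0294.result (F := K) h 4 (by norm_num) a b hab
  change Nat.gcd 4 (3 ^ 4 + 1) * Nat.card (POmega K (quadFormMinus 3 K a b)) = _ at h1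
  norm_num only [Finset.prod_range_succ] at h1
  omega

include hab in
theorem card_om82 (h : Nat.card K = 2) : Nat.card (POmega K (quadFormMinus 3 K a b)) = 197406720 := by
  let _ := Fintype.ofFinite K
  rw [Nat.card_eq_fintype_card (α := K)] at h
  have h1 := Cfsg.Agent.S0294.result (F := K) h 4 (by norm_num) a b hab
  change Nat.gcd 4 (2 ^ 4 + 1) * Nat.card (POmega K (quadFormMinus 3 K a b)) = _ at h1
  norm_num only [Finset.prod_range_succ, _root_.one_mul] at h1
  omega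

include hab in
/-- `PΩ⁻_8(3)`, `r = 41` -/
theorem cent83 (h : Nat.card K = 3) (x : POmega K (quadFormMinus 3 K a b)) (hx : orderOf x = 41) :
    Nat.card (Subgroup.centralizer ({x} : Set (POmega K (quadFormMinus 3 K a b)))) = 41 := by
  have : Fact (Nat.Prime 3) := ⟨by norm_num⟩
  have : CharP K 3 := charP_of_card K (by norm_num) h
  refine selfcent (CForm.minusF K 3 a b hab) (minus_hB K 3 a b hab) (fun _ => rfl) (m := 4) (by norm_num)
    (by rw [h]; norm_num) (by norm_num) (by simp) ?_ (center_one K (p := 3) a b hab le_rfl (Or.inr ⟨h, by decide⟩))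
    ?_ ?_ x hx
  · intro i hi hi8
    rw [h]
    interval_cases i <;> norm_num
  · have := card_om83 K a b hab h
    change ¬ 41 ^ 2 ∣ Nat.card (POmega K (quadFormMinus 3 K a b))
    rw [this]
    norm_num
  · intro s hs hd
    rw [h] at hd
    have h1 : s ∣ 2 * 41 := by norm_num at hd ⊢; exact hd
    rcases hs.dvd_mul.1 h1 with h2 | h2
    · exact Or.inl ((Nat.prime_dvd_prime_iff_eq hs Nat.prime_two).1 h2)
    · exact Or.inr ((Nat.prime_dvd_prime_iff_eq hs (by norm_num)).1 h2)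

end minus

end Cfsg.Agent.H234.Eight
end

-- part: H234/Eight/OmSmall
section
/-!
# `PΩ⁻_8(3)` has at least eight character degrees (helper234, for S4899)

The degrees `1`, `246`, `819`, `3^12`, those below `59696`, `367360`, `9 · 59696`, and the degree of the exceptional
characters of the principal block for the prime `41`, which is congruent to `± 4` modulo `41`.
-/

set_option autoImplicit false
set_option linter.unusedSectionVars false

open Cfsg

namespace Cfsg.Agent.H234.Eight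

open Cfsg.Agent.H477.HC Module
open Cfsg.Agent.H664.Eight (Eight)
open Cfsg.Agent.H175.Eight (Blk exists_blk)

universe u v w

variable (K : Type u) [Field K] [Finite K] (a b : K)
  (hab : ∀ z₁ z₂ : K, z₁ ^ 2 + a * z₁ * z₂ + b * z₂ ^ 2 = 0 → z₁ = 0 ∧ z₂ = 0)

include hab in
/-- an exceptional degree, `PΩ⁻_8(3)` -/
theorem exists_exc83 (h : Nat.card K = 3) :
    ∃ d ∈ charDegrees (POmega K (quadFormMinus 3 K a b)), d % 41 = 4 ∨ d % 41 = 37 := by
  have : Fact (Nat.Prime 41) := ⟨by norm_num⟩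
  have : Finite (POmega K (quadFormMinus 3 K a b)) := Finite.of_surjective _ (QuotientGroup.mk'_surjective _)
  obtain ⟨NE, X, ε, D, B⟩ := exists_blk (p := 41) (e := 4) (t := 10) (by norm_num) (card_om83 K a b hab h)
    (by norm_num) (by norm_num) (order_of_cent (by norm_num) (cent83 K a b hab h)) (by norm_num) (by
      intro e' h1 h2 h3
      have h4 : e' ≤ 40 := Nat.le_of_dvd (by norm_num) h1
      interval_cases e' <;> revert h1 h2 h3 <;> decide +kernel)
  obtain ⟨χ, hχ⟩ : X.Nonempty := by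
    rw [← Finset.card_ne_zero, B.card_X]
    norm_num
  refine ⟨D, ⟨χ, B.degX χ hχ⟩, ?_⟩
  have h1 := B.sum_congr
  rcases B.sum with h2 | h2
  · rw [h2] at h1
    omega
  · rw [h2] at h1
    omega

theorem dvd_of_cof {r e t n : ℕ} (hr : r.Prime) (h2 : 2 < r) (ht : t ∣ 4) (h : n = e * t) (hn : r ∣ n) : r ∣ e := by
  rw [h] at hn
  refine (hr.dvd_mul.1 hn).resolve_right fun h3 => ?_
  have h4 : r ∣ 2 ^ 2 := h3.trans ht
  have h5 := (Nat.prime_dvd_prime_iff_eq hr Nat.prime_two).1 (hr.dvd_of_dvd_pow h4)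
  omega

/-- seven degrees and one in a different residue class -/
theorem eight_of'' {S : Type*} [Group S] [Finite S] {p b c g f s e d : ℕ} (hp : p.Prime) (hb : Ch S b) (hc : Ch S c)
    (hg : Ch S g) (hf : Ch S f) (hs : Ch S s) (he : Ch S e) (hd : d ∈ charDegrees S) (h1b : 1 < b) (hbc : b < c)
    (pb : ¬ p ∣ b) (pc : ¬ p ∣ c) (pg : p ∣ g) (pf : p ∣ f) (ps : p ∣ s) (pe : p ∣ e) (hgf : g < f) (hfs : f < s)
    (hfe : f < e) (hes : e ≠ s) (hd' : ∀ y ∈ [1, b, c, g, f, s, e], d ≠ y) : Eight S := by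
  have key : ∀ {x y : ℕ}, ¬ p ∣ x → p ∣ y → x ≠ y := fun h h' e => h (e ▸ h')
  have p1 : ¬ p ∣ 1 := hp.one_lt.ne' ∘ Nat.dvd_one.1
  refine Cfsg.Agent.H664.Eight.eight_of_list [d, 1, b, c, g, f, s, e] ?_ (by simp) ?_
  · rw [List.nodup_cons]
    refine ⟨fun h => hd' d h rfl, ?_⟩
    simp only [List.nodup_cons, List.mem_cons, List.not_mem_nil, or_false, not_or, not_false_eq_true, List.nodup_nil,
      and_true]
    exact ⟨⟨h1b.ne, (h1b.trans hbc).ne, key p1 pg, key p1 pf, key p1 ps, key p1 pe⟩,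
      ⟨hbc.ne, key pb pg, key pb pf, key pb ps, key pb pe⟩, ⟨key pc pg, key pc pf, key pc ps, key pc pe⟩,
      ⟨hgf.ne, (hgf.trans hfs).ne, (hgf.trans hfe).ne⟩, ⟨hfs.ne, hfe.ne⟩, hes.symm⟩
  · intro x hx
    simp only [List.mem_cons, List.not_mem_nil, or_false] at hx
    rcases hx with rfl | rfl | rfl | rfl | rfl | rfl | rfl | rfl
    · exact hd
    · exact Cfsg.Agent.H664.Eight.one_mem
    all_goals exact mem_of_ch (by assumption)

include hab in
/-- **`PΩ⁻_8(3)`** -/
theorem eight_om83 (h : Nat.card K = 3) : Eight (POmega K (quadFormMinus 3 K a b)) := by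
  have : Fact (Nat.Prime 3) := ⟨by norm_num⟩
  have : CharP K 3 := charP_of_card K (by norm_num) h
  have : Finite (POmega K (quadFormMinus 3 K a b)) := Finite.of_surjective _ (QuotientGroup.mk'_surjective _)
  have F := facts K (p := 3) a b hab (l := 3) le_rfl
  rw [h] at F
  obtain ⟨D, hD⟩ : ∃ D, D = dg (CForm.minusF K 3 a b hab) := ⟨_, rfl⟩
  rw [← hD] at F
  obtain ⟨f, g, e, N⟩ := F.num (by right; left; exact ⟨le_rfl, Or.inr ⟨rfl, by decide⟩⟩)
  obtain ⟨y, hy⟩ := F.dg 2 (by omega) (by right; left; exact ⟨le_rfl, Or.inr ⟨rfl, by decide⟩⟩)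
  obtain ⟨z, hz⟩ := F.dg 3 le_rfl (by left; exact le_rfl)
  obtain ⟨d, hd, hdm⟩ := exists_exc83 K a b hab h
  have p2 := F.pD 2 (by omega) (by omega)
  have p3 := F.pD 3 (by omega) (by omega)
  have hex2 := F.ex 2 (by omega) (by omega)
  have hex3 := F.ex 3 (by omega) (by omega)
  have eg := N.eg
  have ef := N.ef
  norm_num only [Finset.prod_range_succ] at hex2 hex3 eg ef
  have hD2 : D 2 = 59696 := by omega
  have hD3 : D 3 = 367360 := by omega
  have hg : g = 246 := by omega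
  have hf : f = 819 := by omega
  have hcq : cq 3 = 4 := cq_odd (by decide)
  have hyd := hy.dvd
  have hzd := hz.dvd
  obtain ⟨cy, y0, t, ht, hyt⟩ := hy
  obtain ⟨cz, z0, t', ht', hzt⟩ := hz
  obtain ⟨t'', ht'', het⟩ := N.de
  rw [hcq] at ht ht' ht''
  rw [hD2] at hyt
  rw [hD3] at hzt
  change D 2 * 3 ^ 2 = e * t'' at het
  rw [hD2] at het
  have m1 : 41 ∣ y := dvd_of_cof (by norm_num) (by norm_num) ht hyt (by norm_num)
  have m2 : 41 ∣ z := dvd_of_cof (by norm_num) (by norm_num) ht' hzt (by norm_num)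
  have m3 : 41 ∣ e := dvd_of_cof (by norm_num) (by norm_num) ht'' het (by norm_num)
  have t4 := Nat.le_of_dvd (by norm_num) ht
  have t4' := Nat.le_of_dvd (by norm_num) ht'
  have hyle : y ≤ 59696 := by
    rw [hyt]
    refine Nat.le_mul_of_pos_right _ (Nat.pos_of_ne_zero ?_)
    rintro rfl
    omega
  have hyge : 1 < y := by
    by_contra hlt
    have : y * t ≤ 1 * 4 := Nat.mul_le_mul (by omega) t4
    omega
  have hzge : 59696 < z := by
    by_contra hlt
    have : z * t' ≤ 59696 * 4 := Nat.mul_le_mul (by omega) t4'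
    omega
  refine eight_of'' F.hp cy cz N.cg N.cf F.st N.ce hd hyge (by omega) (fun h => p2 (h.trans hyd)) (fun h => p3 (h.trans hzd))
    N.pg N.pf (by norm_num) N.pe N.gf N.fs N.fe N.es ?_
  intro w hw hdw
  subst hdw
  simp only [List.mem_cons, List.not_mem_nil, or_false] at hw
  norm_num at hw
  omega

end Cfsg.Agent.H234.Eight
end

-- part: H532/Eight/Local
section
/-!
# Self-centralizing Sylow subgroups of some orthogonal groups of minus type (helper532, for S4899)

* `pow_full` : isometries commuting with an isometry of order `r`, `r` a primitive prime divisor of `q ^ (2 n) - 1`,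
  `2 n` the dimension; `pow_partial` : codimension two, `q = 2`;
* `selfcent_om82`, `selfcent_om83`, `selfcent_om102` : `PΩ⁻_8(2)`, `r = 17`; `PΩ⁻_8(3)`, `r = 41`; `PΩ⁻_10(2)`, `r = 17`.
-/

set_option autoImplicit false

namespace Cfsg.Agent.H532.Eight

open Module Cfsg Cfsg.Agent.H150
open Cfsg.Agent.LieClassical.OrthCount Cfsg.Agent.LieClassical.OmegaReindex
open Cfsg.Agent.H377

universe u

theorem selfcent_of_comm {G : Type*} [Group G] [Finite G] {r : ℕ} (hr : r.Prime) (h1 : r ∣ Nat.card G)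
    (h2 : ¬ r ^ 2 ∣ Nat.card G) (h3 : ∀ x y : G, x ^ r = 1 → x ≠ 1 → x * y = y * x → y ^ r = 1) :
    ∃ R : Subgroup G, Nat.card R = r ∧ Subgroup.centralizer (R : Set G) = R := by
  refine H732.SelfCent.selfcent_of_orders hr h1 h2 fun s hs hsd hsr g hg => ?_
  have h4 := h3 (g ^ s) g (by rw [← pow_mul, mul_comm s r, ← hg, pow_orderOf_eq_one]) (fun h => by
    have h5 := orderOf_dvd_of_pow_eq_one h
    rw [hg] at h5
    have h6 := Nat.le_of_dvd hs.pos h5
    have h7 := hr.two_le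
    have h8 := hs.pos
    nlinarith only [h6, h7, h8]) (by rw [← pow_succ, ← pow_succ'])
  have h5 := orderOf_dvd_of_pow_eq_one h4
  rw [hg] at h5
  have h6 := Nat.le_of_dvd hr.pos h5
  have h7 := hs.two_le
  have h8 := hr.pos
  nlinarith only [h6, h7, h8]

section gen

variable {F : Type*} [Field F] [Finite F] {ι : Type} [Fintype ι] [DecidableEq ι] (Q : QuadraticForm F (ι → F))
  (hQ : (QuadraticMap.polarBilin Q).Nondegenerate) {n : ℕ} (hdim : finrank F (ι → F) = 2 * n)
  {r : ℕ} (hr : r.Prime) (hrF : (r : F) ≠ 0)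

include hQ hdim hr hrF

omit [DecidableEq ι] in
/-- `x` acts irreducibly -/
theorem pow_full (hn : 1 ≤ n) (hk : orderOf ((Nat.card F : ℕ) : ZMod r) = 2 * n) (hd : r ∣ Nat.card F ^ n + 1)
    (X Y : OG Q) (hX : X ^ r = 1) (hX1 : X ≠ 1) (hXY : X * Y = Y * X) :
    Y ^ (Nat.card F ^ n + 1) = 1 ∧ (Y ^ 2 = 1 → Y = 1 ∨ ∀ v, (Y : (ι → F) ≃ₗ[F] (ι → F)) v = -v) := by
  have hnd : ND Q := fun u hu => hQ.1 u hu
  set x : (ι → F) →ₗ[F] (ι → F) := ((X : (ι → F) ≃ₗ[F] (ι → F)) : (ι → F) →ₗ[F] (ι → F)) with hxdef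
  set y : (ι → F) →ₗ[F] (ι → F) := ((Y : (ι → F) ≃ₗ[F] (ι → F)) : (ι → F) →ₗ[F] (ι → F)) with hydef
  have hx : x ^ r = 1 := (og_pow_eq_one_iff X x (fun v => rfl) r).1 hX
  have hx1 : x ≠ 1 := by
    intro h1
    apply hX1
    rw [← pow_one X, og_pow_eq_one_iff X x (fun v => rfl), pow_one]
    exact h1
  have hxy : ∀ v, x (y v) = y (x v) := fun v =>
    congrArg (fun Z : OG Q => (Z : (ι → F) ≃ₗ[F] (ι → F)) v) hXY
  have hxQ : ∀ v, Q (x v) = Q v := fun v => X.2 v
  have hyQ : ∀ v, Q (y v) = Q v := fun v => Y.2 v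
  have hB : ∀ v w, QuadraticMap.polarBilin Q (x v) (x w) = QuadraticMap.polarBilin Q v w :=
    fun v w => H150.polar_isom Q x hxQ v w
  have hBy : ∀ v w, QuadraticMap.polarBilin Q (y v) (y w) = QuadraticMap.polarBilin Q v w :=
    fun v w => H150.polar_isom Q y hyQ v w
  have hxM := (range_inv (x := x) (y := x) (fun v => rfl)).1
  have hkd := dvd_finrank_of_fpf_submodule hr x hx _ hxM (fpf_range hrF x hx)
  rw [hk] at hkd
  have hM := finrank_range_le_of_dvd hx1 hkd hdim (by omega)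
  have hfpf := fpf_of_dim hrF x hx (by rw [hM, hdim])
  have hirr := irr_of_dvd hr x hx hfpf (by rw [hk, hdim])
  have hnt : Nontrivial (ι → F) := by
    apply Module.nontrivial_of_finrank_pos (R := F)
    rw [hdim]
    omega
  have hcomm : Commute x y := LinearMap.ext hxy
  have hnd' : ∀ u, (∀ v, QuadraticMap.polarBilin Q v u = 0) → u = 0 := fun u hu => hnd u fun v => by
    have := hu v
    rwa [QuadraticMap.polarBilin_apply_apply, QuadraticMap.polar_comm] at this
  refine ⟨?_, fun h2 => ?_⟩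
  · rw [og_pow_eq_one_iff Y y (fun v => rfl)]
    exact irr_pow (QuadraticMap.polarBilin Q) hnd' hr.pos x y hcomm hirr hx hB hBy hd
  · have h3 : y ^ 2 = 1 := (og_pow_eq_one_iff Y y (fun v => rfl) 2).1 h2
    rcases irr_eq_one_or_neg_one x y hcomm hirr h3 with h | h
    · left
      rw [← pow_one Y, og_pow_eq_one_iff Y y (fun v => rfl), pow_one]
      exact h
    · right
      intro v
      exact LinearMap.congr_fun h v

end gen

/-- transfer from the isometry group -/
theorem selfcent_pomega {F : Type*} [Field F] [Finite F] {ι : Type} [Fintype ι] [DecidableEq ι]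
    (Q : QuadraticForm F (ι → F)) (hcen : ∀ z : Omega F (⇑Q), z ∈ Subgroup.center (Omega F (⇑Q)) → z = 1) {r : ℕ}
    (hr : r.Prime) (h1 : r ∣ Nat.card (POmega F (⇑Q))) (h2 : ¬ r ^ 2 ∣ Nat.card (POmega F (⇑Q)))
    (h3 : ∀ X Y : OG Q, X ^ r = 1 → X ≠ 1 → X * Y = Y * X → Y ∈ commutator (OG Q) → Y ^ r = 1) :
    ∃ R : Subgroup (POmega F (⇑Q)), Nat.card R = r ∧
      Subgroup.centralizer (R : Set (POmega F (⇑Q))) = R := by
  have hbot : Subgroup.center (Omega F (⇑Q)) = ⊥ := (Subgroup.eq_bot_iff_forall _).2 hcen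
  let e : POmega F (⇑Q) ≃* Omega F (⇑Q) :=
    (QuotientGroup.quotientMulEquivOfEq hbot).trans QuotientGroup.quotientBot
  rw [Nat.card_congr e.toEquiv] at h1 h2
  refine H732.SelfCent.selfcent_congr e.symm (selfcent_of_comm hr h1 h2 fun x y hx hx1 hxy => ?_)
  have key : ∀ (z : Omega F (⇑Q)) (j : ℕ), (isometryGroupEquiv Q z.1) ^ j = 1 ↔ z ^ j = 1 := by
    intro z j
    rw [← map_pow, MulEquiv.map_eq_one_iff, ← Subgroup.coe_pow, OneMemClass.coe_eq_one]
  have hY : isometryGroupEquiv Q y.1 ∈ commutator (OG Q) := (mem_commutator_congr (isometryGroupEquiv Q) y.1).2 y.2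
  refine (key y r).1 (h3 (isometryGroupEquiv Q x.1) (isometryGroupEquiv Q y.1) ((key x r).2 hx) (fun h => hx1 ?_) ?_ hY)
  · have := (key x 1).1 (by rw [pow_one]; exact h)
    rwa [pow_one] at this
  · rw [← map_mul, ← map_mul]
    exact (congrArg (fun z : Omega F (⇑Q) => isometryGroupEquiv Q z.1) hxy :)

section rows

variable {F : Type} [Field F] [Fintype F]

/-- the centre in characteristic two -/
theorem center_two (hF : Fintype.card F = 2) {m : ℕ} (hm : 1 ≤ m) (a b : F)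
    (hab : ∀ z₁ z₂ : F, z₁ ^ 2 + a * z₁ * z₂ + b * z₂ ^ 2 = 0 → z₁ = 0 ∧ z₂ = 0)
    (z : Omega F (quadFormMinus m F a b)) (hz : z ∈ Subgroup.center (Omega F (quadFormMinus m F a b))) : z = 1 := by
  have h2 : (2 : F) = 0 := by
    have h := Nat.cast_card_eq_zero F
    rw [hF] at h
    exact_mod_cast h
  have hneg : (-1 : Matrix ((Fin m ⊕ Fin m) ⊕ Fin 2) ((Fin m ⊕ Fin m) ⊕ Fin 2) F) = 1 := by
    rw [neg_eq_iff_add_eq_zero, ← two_mul, ← Matrix.ext_iff]
    intro i j
    simp only [Matrix.ofNat_apply, h2, _root_.mul_one, _root_.Matrix.ofNat_apply, _root_.Nat.cast_ite, _root_.Nat.cast_ofNat, _root_.Nat.cast_zero, _root_.ite_self, _root_.Matrix.zero_apply]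
  have h := H477.HC.cen_minus F hm a b hab z hz
  rw [hneg, or_self] at h
  apply Subtype.ext
  apply Subtype.ext
  apply Units.ext
  exact h

/-! ### orders -/

theorem card_om82 (hF : Fintype.card F = 2) (a b : F)
    (hab : ∀ z₁ z₂ : F, z₁ ^ 2 + a * z₁ * z₂ + b * z₂ ^ 2 = 0 → z₁ = 0 ∧ z₂ = 0) :
    Nat.card (POmega F (quadFormMinus 3 F a b)) = 197406720 := by
  have h := Cfsg.Agent.S0294.result (F := F) hF 4 le_rfl a b hab
  simp only [Finset.prod_range_succ, Finset.prod_range_zero] at h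
  norm_num only [_root_.one_mul] at h
  exact h

/-! ### self-centralizing Sylow subgroups -/

theorem selfcent_om82 (hF : Fintype.card F = 2) (a b : F)
    (hab : ∀ z₁ z₂ : F, z₁ ^ 2 + a * z₁ * z₂ + b * z₂ ^ 2 = 0 → z₁ = 0 ∧ z₂ = 0) :
    ∃ R : Subgroup (POmega F (quadFormMinus 3 F a b)), Nat.card R = 17 ∧
      Subgroup.centralizer (R : Set (POmega F (quadFormMinus 3 F a b))) = R := by
  have hqe : Nat.card F = 2 := by rw [Nat.card_eq_fintype_card, hF]
  have hcard := card_om82 hF a b hab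
  have hcen := center_two hF (m := 3) (by norm_num) a b hab
  have hdim : finrank F ((Fin 3 ⊕ Fin 3) ⊕ Fin 2 → F) = 2 * 4 := by simp
  have hnd := quadMinus_nondegenerate (m := 3) (F := F) hab
  rw [← coe_quadMinus] at hcard hcen ⊢
  refine selfcent_pomega (quadMinus 3 F a b) hcen (by norm_num) (by rw [hcard]; norm_num) (by rw [hcard]; norm_num)
    fun X Y hX hX1 hXY _ => ?_
  have hrF : ((17 : ℕ) : F) ≠ 0 := natCast_ne_zero_of_not_dvd (by norm_num) (by rw [hqe]; norm_num)
  have h := (pow_full (quadMinus 3 F a b) hnd hdim (r := 17) (by norm_num) hrF (by norm_num)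
    (by rw [hqe]; exact H732.SelfCent.ord_eq (by norm_num) (by decide) (by decide)) (by rw [hqe]; norm_num)
    X Y hX hX1 hXY).1
  rw [hqe] at h
  exact h

end rows

end Cfsg.Agent.H532.Eight
end

-- part: H532/Eight/Tools
section
/-!
# Tools for the number of character degrees of some orthogonal groups (helper532, for S4899)

* `exists_blk` : the principal `p`-block of a simple group with a self-centralizing subgroup of order `p`;
* `exists_odd` : a nontrivial odd degree from the symmetric and the alternating square of a character;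
* `eq_mem_of` : the fourth degree from three degrees of the block (`e = 4`);
* `st_deg` : the Steinberg degree;
* `card_stab_dvd` : `|F.Om k| * |GL_k(q)|` divides `|F.iso|`; `hc_deg` : the degree divides `dg F k`.
-/

set_option autoImplicit false

namespace Cfsg.Agent.H532.Eight

open Module Cfsg Subgroup
open Cfsg.Agent.Characters.Core Cfsg.Agent.Blocks.Basic
open Cfsg.Agent.SmallSimple.LocalData Cfsg.Agent.SmallSimple.DegreeData Cfsg.Agent.H424.BlockTools
  Cfsg.Agent.H424.BlockTools2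

universe u v w

/-! ### blocks -/

section blocks

variable {G : Type u} [Group G] [Finite G]

theorem exists_blk [IsSimpleGroup G] (hG : ¬ IsMulCommutative G) {n p e t : ℕ} [Fact p.Prime] (hp2 : p ≠ 2)
    (hn : Nat.card G = n) (h1 : p ∣ n) (h2 : ¬ p ^ 2 ∣ n) (hmod : n / p % p = e) (he : e < p) (ht : e * t = p - 1)
    (R : Subgroup G) (hR : Nat.card R = p) (hC : centralizer (R : Set G) = R) :
    ∃ (P : Sylow p G) (M : Ideal AlgInt) (_ : IsPModular p M) (_ : BlockData p M P e t), Nat.card P = p ∧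
      Nat.card (centralizer (P : Set G)) = p := by
  subst hn
  have hp : p.Prime := Fact.out
  obtain ⟨e', k, h, -⟩ := exists_data hG hp hp2 h1 h2
  obtain ⟨P, hP⟩ := exists_sylow_eq hp h2 R hR
  have h3 := h.card_centralizer P
  have hp0 := hp.pos
  have hk : k = 1 := by
    have h4 : centralizer (P : Set G) = R := by
      have : ((P : Subgroup G) : Set G) = (R : Set G) := congrArg _ hP
      rw [← hC, ← this]
      rfl
    rw [h4, hR] at h3
    exact (Nat.eq_of_mul_eq_mul_left hp0 (by rw [← h3, mul_one])).symm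
  subst hk
  obtain ⟨K, hK, -⟩ := h.loc P
  have hp1 := hp.two_le
  have he' := Nat.le_of_dvd (by omega) hK.dvd_pred
  have h5 := h.card_sylow_mul
  have h6 : Nat.card (Sylow p G) % p = 1 := by
    have := card_sylow_modEq_one p G
    unfold Nat.ModEq at this
    rwa [Nat.mod_eq_of_lt (a := 1) (by omega)] at this
  have h7 : Nat.card G / p = Nat.card (Sylow p G) * e' := by
    rw [← h5, mul_one, show Nat.card (Sylow p G) * (p * e') = p * (Nat.card (Sylow p G) * e') by ring,
      Nat.mul_div_cancel_left _ hp0]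
  rw [h7, Nat.mul_mod, h6, one_mul, Nat.mod_mod, Nat.mod_eq_of_lt (by omega)] at hmod
  subst hmod
  obtain ⟨M, hM, ⟨D⟩⟩ := exists_block h hp2 P (t := t) ht
  refine ⟨P, M, hM, D, h.card_eq P, ?_⟩
  rw [h3, mul_one]

/-- the fourth degree of a block with `e = 4` -/
theorem exists_third {p t : ℕ} {M : Ideal AlgInt} {P : Sylow p G} (D : BlockData p M P 4 t) {u v : ℤ} (hu : u ∈ D.degs)
    (hv : v ∈ D.degs) (huv : u ≠ v) : ∃ x ∈ D.degs, D.degs.sum = u + v + x ∧
      (D.degs.map (· ^ 2)).sum = u ^ 2 + v ^ 2 + x ^ 2 := by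
  have hlen : D.degs.length = 3 := by
    have := D.length_degs
    omega
  obtain ⟨a, b, c, habc⟩ := List.length_eq_three.1 hlen
  rw [habc] at hu hv ⊢
  simp only [List.mem_cons, List.not_mem_nil, or_false] at hu hv
  simp only [List.mem_cons, List.not_mem_nil, or_false, exists_eq_or_imp, exists_eq_left, List.sum_cons, List.sum_nil,
    add_zero, List.map_cons, List.map_nil]
  rcases hu with rfl | rfl | rfl <;> rcases hv with rfl | rfl | rfl
  · exact absurd rfl huv
  · exact Or.inr (Or.inr ⟨by ring, by ring⟩)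
  · exact Or.inr (Or.inl ⟨by ring, by ring⟩)
  · exact Or.inr (Or.inr ⟨by ring, by ring⟩)
  · exact absurd rfl huv
  · exact Or.inl ⟨by ring, by ring⟩
  · exact Or.inr (Or.inl ⟨by ring, by ring⟩)
  · exact Or.inl ⟨by ring, by ring⟩
  · exact absurd rfl huv

/-- the signed degrees: a degree `≡ -1` -/
theorem neg_mem {p e t : ℕ} [Fact p.Prime] {M : Ideal AlgInt} (hM : IsPModular p M)
    {P : Sylow p G} (D : BlockData p M P e t) (hP : Nat.card P = p)
    (hC : Nat.card (centralizer (P : Set G)) = p) (ht : e * t = p - 1) {d : ℕ}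
    (hd : d ∈ charDegrees G) (hpd : (d : ℤ) ≡ -1 [ZMOD p]) (hp3 : 3 ≤ p) (he1 : 1 < e) (he2 : e + 1 < p) (hd1 : d ≠ 1) :
    -(d : ℤ) ∈ D.degs := by
  have hp0 : (0 : ℤ) < p := by omega
  have hnd : ∀ z : ℤ, (p : ℤ) ∣ z → |z| < p → z = 0 := fun z h1 h2 => Int.eq_zero_of_abs_lt_dvd h1 h2
  rcases degree_cases hM D hP hC ht hd (fun h => by
    have h1 : (d : ℤ) ≡ 0 [ZMOD p] := (Int.modEq_zero_iff_dvd).2 (by exact_mod_cast h)
    have h2 := (h1.symm.trans hpd).dvd
    have h3 := hnd _ h2 (by norm_num; omega)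
    omega) with h | ⟨z, hz, h⟩ | h
  · exact absurd h hd1
  · have h1 := (D.degs_spec hP z hz).1
    rcases Int.natAbs_eq z with h2 | h2
    · exfalso
      rw [h] at h2
      rw [h2] at h1
      have h3 := (h1.symm.trans hpd).dvd
      have h4 := hnd _ h3 (by norm_num; omega)
      omega
    · rw [h] at h2
      rwa [← h2]
  · exfalso
    have h1 := D.dexc_modEq hP ht
    rw [← D.dexc_eq ht] at h1
    rcases Int.natAbs_eq (1 + D.degs.sum) with h2 | h2
    · rw [← h] at h2
      rw [h2] at h1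
      have h3 := (hpd.symm.trans h1).dvd
      have h4 := hnd _ h3 (by rw [abs_lt]; constructor <;> omega)
      omega
    · rw [← h] at h2
      rw [h2] at h1
      have h3 := ((hpd.neg.symm.trans h1)).dvd
      have h4 := hnd _ h3 (by rw [abs_lt]; constructor <;> omega)
      omega

/-- an odd nontrivial degree -/
theorem exists_odd [IsSimpleGroup G] (hG : ¬ (Nat.card G).Prime) (h2 : 2 ∣ Nat.card G) {d a b : ℕ}
    (hd : d ∈ charDegrees G) (ha : d ^ 2 = 2 * a + d) (hb : 2 * b = d ^ 2 + d) (hao : Odd a) (hbo : Odd b) :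
    ∃ k ∈ charDegrees G, Odd k ∧ 3 ≤ k ∧ k ≤ b := by
  classical
  have := Fintype.ofFinite G
  have : Finite (IrrCharacter G) := finite_irr
  have := Fintype.ofFinite (IrrCharacter G)
  obtain ⟨χ, hχ⟩ := hd
  have hχ1 : (χ : G → ℂ) 1 = d := by rw [irr_one_eq_charDegree χ.2, hχ]
  have hc := isIrr_isCharacter χ.2
  obtain ⟨m₁, hm₁⟩ := exists_nat_comb (PermChar.SymAlt.isCharacter_symSq hc)
  obtain ⟨m₂, hm₂⟩ := exists_nat_comb (PermChar.SymAlt.isCharacter_altSq hc)
  let one : IrrCharacter G := ⟨1, isIrr_one⟩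
  have h01 : m₁ one = 0 ∨ m₂ one = 0 := by
    have e1 := classInner_sum_nsmul_irr m₁ one
    have e2 := classInner_sum_nsmul_irr m₂ one
    rw [← hm₁] at e1
    rw [← hm₂] at e2
    have e3 := classInner_irr χ.2 (isIrr_conj χ.2)
    have e4 : classInner (χ : G → ℂ) (fun g => (starRingEnd ℂ) ((χ : G → ℂ) g)) =
        ((m₁ one + m₂ one : ℕ) : ℂ) := by
      push_cast
      rw [← e1, ← e2, ← classInner_add_left, Characters.Core.classInner_def, Characters.Core.classInner_def]
      congr 1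
      refine Finset.sum_congr rfl fun g _ => ?_
      simp only [Pi.add_apply, Complex.conj_conj]
      change _ = _ * (starRingEnd ℂ) ((1 : G → ℂ) g)
      rw [Pi.one_apply, map_one]
      ring
    rw [e4] at e3
    have e5 : m₁ one + m₂ one ≤ 1 := by
      split_ifs at e3
      · have : m₁ one + m₂ one = 1 := by exact_mod_cast e3
        omega
      · have : m₁ one + m₂ one = 0 := by exact_mod_cast e3
        omega
    omega
  have key : ∀ (m : IrrCharacter G → ℕ) (ψ : G → ℂ) (n : ℕ), ψ = ∑ φ : IrrCharacter G, m φ • (φ : G → ℂ) → ψ 1 = n →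
      Odd n → m one = 0 → ∃ k ∈ charDegrees G, Odd k ∧ 3 ≤ k ∧ k ≤ n := by
    intro m ψ n hm hψ hn h0
    have h4 : (n : ℂ) = ((∑ φ : IrrCharacter G, m φ * charDegree (φ : G → ℂ) : ℕ) : ℂ) := by
      rw [← hψ, hm, Finset.sum_apply]
      push_cast
      refine Finset.sum_congr rfl fun φ _ => ?_
      rw [Pi.smul_apply, irr_one_eq_charDegree φ.2, nsmul_eq_mul]
    have h5 : n = ∑ φ : IrrCharacter G, m φ * charDegree (φ : G → ℂ) := by exact_mod_cast h4
    obtain ⟨φ, hφ⟩ : ∃ φ : IrrCharacter G, Odd (m φ * charDegree (φ : G → ℂ)) := by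
      by_contra hcon
      push Not at hcon
      have h6 : Even n := by
        rw [h5]
        refine Finset.even_sum _ fun φ _ => ?_
        have := hcon φ
        rwa [Nat.not_odd_iff_even] at this
      exact (Nat.not_even_iff_odd.2 hn) h6
    obtain ⟨h7, h8⟩ := Nat.odd_mul.1 hφ
    have hφ1 : φ ≠ one := fun h => by
      rw [h, h0] at h7
      exact absurd h7 (by decide)
    refine ⟨_, ⟨φ, rfl⟩, h8, three_le hG h2 φ.2 (fun h => hφ1 (Subtype.ext h)), ?_⟩
    have h9 : 1 ≤ m φ := h7.pos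
    rw [h5]
    calc charDegree (φ : G → ℂ) = 1 * charDegree (φ : G → ℂ) := (one_mul _).symm
      _ ≤ m φ * charDegree (φ : G → ℂ) := Nat.mul_le_mul_right _ h9
      _ ≤ _ := Finset.single_le_sum (f := fun φ : IrrCharacter G => m φ * charDegree (φ : G → ℂ))
          (fun _ _ => Nat.zero_le _) (Finset.mem_univ φ)
  have hab : a ≤ b := by linarith only [ha, hb]
  rcases h01 with h0 | h0
  · exact key m₁ _ b hm₁ (by
      have : (2 * b : ℂ) = d ^ 2 + d := by exact_mod_cast hb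
      simp only [mul_one, hχ1]
      rw [← this]
      ring) hbo h0
  · obtain ⟨k, h1, h3, h4, h5⟩ := key m₂ _ a hm₂ (by
      have : (d : ℂ) ^ 2 = 2 * a + d := by exact_mod_cast ha
      simp only [mul_one, hχ1]
      rw [this]
      ring) hao h0
    exact ⟨k, h1, h3, h4, h5.trans hab⟩

end blocks

/-! ### degrees -/

theorem Ch_mem {S : Type*} [Group S] {d : ℕ} (h : H477.HC.Ch S d) : d ∈ charDegrees S := by
  obtain ⟨χ, hχ⟩ := h.exists_irr
  exact ⟨χ, hχ⟩

theorem st_deg {p : ℕ} (hp : p.Prime) {T : Type u} [Group T] [Finite T] [IsSimpleGroup T]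
    (h : IsLieTypeChar p T) {n m k : ℕ} (hn : Nat.card T = n) (hk : n = p ^ k * m) (hm : ¬ p ∣ m) :
    p ^ k ∈ charDegrees T := by
  obtain ⟨χ, hχ, h1, -⟩ := H167.StChar.hasSt_of_lie hp h
  refine ⟨⟨χ, hχ⟩, Blocks.Knorr.charDegree_of_natCast ?_⟩
  change χ 1 = _
  have : Fact p.Prime := ⟨hp⟩
  have hm0 : m ≠ 0 := by
    rintro rfl
    exact hm (dvd_zero p)
  have h2 : n.factorization p = k := by
    rw [Nat.factorization_def _ hp, hk, padicValNat.mul (pow_ne_zero _ hp.ne_zero) hm0,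
      padicValNat.prime_pow, padicValNat.eq_zero_of_not_dvd hm, add_zero]
  rw [h1, hn, h2]

/-! ### Harish-Chandra characters -/

section hc

open Cfsg.Agent.H477.HC Cfsg.Agent.H53.HC

theorem card_Om_mul_dvd {K : Type u} [Field K] {V : Type v} [AddCommGroup V] [Module K V] (F : CForm K V)
    [FiniteDimensional K V] [Finite V] {k : ℕ} {W₀ : Submodule K V} (hW₀ : W₀ ∈ F.Om k) :
    Nat.card (F.Om k) * Nat.card (GL (Fin k) K) ∣ Nat.card F.iso := by
  classical
  have : Finite (V ≃ₗ[K] V) := Finite.of_injective (fun e : V ≃ₗ[K] V => (e : V → V)) DFunLike.coe_injective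
  rw [F.card_iso_eq hW₀]
  refine Nat.mul_dvd_mul_left _ ?_
  have e3 : Nat.card (W₀ ≃ₗ[K] W₀) = Nat.card (GL (Fin k) K) :=
    Nat.card_congr (glE (finBasisOfFinrankEq K W₀ hW₀.2)).toEquiv
  rw [← e3]
  refine Subgroup.card_dvd_of_surjective (resHom F.iso.subtype W₀) fun a => ?_
  obtain ⟨g, hg⟩ := F.exists_levi' hW₀.1 a
  have hgW : W₀.map (F.iso.subtype g : V →ₗ[K] V) = W₀ := map_eq_of_le F.iso.subtype fun w hw => by
    have := hg ⟨w, hw⟩
    change (g : V ≃ₗ[K] V) w ∈ W₀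
    rw [this]
    exact (a ⟨w, hw⟩).2
  refine ⟨⟨g, hgW⟩, ?_⟩
  ext w
  exact hg w

/-- the degrees of `PΩ`, with an upper bound -/
theorem om_ch' {ι : Type} [Fintype ι] [DecidableEq ι] {K : Type u} [Field K] [Finite K] (F : CForm K (ι → K))
    (hB : ∀ u v, F.B u v = F.Q (u + v) - F.Q u - F.Q v) {k : ℕ} {W₀ : Submodule K (ι → K)} (hW₀ : W₀ ∈ F.Om k)
    {Z : Kˣ → Prop} {c : GL (Fin k) K → ℂ} (hc : Cus K k F.σ Z c)
    (hcen : ∀ z : Omega K F.Q, z ∈ Subgroup.center (Omega K F.Q) → ∃ a : Kˣ, Z a ∧ ∀ v, (omMat z).mulVec v = (a : K) • v)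
    (hidx : (Omega K F.Q).index ∣ 8) :
    ∃ e, Ch (POmega K F.Q) e ∧ (∀ t a, t.Prime → t ≠ 2 → t ^ a ∣ dg F k → t ^ a ∣ e) ∧ e ∣ dg F k := by
  obtain ⟨χ, hχ, hχ1, hχz⟩ := om_char F hB hW₀ hc
  have hz : ∀ z : Omega K F.Q, z ∈ Subgroup.center (Omega K F.Q) → χ z = χ 1 := by
    intro z hz
    obtain ⟨a, ha, h⟩ := hcen z hz
    exact hχz z a ha h
  obtain ⟨e, h1, h2, h3, h4⟩ := ch_down (Omega K F.Q) hχ hχ1 hz
  refine ⟨e, h1, fun t a ht ht2 hd => ?_, h2⟩
  refine pow_dvd_of_down ht h2 h3 h4 (b := 0) hd fun h => ?_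
  rw [zero_add, pow_one] at h
  have h5 : t ∣ 2 ^ 3 := h.trans hidx
  exact ht2 ((Nat.prime_dvd_prime_iff_eq ht Nat.prime_two).1 (ht.dvd_of_dvd_pow h5))

/-- the degree of `PΩ⁻` from the maximal totally singular subspaces -/
theorem top_deg {K : Type u} [Field K] [Finite K] {p : ℕ} [Fact p.Prime] [CharP K p] (a b : K)
    (hab : ∀ z₁ z₂ : K, z₁ ^ 2 + a * z₁ * z₂ + b * z₂ ^ 2 = 0 → z₁ = 0 ∧ z₂ = 0) {l : ℕ} (hl : 3 ≤ l) :
    ∃ e, e ∈ charDegrees (POmega K (quadFormMinus l K a b)) ∧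
      (∀ t c, t.Prime → t ≠ 2 → t ≠ p → t ^ c ∣ M1 (Nat.card K) l → t ^ c ∣ e) ∧
      e ∣ dg (CForm.minusF K (l + 0) a b hab) l ∧
      Nat.card ((CForm.minusF K (l + 0) a b hab).Om l) * Nat.card (GL (Fin l) K) ∣
        Nat.card (CForm.minusF K (l + 0) a b hab).iso := by
  obtain ⟨⟨W₀, hW₀⟩, -⟩ := CForm.minusF_frame (K := K) (p := p) hab l 0
  obtain ⟨c, hc⟩ := exists_cus_sq K rfl l (by omega) (fun _ => hl) (fun _ => hl) (fun _ => by omega)
  obtain ⟨e, h1, h2, h3⟩ := om_ch' (CForm.minusF K (l + 0) a b hab) (minus_hB K (l + 0) a b hab) hW₀ hc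
      (fun z hz => scal_of (cen_minus K (by omega) a b hab z hz)) (minus_idx K a b hab hl)
  obtain ⟨s, hs⟩ := minus_dvd_top K (p := p) a b hab (l := l) (by omega)
  refine ⟨e, (Ch_mem h1 :), fun t c ht ht2 htp h => h2 t c ht ht2 ?_, h3, card_Om_mul_dvd _ hW₀⟩
  exact prime_pow_dvd ht Fact.out htp (h.trans hs)

end hc

end Cfsg.Agent.H532.Eight
end

-- part: H532/Eight/Small82
section
/-!
# At least eight character degrees: `PΩ⁻_8(2)` (helper532, for S4899)
-/

set_option autoImplicit false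

namespace Cfsg.Agent.H532.Eight

open Module Cfsg Subgroup
open Cfsg.Agent.Characters.Core
open Cfsg.Agent.SmallSimple.LocalData Cfsg.Agent.SmallSimple.DegreeData Cfsg.Agent.H424.BlockTools
  Cfsg.Agent.H424.BlockTools2

/-- `PΩ⁻_8(2)` has at least eight character degrees. -/
theorem eight_om82 {F : Type} [Field F] [Fintype F] (hF : Fintype.card F = 2) (a b : F)
    (hab : ∀ z₁ z₂ : F, z₁ ^ 2 + a * z₁ * z₂ + b * z₂ ^ 2 = 0 → z₁ = 0 ∧ z₂ = 0) :
    H664.Eight.Eight (POmega F (quadFormMinus 3 F a b)) := by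
  have hp2 : Fact (Nat.Prime 2) := ⟨Nat.prime_two⟩
  have h17 : Fact (Nat.Prime 17) := ⟨by norm_num⟩
  have hchar : CharP F 2 := charP_of_card_eq_prime hF
  have hq : Nat.card F = 2 := by rw [Nat.card_eq_fintype_card, hF]
  have hs : IsSimpleGroup (POmega F (quadFormMinus 3 F a b)) := S0297.result (F := F) 4 le_rfl a b hab
  have hcard := card_om82 hF a b hab
  have hG := SmallSimple.OrdersA.not_comm hcard (by norm_num)
  -- the Steinberg character
  have h4096 : 4096 ∈ charDegrees (POmega F (quadFormMinus 3 F a b)) := by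
    have hlie : IsLieTypeChar 2 (POmega F (quadFormMinus 3 F a b)) :=
      Or.inr (Or.inr (Or.inr (Or.inr (Or.inr (Or.inl ⟨F, inferInstance, inferInstance, hchar, 4, a, b, le_rfl, hab,
        ⟨MulEquiv.refl _⟩⟩)))))
    have := st_deg Nat.prime_two hlie hcard (k := 12) (m := 48195) (by norm_num) (by norm_num)
    norm_num at this
    exact this
  -- the rank 3 characters
  obtain ⟨s, t, hs1, ht1, hs2, ht2⟩ := H477.HC.rk3_minus F a b hab (l := 3) le_rfl
  rw [hq] at hs2 ht2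
  norm_num at hs2 ht2
  have h84 : 84 ∈ charDegrees (POmega F (quadFormMinus 3 F a b)) := by
    have : s = 84 := by omega
    rw [← this]
    exact Ch_mem hs1
  have h34 : 34 ∈ charDegrees (POmega F (quadFormMinus 3 F a b)) := by
    have : t = 34 := by omega
    rw [← this]
    exact Ch_mem ht1
  -- the Harish-Chandra induced character
  obtain ⟨e, he, he1, -⟩ := top_deg (p := 2) a b hab (l := 3) le_rfl
  rw [hq] at he1
  have e17 : 17 ^ 1 ∣ e := he1 17 1 (by norm_num) (by norm_num) (by norm_num) (by decide)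
  have e5 : 5 ^ 1 ∣ e := he1 5 1 (by norm_num) (by norm_num) (by norm_num) (by decide)
  have e9 : 3 ^ 2 ∣ e := he1 3 2 (by norm_num) (by norm_num) (by norm_num) (by decide)
  have he0 : e ∣ 197406720 := by
    obtain ⟨χ, rfl⟩ := he
    simp only [← hcard]
    exact Blocks.Knorr.charDegree_dvd χ.2
  have hepos : 0 < e := Nat.pos_of_dvd_of_pos he0 (by norm_num)
  obtain ⟨j, hj, hj0⟩ : ∃ j, e = 765 * j ∧ 0 < j := by
    have h1 : 17 ^ 1 * 5 ^ 1 * 3 ^ 2 ∣ e :=
      Nat.Coprime.mul_dvd_of_dvd_of_dvd (by norm_num) (Nat.Coprime.mul_dvd_of_dvd_of_dvd (by norm_num) e17 e5) e9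
    norm_num at h1
    obtain ⟨j, hj⟩ := h1
    exact ⟨j, hj, by (clear * - hepos hj; omega)⟩
  clear e17 e5 e9 he0 he1
  -- the block
  obtain ⟨R, hR, hC⟩ := selfcent_om82 hF a b hab
  obtain ⟨P, M, hM, D, hP, hCP⟩ := exists_blk hG (p := 17) (e := 4) (t := 4) (by norm_num) hcard (by norm_num)
    (by norm_num) (by norm_num) (by norm_num) (by norm_num) R hR hC
  have c1 := neg_mem hM D hP hCP (by norm_num) h84 (by decide) (by norm_num) (by norm_num) (by norm_num) (by norm_num)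
  have c2 := neg_mem hM D hP hCP (by norm_num) h4096 (by decide) (by norm_num) (by norm_num) (by norm_num) (by norm_num)
  obtain ⟨x, hx, hx1, hx2⟩ := exists_third D c1 c2 (by norm_num)
  have hE := D.f_dvd (by norm_num)
  rw [← D.natAbs_dexc, ← D.dexc_eq (by norm_num), hx1, hcard] at hE
  have hsq := D.sum_sq_le
  rw [hx2, hcard] at hsq
  obtain ⟨hx3, hx4, -⟩ := D.degs_spec hP x hx
  have hxsq : x ^ 2 ≤ 197406720 := by
    have : (0 : ℤ) ≤ ((4 : ℕ) : ℤ) * (D.f : ℤ) ^ 2 := by (clear * -; positivity)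
    push_cast at hsq this
    linarith only [hsq, _root_.sq_nonneg (↑D.f : ℤ)]
  rw [hcard] at hx4
  have hx5 : x ∈ ([1344] : List ℤ) := by
    refine SmallSimple.DegreeSearch.mem_of_all (p := 17) (r := 1) (by norm_num)
      (L := [(2, 12), (3, 4), (5, 1), (7, 1), (17, 1)]) (by norm_num only [_root_.List.mem_cons, _root_.List.not_mem_nil, _root_.or_false, _root_.forall_eq_or_imp, _root_.forall_eq, _root_.and_self])
      (F := fun z => decide ((1 + (-((84 : ℕ) : ℤ) + -((4096 : ℕ) : ℤ) + z)).natAbs ∣ 197406720 ∧ z ^ 2 ≤ 197406720))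
      (C := [1344]) (by decide +kernel) hx3 (by norm_num; exact hx4) ?_
    rw [decide_eq_true_eq]
    exact ⟨hE, hxsq⟩
  have hx6 : x = 1344 := by simpa using hx5
  have h1344 : 1344 ∈ charDegrees (POmega F (quadFormMinus 3 F a b)) := by
    have h0 : x.natAbs = 1344 := by rw [hx6]; norm_num
    have := degs_mem D hx
    rwa [h0] at this
  have h2835 : 2835 ∈ charDegrees (POmega F (quadFormMinus 3 F a b)) := by
    have h0 : (1 + D.degs.sum).natAbs = 2835 := by rw [hx1, hx6]; norm_num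
    have := dexc_mem D (by norm_num)
    rwa [h0] at this
  -- an odd degree
  obtain ⟨k, hk, hk1, hk2, hk3⟩ := exists_odd (by rw [hcard]; norm_num) (by rw [hcard]; norm_num) h34 (a := 561) (b := 595)
    (by norm_num) (by norm_num) (by decide) (by decide)
  refine H664.Eight.eight_of_list [1, 34, 84, 4096, 1344, 2835, e, k] ?_ le_rfl ?_
  · simp only [List.nodup_cons, List.mem_cons, List.not_mem_nil, or_false, not_or, List.nodup_nil, and_true]
    rw [Nat.odd_iff] at hk1
    clear hE hsq hx4 hxsq hx5 c1 c2 hx1 hx2 hx3 hs2 ht2 hcard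
    refine ⟨⟨?_, ?_, ?_, ?_, ?_, ?_, ?_⟩, ⟨?_, ?_, ?_, ?_, ?_, ?_⟩, ⟨?_, ?_, ?_, ?_, ?_⟩, ⟨?_, ?_, ?_, ?_⟩,
      ⟨?_, ?_, ?_⟩, ⟨?_, ?_⟩, ?_, not_false⟩ <;> (clear * - hj hk1 hk2 hk3; omega)
  · simp only [List.mem_cons, List.not_mem_nil, or_false, forall_eq_or_imp, forall_eq]
    exact ⟨H664.Eight.one_mem, h34, h84, h4096, h1344, h2835, he, hk⟩

end Cfsg.Agent.H532.Eight
end

-- part: H733/Eight/FillB2
section
/-!
# S4899 : the classical rows, complete
-/

set_option autoImplicit false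

open Cfsg Cfsg.Agent.H664.Eight

namespace Cfsg.Agent.H733.Eight

theorem classical : Classical := by
  refine classical_of ?_ ?_ ?_ ?_
  · intro F _ _ n q hF hn h5 h6 h7
    by_cases h : 8 ≤ n ∨ 3 ≤ q
    · exact H7.Eight.UnMain.eight_un hF hn h
    · exfalso
      push Not at h
      have hq : 2 ≤ q := by
        by_contra hlt
        have h1 : q ^ 2 ≤ 1 ^ 2 := Nat.pow_le_pow_left (by omega) 2
        have h2 := Fintype.one_lt_card (α := F)
        omega
      omega
  · intro F _ _ m hm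
    by_cases h : m = 3 ∧ Nat.card F = 2
    · obtain ⟨rfl, h2⟩ := h
      exact H688.Eight.eight_sp62 (by rw [← Nat.card_eq_fintype_card]; exact h2)
    · exact H362.Eight.eight_sp' F hm h
  · intro F _ _ m hm
    exact H925.Eight.eight_op hm
  · intro F _ _ m a b hm hab
    obtain ⟨l, rfl⟩ : ∃ l, m = l + 1 := ⟨m - 1, by omega⟩
    rw [Nat.add_sub_cancel]
    have hq : 1 < Nat.card F := Finite.one_lt_card
    by_cases h : 4 ≤ l ∨ 4 ≤ Nat.card F
    · exact H234.Eight.eight_ne F a b hab (by omega) h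
    · push Not at h
      obtain rfl : l = 3 := by omega
      by_cases h2 : Nat.card F = 2
      · exact H532.Eight.eight_om82 (by rw [← Nat.card_eq_fintype_card]; exact h2) a b hab
      · exact H234.Eight.eight_om83 F a b hab (by omega)

end Cfsg.Agent.H733.Eight
end
end

-- part: H471/Eight/CertLy
section
prune_inst 0x216034457dc20200081c059273003cc7ff000192002b8001f9660f460eceff63a947af21fef01f1291ceb6f4787bc048131001f9421000002a00be00411b01a08caf7ee2b77cbd0c35008fc1f887590c0000000000000000000080000005100400c010000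
set_option linter.all false

/-- decoders of the packed data (elaboration time only) -/
private noncomputable def pk61d (b S i : Nat) : Nat := Nat.mod (Nat.shiftRight S (Nat.mul b i)) (Nat.shiftLeft (nat_lit 1) b)
private noncomputable def pk61c {α : Type} (t : Nat) (a : α) (f : Nat → α) : α := Nat.rec a (fun k _ => f k) t
private noncomputable def pk61f {α : Type} (t : Nat) (f : Nat → α) : α := Nat.rec (f Nat.zero) (fun k _ => f (Nat.succ k)) t
private noncomputable def pk61l {α : Type} (f : Nat → α) (s e : Nat) (tl : List α) : List α :=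
  pk61f e fun e => Nat.rec tl (fun k ih => List.cons (pk61f (Nat.sub e (Nat.succ k)) f) ih) (Nat.sub e s)
private noncomputable def pk61o {α : Type} (O : (n : Nat) → OfNat α n → α) (I : (n : Nat) → OfNat α n) (t : Nat) : α :=
  pk61c t (O (nat_lit 0) (I (nat_lit 0))) fun k => O (Nat.succ k) (I (Nat.succ k))
private noncomputable def pk61y (O : (n : Nat) → OfNat Int n → Int) (I : (n : Nat) → OfNat Int n) (G : Int → Int) (t : Nat) : Int := pk61f t fun t =>
  pk61c (Nat.mod t (nat_lit 2)) (pk61o O I (Nat.div t (nat_lit 2))) fun _ => G (pk61o O I (Nat.succ (Nat.div t (nat_lit 2))))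


/-!
# Ly has at least eight character degrees: certificates (helper471, for S4899)
-/

set_option autoImplicit false
set_option maxRecDepth 100000
set_option maxHeartbeats 4000000
set_option linter.unusedSectionVars false

namespace Cfsg.Agent.H471.Eight.CertLy

open Cfsg Cfsg.Agent.Characters.Core Cfsg.Agent.H653.Sys Cfsg.Agent.H653.Sieve Cfsg.Agent.H471.Eight
open Cfsg.Agent.H664.Eight

universe u

def L : List (ℕ × ℕ) := [(67, 1), (37, 1), (31, 1), (11, 1), (7, 1), (5, 6), (3, 7), (2, 8)]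

def Ds : List PD := [⟨67, 1, 22, 3, [(0, 0), (1, 3), (22, -1), (45, 1), (66, -3)], 201, 3, true⟩,
  ⟨37, 1, 18, 2, [(0, 0), (1, 2), (18, -1), (19, 1), (36, -2)], 74, 2, true⟩]

def Cs : List Cond := [condEq 45694, condEq 1534500, condEq 3028266, condEq 4226695]

/-- the table of the degrees and column values -/
noncomputable def B : List (List (ℕ × List ℤ)) :=
  let y0 : List (List (ℕ × List ℤ)) := (by
  refine (?fq9001 : (fun (On : (n : Nat) → OfNat Nat n → Nat) (In : (n : Nat) → OfNat Nat n) (Oz : (n : Nat) → OfNat Int n → Int) (Iz : (n : Nat) → OfNat Int n) (Gz : Int → Int) => (pk61l (fun i0 => ((fun g0 : Nat → Nat => pk61l (fun i1 => (_root_.Prod.mk (pk61o On In (pk61d (nat_lit 28) 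
    (nat_lit 0x7b2019077af7ef651c3f05b0525c4416780265674022928401acf3f4107d71109618800896700038571002bb08d020aea001b53be0078ba90035428ca387e0b60a4b8882cf004cace80359e7e820fae2212c3100057611a0415d40006a850001ff23cc43680afb408099c00be506dbdc31785331c2498014cdfa008311a70620be0016a2fb00fae80009fc78002a5da00219a8001a7fc6b3cfd041f5c4440afd0030c2c1f0e5cbd50aec23408a9d50082ba8001fa92b01cfbba00d50a000800bb003fe46860c3c452733552ee7a80127803c0da72c10a3692005c02b004057cb010a4c800047f9a0db7b862f0a665e51c083849300299bf40106234e0c417c0017a43f013f8f00054bb40034ff88b72700736e1775eca7b141aab803fd510826810800e4c66008cb6f806805e201ea3b60174d180004b60d679fa0c3e6ba183eb888618583e21586081cb97aa15d84681057500102c78f03f5256039f7740365722023a77101aa1400144880000f217) i1)) (pk61l (fun i2 => (pk61y Oz Iz Gz (pk61d (nat_lit 3) 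
    (nat_lit 0x201000018180018080000018000000000400810000000000185000050000180000080008005800000000018000600001000000000020400000005000000010000000080000200605800200) i2))) (Nat.mul (nat_lit 2) i1) (Nat.mul (nat_lit 2) (Nat.succ i1)) List.nil))) (g0 i0) (g0 (Nat.succ i0)) List.nil) fun j => (pk61d (nat_lit 7) 
    (nat_lit 0x69b135f314e70800) j))) (nat_lit 0) (nat_lit 8) List.nil : List (List (ℕ × List ℤ))))
    = ?xq9001 → (List (List (ℕ × List ℤ)))) ?hq9001; (case hq9001 => (set_option maxRecDepth 1000000 in conv => lhs; reduce)); intro _; exact ?xq9001 (@OfNat.ofNat Nat) instOfNatNat (@OfNat.ofNat Int) (@instOfNat) (@Neg.neg Int Int.instNegInt) : List (List (ℕ × List ℤ)))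
  let y1 : List (List (ℕ × List ℤ)) := (by
  refine (?fq9002 : (fun (On : (n : Nat) → OfNat Nat n → Nat) (In : (n : Nat) → OfNat Nat n) (Oz : (n : Nat) → OfNat Int n → Int) (Iz : (n : Nat) → OfNat Int n) (Gz : Int → Int) (tl : List (List (ℕ × List ℤ))) => (pk61l (fun i0 => ((fun g0 : Nat → Nat => pk61l (fun i1 => (_root_.Prod.mk (pk61o On In (pk61d (nat_lit 28) 
    (nat_lit 0x9468f9987dbf7e70dd6c4546dc8049e144e3e69ee018934f512b7e8212623a0108c9280aa610009b421801df568007f18e0064cf80009af0a4e66aa5dcf50024f00781b4e582146d240080af96021499000043c9c696de0b563dbb6730d80356d7891a98c6e16780e00f2170005f52a803b9f7003aa192023f70000743400019c35000ea80c5e14cc924845d5337e802b1637f250ff9b20c469c19fd7f01882f8014278a305efb8102f487e027f1e000a97685878b723b93a9024a4fb4083557007faa21048a08001c98cc01196df004f05c002e9a30013a10bd94f62943374083557007faa2101c98cc013d92d41196df00d00bc403d476c02e9a300063dcb00096c0bf4a3208cb6f8075a88e86805e2037680b428f58431ea3b60174d1800c10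76105a4abd031ee5800d3d420099cf00003f99c30b07c3972f5433b749d2bb08d02058f1e1266f0009303f007ea4ac05d9ee50354280028910001b9357013b08700ce61b0027060001e42e000e6500003f98985e1ef8450580669abf8544234838bd6402f7162c16575f611b87980cb5b00031400a0231f0001ce0c601b3c3000393c0a8db900a720e1ba3e6fc093c289c7cd3dc05f13d8031269ea24c474021192501ebe35c1a40b40046ecbd03bead000fe31c0078ea000135e089e0b307c1e4ac68daec0407e870104d5700e0b08c0974e6003b93a9021e480015330000835570048a080028e4c0016aeb49e00f047cfb29369cb0433465f928da4801015f2c09e4dd70659fa0042932001a36bb00185700008792d89934ec500280bf7f31891a1d607b387002ae53201a624e818271b013811a60edb19c05beb22045e7480353e500012e49000306bce61b006adaf1235318dc2cf01c00bea5500773ee00754324019886d00e86800082dc00038493001d500c98b65e6083b083b5d30a2d255e81d8d4ec1c3cef018f72c009d4862069ea100588f63021141600e2f5900c339d0032d6c0000e4fa66fd006409218562c6fe4a1ff364188d383105f00284f1460bdf70205e90fc04fe3c00152ed0002d6455c5812c4bd52f44443dc53310da0141b6f7070926005337e801882f80027f1e000da88b0f16e4a62173177275206cd583d4949f6814942a0106aae00ff54420dba10a091410003931980232dbe0218928005d346)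 i1)) (pk61l (fun i2 => (pk61y Oz Iz Gz (pk61d (nat_lit 3) 
    (nat_lit 0x8000000020000202000140000000000000000000000000200340808000000400180000000000000000000005018005000001000000020600800000000000000960000000610140000600040080405005000020001000086005020640008000010080000400000000040000018000802000006000005000200800000200008010000808000000000600000200600000000200000202020002006020000000000000000000000000005001000002000200000140) i2))) (Nat.mul (nat_lit 2) i1) (Nat.mul (nat_lit 2) (Nat.succ i1)) List.nil))) (g0 i0) (g0 (Nat.succ i0)) List.nil) fun j => (pk61d (nat_lit 8) 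
    (nat_lit 0xf0e0d8cabdb2a6988678685a4e3f3324180e00) j))) (nat_lit 0) (nat_lit 18) tl : List (List (ℕ × List ℤ))))
    = ?xq9002 → (List (List (ℕ × List ℤ)))) ?hq9002; (case hq9002 => (set_option maxRecDepth 1000000 in conv => lhs; reduce)); intro _; exact ?xq9002 (@OfNat.ofNat Nat) instOfNatNat (@OfNat.ofNat Int) (@instOfNat) (@Neg.neg Int Int.instNegInt) y0 : List (List (ℕ × List ℤ)))
  let y2 : List (List (ℕ × List ℤ)) := (by
  refine (?fq9003 : (fun (On : (n : Nat) → OfNat Nat n → Nat) (In : (n : Nat) → OfNat Nat n) (Oz : (n : Nat) → OfNat Int n → Int) (Iz : (n : Nat) → OfNat Int n) (Gz : Int → Int) (tl : List (List (ℕ × List ℤ))) => (pk61l (fun i0 => ((fun g0 : Nat → Nat => pk61l (fun i1 => (_root_.Prod.mk (pk61o On In (pk61d (nat_lit 28) 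
    (nat_lit 0xbb3dca049b9edf486a3e03726ae031a5b781d1c64819cc360059e03803c85c0017d4aa001d0d064892d33931980232dbe01a017880dda02d07a8ed805d3460057825800c7b9600ad7009e4dd7075069e422782cc1f0792b1a36bb0101fa1c0382c23025d3980087920001228200024a4d00bc406ed016851eb0863d476c02e9a3001820ec20b4957a076353b063dcb001a7a84000cb5bb4f6eaf54a61133f525602ecf7280dc9ab80c696de07c36d406730d801bd2f0016780e0111d2c00f217000eafc400074340000288cfc62a372e5ea8676e93a57611a00fd49580bb3dca06a850003726ae019cc36003c85c001cca00001d0da04869b52156604fca54a43682a02d6450011df7f80afe4b601d205e015c9c0cd357f0c779d39a8846907853390717ac80328a25f2caebec1b7bbc706f26970628014048d0eb037763e03678600157299000779a97d13c0477dfe0414ce8b2bf92d82201d002081d6a14eac40099328e074817805727000151b72000bc2ebe27b008142a7d624d3d44988e8042324a03d7c6b83c769e911cf28308dd97a077d5a0043797001fc63800f1d400026bc04cf40fa3f31a7631667c02a8e0b0098844005dcf500171a950146d24002bb51002149900070030000de0d1b5d8080fd0e032ca0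a52c1ac801c1611812e9cc00772752043c9000106aae009a04200914100013140b2bafb06deef1c64a2f0851449893de640a18a005017efe6312343ac11177530d9e1800b62e48055ca64034c49d021dfe001919b8008bce993c01e08f9f6526d3960851b4900202be5813c9bae08526400346d760176a240161520004ba730030ae00010f240001146b14fd8895cb0803afb24c2a1d20c27b7c6024472bf09c82860551c160537780036c3c00306b00013108800bb9ea00b2db800abc0cd7a64c855ca6403b8b87c34c49d0304e360270234c1db63380b7d6440a57db908bce900577260012b9610025c9200060d600009b0afe4b6082075a8594fd5045420e138dfe37264ca381d205e0162f4c00bf61ed072c61e0546dc803e69ee012623a00009afd5b5e24c0622719dfc2276a631b859e038017d4aa015c44d90ea864807de29003310da01d0d000105b8000709260003eba) i1)) (pk61l (fun i2 => (pk61y Oz Iz Gz (pk61d (nat_lit 3) 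
    (nat_lit 0x540006000000000000000000180140000000000000010000000000000000000000000010020018012012000000000000000800000000000000000000040600006000200015200000600800000006600000020000000400800000040000400580146000001000000002001000800600000080200001800000000000000750018010000006000800150000001408005018020000010018026000180000010088000000000000000000640018002) i2))) (Nat.mul (nat_lit 2) i1) (Nat.mul (nat_lit 2) (Nat.succ i1)) List.nil))) (g0 i0) (g0 (Nat.succ i0)) List.nil) fun j => (pk61d (nat_lit 8) 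
    (nat_lit 0xe8ddd3c8bdaea2998a7e706458483a2b1c0e00) j))) (nat_lit 0) (nat_lit 18) tl : List (List (ℕ × List ℤ))))
    = ?xq9003 → (List (List (ℕ × List ℤ)))) ?hq9003; (case hq9003 => (set_option maxRecDepth 1000000 in conv => lhs; reduce)); intro _; exact ?xq9003 (@OfNat.ofNat Nat) instOfNatNat (@OfNat.ofNat Int) (@instOfNat) (@Neg.neg Int Int.instNegInt) y1 : List (List (ℕ × List ℤ)))
  let y3 : List (List (ℕ × List ℤ)) := (by
  refine (?fq9004 : (fun (On : (n : Nat) → OfNat Nat n → Nat) (In : (n : Nat) → OfNat Nat n) (Oz : (n : Nat) → OfNat Int n → Int) (Iz : (n : Nat) → OfNat Int n) (Gz : Int → Int) (tl : List (List (ℕ × List ℤ))) => (pk61l (fun i0 => ((fun g0 : Nat → Nat => pk61l (fun i1 => (_root_.Prod.mk (pk61o On In (pk61d (nat_lit 28) 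
    (nat_lit 0xa63821c9e74dd07ae08c95beb22052bedc845e7480243162310ee0370b97e40095cb0807217d0027b7c60165d1900306b0000593fc10761076ba6145a4abd057c4f6b3b1a9d83879de031ee58019da21913a90c40d3d4200c17b950b11ec6064c30001c5eb201bd2800065ad80000218473ca0c41366284020b7b34a960d281c5f223765e81df568008fc1d807f18e007416f3011059e009af000025862ac58dfc9b25dd78311a70509e28c49ccd2817bee04118dcaf0bd21f809fc780052ba0503b119502a5da0026b25100751200061e36005ac8a0043d00000057f3e9a9c03d900c8328e1f82d8292e2681a30220b3c014533f40d679fa078c38704b0c40044b380010575000da9df001aa14b8b025897aa5e88887b8a6621b4057da0402836dee1cb6c4e0e124c00a66fd0038e8c003105f0004fe3c00152ed000c6bbaa382c043061e235296c8291cf0026211001773d40093c01e0695d00051b49002e015800a4e20008526400656a8c7429ec9293ed08bbb7c07a8f94720d55c01fea8841b74214072633005abac00465b7c03402f100f51db00ba68c78a49ca56244ea386eb622a36e4024f0a271f34f7011924a80aaba40095bf4109311d00846494016dd8400efab4003f8c700254310004d789373dbe6e4d5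c0634b6f04ec21c033986c00d4c6370b3c0700790b8002fa95401d50c9003a1a0cb2829484fbe2670584604ba7300438629d2c3c5b91dc9d4812527da041aab8024504000e4c66008f18400143c00010eb40009d080002b5cc9125a672633005fa5190465b7c03ad44743402f101bb405a0f51db00ba68c0018f72c01885800069ea1c4c1580c17b950334d5fc30e80502a211a41c5eb2017b8b160b2bafb068cc9d065ad8005504880344aea018a00500d9e1800440c17caa19544f05983e0f256346d760203f438070584604ba73002669e8012a1d3010f24000a9980003e99a0024504001472600049486c4c9a762801405fbf98c48d0eb015729900d3127409c08d302df591022f3a401a9f28d76f17ba3d610c7cca0b87a8ed8064c5b2f3041d841dae9851692af40ec6a760c7b96004ea431034f50800196b6ca256a0bea5500ae226c875432402e2c09625ea97a19886d003849300299bf400c417c006e69a003ed000013f8f) i1)) (pk61l (fun i2 => (pk61y Oz Iz Gz (pk61d (nat_lit 3) 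
    (nat_lit 0x2000000000400200200200000000600000000610001008010000200018000000000000008000000005000189022818000020016020008008000000010001000080000040005940000180218020400088000600140000000140000018190000080005000000180000000000000000140000000018199202000200400000000480200005000400040818000180000000000060008180420400000000000010000400000000000000002000000000000018400) i2))) (Nat.mul (nat_lit 2) i1) (Nat.mul (nat_lit 2) (Nat.succ i1)) List.nil))) (g0 i0) (g0 (Nat.succ i0)) List.nil) fun j => (pk61d (nat_lit 8) 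
    (nat_lit 0xeedfcec1afa1938679695e4e4233241a0d00) j))) (nat_lit 0) (nat_lit 17) tl : List (List (ℕ × List ℤ))))
    = ?xq9004 → (List (List (ℕ × List ℤ)))) ?hq9004; (case hq9004 => (set_option maxRecDepth 1000000 in conv => lhs; reduce)); intro _; exact ?xq9004 (@OfNat.ofNat Nat) instOfNatNat (@OfNat.ofNat Int) (@instOfNat) (@Neg.neg Int Int.instNegInt) y2 : List (List (ℕ × List ℤ)))
  let y4 : List (List (ℕ × List ℤ)) := (by
  refine (?fq9005 : (fun (On : (n : Nat) → OfNat Nat n → Nat) (In : (n : Nat) → OfNat Nat n) (Oz : (n : Nat) → OfNat Int n → Int) (Iz : (n : Nat) → OfNat Int n) (Gz : Int → Int) (tl : List (List (ℕ × List ℤ))) => (pk61l (fun i0 => ((fun g0 : Nat → Nat => pk61l (fun i1 => (_root_.Prod.mk (pk61o On In (pk61d (nat_lit 28) 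
    (nat_lit 0xa94c2267ea4ac06ed1e755d9ee501b9357018d2dbc0f86da80ce61b0044988c02cf01c01e42e000bea55000e8688872dac80af9604f26eb83a834f22149900113c1660d1b5d8080fd0e012e9cc0043c900009141000050fcedd274aec23401fa92b01e2ea401767b9406e4d5c0634b6f033986c00de97800b3c070088e9600790b80003a1ab738e849ac9440290ab3027e52a521b415016b228008efbfc057f25b012c7b000e902f00ae4e0a42acc09f94a9486d054023beff01de397d15fc96c158ff001100e801040eb50a7562004c994703a40bc0379e4802b938000a8db9002aae99edf180911cafc635f100267a07d1f98d3b15470580bfb04404c422002ee7a800bdb2800a3692004dbb084b512b595d7d836f778e32517841ef32050c50028091a1d606eec7c06cf0c002ae53200c8cdc0008214b21791e98d50fa87701b858a7ec44ae58401d7d92613dbe300633c4204e414302a8e0b01835800098844005dcf5001a5740002aeda1ba1308efbfc08299d1657f25b04103ad42103036132651c0e902f0031015002a36e401f34f7009311dd3127409c08d30531c10e2df5910295f6e422f3a4004ae584013dbe30018358c49a7a89311d00846494078ed3d2239e50611bb2f40efab40086f2e0047e0ec03f8c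7000882cf004d7800012c31896aae37416f301f4d4e01ec806419470fc16c14971340d1811059e006b3cfd02586200082ba8000d50a00048d8c0ed09c99e81f47e634ec71c66f3551c16021830f113a65d713108800bb9ea0049e00f02e352a028da48005271000429320039d000032b54cccb94f99328e080188aa748178048df5003c524e51c375b1151b7200f9a7b808c925404988e8042324a01f7cf00077d5a00026bc659414a427df133931eff382c23025d3980118b1c20ee4ea409293ed0250cdd020d55c0122820007263300478c2ced10c8ba2d7029d486207cc0c8077cc34069ea10060bdca819a6afe15108d20e2f5900733db8032d6c002a824401a2575006cf0c00004a0a2893123dbc7e031400a02fdfcc624687581b3c30016c5c900ab94c8069893a01179d2a78f4b55f52a8057113643aa19201dc5470171604b12f54bd0cc436803083dc01c2498014cdfa00620be003734d000c5dc00079b3) i1)) (pk61l (fun i2 => (pk61y Oz Iz Gz (pk61d (nat_lit 3) 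
    (nat_lit 0x800180000001000000000000000040000140000010008000000000000000080000000020002200400015000040018000020000180600000408000600010180040000000190000000046400000006000040000000000000000000000000000808000000000200000400000000042000000005000020008001400018010000000200018000000800005000080000200000098000000005010200080180000018000000000002000005000008620) i2))) (Nat.mul (nat_lit 2) i1) (Nat.mul (nat_lit 2) (Nat.succ i1)) List.nil))) (g0 i0) (g0 (Nat.succ i0)) List.nil) fun j => (pk61d (nat_lit 8) 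
    (nat_lit 0xecdfd3c6bbab9f9384786f6255453629190f00) j))) (nat_lit 0) (nat_lit 18) tl : List (List (ℕ × List ℤ))))
    = ?xq9005 → (List (List (ℕ × List ℤ)))) ?hq9005; (case hq9005 => (set_option maxRecDepth 1000000 in conv => lhs; reduce)); intro _; exact ?xq9005 (@OfNat.ofNat Nat) instOfNatNat (@OfNat.ofNat Int) (@instOfNat) (@Neg.neg Int Int.instNegInt) y3 : List (List (ℕ × List ℤ)))
  (by
  refine (?fq9006 : (fun (On : (n : Nat) → OfNat Nat n → Nat) (In : (n : Nat) → OfNat Nat n) (Oz : (n : Nat) → OfNat Int n → Int) (Iz : (n : Nat) → OfNat Int n) (Gz : Int → Int) (tl : List (List (ℕ × List ℤ))) => (pk61l (fun i0 => ((fun g0 : Nat → Nat => pk61l (fun i1 => (_root_.Prod.mk (pk61o On In (pk61d (nat_lit 28) 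
    (nat_lit 0x4057cb0279375c1d41a7910a4c80089e0b3068daec0407e8702c2a4000974e60021e48000228ca5740a094f12685b9c7424d64a2046d91c02b93c30148559810da0a80b591400477dfe0057270000178e75f649857568d14f6f8c0488e57e31af8800aa382c06d878005fd822026211001e3e4001773d401578180051b4900314900026dd80000070cf060c090c588c590bc8f43b80dc2c53f622572c2016820df0ebec9309edf1800c1ac000a1f04004c422ab94c808d14c7569893a04e04698298e08716fac8814afb721179d200aee4c002572c201515f30014dde000c1ac6fb4dce3f8c7003a0b7980f640320ca387e0882cf0040c680012c31000415d40006a85c6140208a841c271bfc6e51382ce4c99470400c4553a40bc02c5e9800e58c3c0a8db900a0f8c008d30ab07cd3dc024c474021192500fbe78003bead000135e707510067688645d16b814ea43103be61a034f5080305ee540cd357f0a884690717ac80196b60003f3b80036786d4c6370b706330b3c07002fa95402b889b21d50c900b0101206621b400e124c00a66fd003105f00062eebd21f8052ba0504a789342dce3a126b2510236c8e015c9e180a42acc086d05405ac8a004e1720023beff00ff6ea002b9380000bc7b7d6440a57db908bce9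0067830604862c4621dc06e172fc801629fb112b96100e42fa005d909604f6f8c02cba320060d600050f820026211000b27ed2a58348dd97a037da6e71fc63801d05bcc11e414007b20190651c3f044167802063400102bf400961880020aeab4957a0af89ed676353b063dcb0062d6e31383a88033b443227521881a7a840182f72a06ca7e8038bd6400cb5b0001b3c30000f2d0000430bdf70209ed6c068c6e5785e90fc0295d028253c49a152ed0013592880521566043682a02d64500270b900070ea40015c9c8e79418826cc5080416f66952c1a5b761005038be446ecbd03bead000fe31c00e82de608f20a00220b3c0066057004b0c400105755efb81046372bc2f487e014ae814129e24d0a9768009ac9440290ab3021b415016b228000ae4ea13c5189399a502f7dc08231b95e1e7cb0017a43f013f8f000a5740a054bb4004d64a2031aec000b59140005727) i1)) (pk61l (fun i2 => (pk61y Oz Iz Gz (pk61d (nat_lit 3) 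
    (nat_lit 0x800020000000818000000018020000200810001020006222800000000040000800000000000000800602000000000018000010000080200818001800000200020000008000000000080008000000080000008000000010200000600880200000400020000601018010018000000020000008040000000018400000002000005600200000000000000205000800005600000010020000000000000000000000600001000000006000) i2))) (Nat.mul (nat_lit 2) i1) (Nat.mul (nat_lit 2) (Nat.succ i1)) List.nil))) (g0 i0) (g0 (Nat.succ i0)) List.nil) fun j => (pk61d (nat_lit 8) 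
    (nat_lit 0xe7dcd0c0b4a79d8b7e726352453527180d0000) j))) (nat_lit 0) (nat_lit 18) tl : List (List (ℕ × List ℤ))))
    = ?xq9006 → (List (List (ℕ × List ℤ)))) ?hq9006; (case hq9006 => (set_option maxRecDepth 1000000 in conv => lhs; reduce)); intro _; exact ?xq9006 (@OfNat.ofNat Nat) instOfNatNat (@OfNat.ofNat Int) (@instOfNat) (@Neg.neg Int Int.instNegInt) y4 : List (List (ℕ × List ℤ)))

def RS : List (ℕ × List ℕ) := [(67, [0, 1, 22, 45, 66]), (37, [0, 1, 18, 19, 36])]

theorem hB : allDiv 51765179004000000 (tabD 51765179004000000 RS (Ds.map PD.fam) 97 B) L 1 = true :=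
  Cfsg.Agent.H653.Sys.Qk.tab 227519623 (by decide +kernel)

section

variable {S : Type u} [Group S] [Finite S] [Fintype (IrrCharacter S)]

theorem tab [IsSimpleGroup S] (hN : Nat.card S = 51765179004000000) (hx : ∀ D ∈ Ds, D.Cent S) (hC : ∀ c ∈ Cs, c.Holds S) :
    Tab S (fun g : S => orderOf g) 51765179004000000 L (Ds.map PD.fam) Cs B.flatten :=
  Tab.of_primes hN (by norm_num) (by decide +kernel) (by decide +kernel) rfl (by decide +kernel) hx hB hC

variable {lab : S → ℕ}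

def Q1 : List ℕ := [630000, 43110144]

theorem must_1 (C : Tab S lab 51765179004000000 L (Ds.map PD.fam) Cs B.flatten) : ∃ d ∈ Q1, d ∈ charDegrees S :=
  Cfsg.Agent.H471.Eight.Qp.must C _ 0
    [⟨0, 0, 0, [86275298340]⟩, ⟨0, 0, 258825895020, []⟩]
    [0, -517651790040, 0, 0] (by decide +kernel)

noncomputable def Q2 : List ℕ :=
  (by
  refine (?fq9007 : (fun (On : (n : Nat) → OfNat Nat n → Nat) (In : (n : Nat) → OfNat Nat n) => ((pk61l (fun i1 => (pk61o On In (pk61d (nat_lit 28) 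
    (nat_lit 0xca256a0c0ed09ca621731a3e6fc09e74dd098d50fa8bbb7c08872dac7cc0c8078533905e51c0851382ce31667c02c1ac80229284021586081e7cb001dc54701cb6c4e1a40b4016820df158ff0014942a013d92d411b87981117753104d5700bf61ed0b010120a0f8c009b421808a9d5007de29006ca7e8068cc9d05d9096038e8c0031015002669e80250cdd0231f00021dfe0021141601e3e4001bd280016dd84013b087012c7b00102bf400ff6ea00b2db8009a0420078ba90043d00003f3b80039d00002aae9002706000219a8001a5740016aeb0014dde00131400010eb4000c6bb00048d80003eba0002b5c0000e4f000050f00004a00000070) i1))) (nat_lit 0) (nat_lit 72) List.nil) : List ℕ))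
    = ?xq9007 → (List ℕ)) ?hq9007; (case hq9007 => (set_option maxRecDepth 1000000 in conv => lhs; reduce)); intro _; exact ?xq9007 (@OfNat.ofNat Nat) instOfNatNat : List ℕ)

theorem must_2 (C : Tab S lab 51765179004000000 L (Ds.map PD.fam) Cs B.flatten) : ∃ d ∈ Q2, d ∈ charDegrees S :=
  Cfsg.Agent.H471.Eight.Qp.must C _ 0
    [⟨0, 0, -517651790040, [0]⟩, ⟨0, 0, 517651790040, []⟩]
    [0, 0, 0, 0] (by decide +kernel)

noncomputable def Q3 : List ℕ :=
  (by
  refine (?fq9008 : (fun (On : (n : Nat) → OfNat Nat n → Nat) (In : (n : Nat) → OfNat Nat n) => ((pk61l (fun i1 => (pk61o On In (pk61d (nat_lit 27) 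
    (nat_lit 0x320490c594fd509d8438102bf401ede3f033465f9543a418840c0d8f175201d1c64833fafe04e9975c8c58e10aaba4012607e01ccf6e037934b8695d000cb3f4018cf1082d5d6005782580a6ef0011262301d88ca838571006cae440c6bb001841ee0218928039c18c05a8bec07d74000bdb28015ae0002002ec03a8900070ea400c99f0013c170022060803e99a007278000c5240012a1880143c0001b510002f0b800410a00070030007f30000abb40007968000de0) i1))) (nat_lit 0) (nat_lit 54) List.nil) : List ℕ))
    = ?xq9008 → (List ℕ)) ?hq9008; (case hq9008 => (set_option maxRecDepth 1000000 in conv => lhs; reduce)); intro _; exact ?xq9008 (@OfNat.ofNat Nat) instOfNatNat : List ℕ)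

theorem must_3 (C : Tab S lab 51765179004000000 L (Ds.map PD.fam) Cs B.flatten) : ∃ d ∈ Q3, d ∈ charDegrees S :=
  Cfsg.Agent.H471.Eight.Qp.must C _ 4
    [⟨-853489877, -12202126523271920, 56227212925288492, [203761160283030]⟩, ⟨656648128, 27149916178354600, 120838161356787036, []⟩]
    [-108539663205350124, -1926185654804343, -112612914201713423, -70597784085881] (by decide +kernel)

end

/-- **Eight degrees**; `hx` : elements of prime order and their centralizers; `hK` : known degrees. -/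
theorem eight {S : Type u} [Group S] [Finite S] [IsSimpleGroup S] (hN : Nat.card S = 51765179004000000)
    (hx : ∀ pk ∈ ([(67, 1), (37, 1)] : List (ℕ × ℕ)), ∃ x : S, orderOf x = pk.1 ∧
      Nat.card (Subgroup.centralizer ({x} : Set S)) = pk.1 * pk.2)
    (hK : ∀ d ∈ ([45694, 1534500, 3028266, 4226695] : List ℕ), d ∈ charDegrees S) :
    Eight S := by
  classical
  have := finite_irr (G := S)
  let _ := Fintype.ofFinite (IrrCharacter S)
  have T := tab (S := S) hN (by
    intro D hD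
    simp only [Ds, List.mem_cons, List.not_mem_nil, or_false] at hD
    rcases hD with rfl | rfl
    · exact hx (67, 1) (by simp)
    · exact hx (37, 1) (by simp)) (by
    intro c hc
    simp only [Cs, List.mem_cons, List.not_mem_nil, or_false] at hc
    rcases hc with rfl | rfl | rfl | rfl
    · exact condEq_holds (hK 45694 (by simp))
    · exact condEq_holds (hK 1534500 (by simp))
    · exact condEq_holds (hK 3028266 (by simp))
    · exact condEq_holds (hK 4226695 (by simp)))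
  refine eight_of_pack [45694, 1534500, 3028266, 4226695] hK [(1, Q1), (1, Q2), (1, Q3)] ?_ 1 (Cfsg.Agent.H471.Eight.Qp.pack 607 (by decide +kernel))
  intro q hq
  simp only [List.mem_cons, List.not_mem_nil, or_false] at hq
  rcases hq with rfl | rfl | rfl
  · exact must_1 T
  · exact must_2 T
  · exact must_3 T

end Cfsg.Agent.H471.Eight.CertLy

private theorem dce_759153537805 : _root_.True := by
  try have : _root_.True := by simp only [_root_.Cfsg.Agent.H471.Eight.CertLy.Cs.eq_1]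
  try have : _root_.True := by simp only [_root_.Cfsg.Agent.H471.Eight.CertLy.Ds.eq_1]
  exact _root_.True.intro
end

-- part: H471/Eight/RowLy
section
set_option linter.all false
open scoped Cfsg.Agent.FastGrp

/-!
# `Ly` has at least eight character degrees (helper471, for S4899)
-/

set_option autoImplicit false

namespace Cfsg.Agent.H471.Eight.RowLy

open Cfsg Cfsg.Agent.Characters.Core Cfsg.Agent.H664.Eight

universe u

theorem eight_ly' (hK : H995.CopEngine.AllKnown.{0}) : Eight Spor.Ly := by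
  have hI : Spor.IsoLy Spor.Ly := ⟨MulEquiv.refl _⟩
  have hfin : Finite Spor.Ly := Cfsg.Agent.Ly.Setup.finite_ly
  have hsim : IsSimpleGroup Spor.Ly := Cfsg.Agent.Ly.Setup.isSimple_ly
  obtain ⟨χ, -, hχ⟩ := H314.LyOrb.exists_deg_ly
  have ex : ∀ p : ℕ, p.Prime → p ∣ 51765179004000000 → ∃ x : Spor.Ly, orderOf x = p := by
    intro p hp hd
    have := Fact.mk hp
    exact exists_prime_orderOf_dvd_card' (G := Spor.Ly) p (by rw [Cfsg.Agent.Ly.Setup.card_ly]; exact hd)
  refine CertLy.eight Cfsg.Agent.Ly.Setup.card_ly ?_ ?_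
  · intro pk hpk
    simp only [List.mem_cons, List.not_mem_nil, or_false] at hpk
    rcases hpk with rfl | rfl
    · obtain ⟨x, hx⟩ := ex 67 (by norm_num) (by norm_num)
      exact ⟨x, hx, (H655.LySixtySeven.card_centralizer hK hI hx).trans (by norm_num)⟩
    · obtain ⟨x, hx⟩ := ex 37 (by norm_num) (by norm_num)
      exact ⟨x, hx, (H655.LyThirtySeven.card_centralizer37 hK hI hx).trans (by norm_num)⟩
  · intro d hd
    simp only [List.mem_cons, List.not_mem_nil, or_false] at hd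
    rcases hd with rfl | rfl | rfl | rfl
    · exact ⟨χ 1, hχ 1⟩
    · exact ⟨χ 2, hχ 2⟩
    · exact ⟨χ 3, hχ 3⟩
    · exact ⟨χ 4, hχ 4⟩

/-- **`Ly`.** `hK` : the classification, `fun _ _ _ h => S0000.result` (universe 0). -/
theorem eight_ly (hK : H995.CopEngine.AllKnown.{0}) {S : Type u} [Group S] (h : Spor.IsoLy S) : Eight S := by
  obtain ⟨e⟩ := h
  exact (eight_ly' hK).of_equiv e

end Cfsg.Agent.H471.Eight.RowLy
end

-- part: H83/Eight/Co1_mg
section
set_option linter.all false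
open scoped Cfsg.Agent.FastGrp

-- part: H83/Eight/Co1
section
/-!
# `Co1` has at least eight character degrees (helper83, for S4899)

Known degrees `1, 276, 299, 17250, 80730`. The column of the elements of order 23 (self-centralizing, `e = 11`, two
exceptional characters): if all nonexceptional nonprincipal characters of degree prime to 23 had the same degree `a` and
both exceptional characters the degree `b`, then `b = 10 a ± 1`, which is impossible for divisors of `|Co1|`.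
-/

set_option autoImplicit false
set_option linter.unusedSectionVars false

namespace Cfsg.Agent.H83.Eight

open Cfsg Subgroup Cfsg.Agent.Characters.Core Cfsg.Agent.H664.Eight Cfsg.Agent.H653.Sieve

universe u

/-- no solution of `b = 10 a ± 1` -/
theorem no_sol_co1 : ∀ (i : Fin 10) (j : Fin 3) (k : Fin 2) (l : Fin 2),
    ¬ ((3 ^ i.1 * 7 ^ j.1 * 11 ^ k.1 * 13 ^ l.1 - 1) % 10 = 0 ∧
      (3 ^ i.1 * 7 ^ j.1 * 11 ^ k.1 * 13 ^ l.1 - 1) / 10 % 23 = 1 ∧
      (3 ^ i.1 * 7 ^ j.1 * 11 ^ k.1 * 13 ^ l.1 - 1) / 10 ≠ 1 ∧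
      4157776806543360000 % ((3 ^ i.1 * 7 ^ j.1 * 11 ^ k.1 * 13 ^ l.1 - 1) / 10) = 0) ∧
    ¬ ((3 ^ i.1 * 7 ^ j.1 * 11 ^ k.1 * 13 ^ l.1 + 1) % 10 = 0 ∧
      (3 ^ i.1 * 7 ^ j.1 * 11 ^ k.1 * 13 ^ l.1 + 1) / 10 % 23 = 22 ∧
      4157776806543360000 % ((3 ^ i.1 * 7 ^ j.1 * 11 ^ k.1 * 13 ^ l.1 + 1) / 10) = 0) := by
  decide +kernel

theorem exists_exps {b : ℕ} (h : b ∣ 4157776806543360000) (h2 : ¬ 2 ∣ b) (h5 : ¬ 5 ∣ b) (h23 : ¬ 23 ∣ b) :
    ∃ (i : Fin 10) (j : Fin 3) (k : Fin 2) (l : Fin 2), b = 3 ^ i.1 * 7 ^ j.1 * 11 ^ k.1 * 13 ^ l.1 := by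
  have e : 4157776806543360000 = 2 ^ 21 * (5 ^ 4 * (23 * (3 ^ 9 * 7 ^ 2 * 11 ^ 1 * 13 ^ 1))) := by norm_num
  rw [e] at h
  have h' := (Nat.Coprime.pow_right 21 ((Nat.Prime.coprime_iff_not_dvd (by norm_num)).2 h2).symm).dvd_of_dvd_mul_left h
  have h'' := (Nat.Coprime.pow_right 4 ((Nat.Prime.coprime_iff_not_dvd (by norm_num)).2 h5).symm).dvd_of_dvd_mul_left h'
  have h3 := ((Nat.Prime.coprime_iff_not_dvd (by norm_num)).2 h23).symm.dvd_of_dvd_mul_left h''
  obtain ⟨u, v, hu, hv, e1⟩ := exists_dvd_and_dvd_of_dvd_mul h3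
  obtain ⟨u', w, hu', hw, e2⟩ := exists_dvd_and_dvd_of_dvd_mul hu
  obtain ⟨y, z, hy, hz, e3⟩ := exists_dvd_and_dvd_of_dvd_mul hu'
  obtain ⟨i, hi, e4⟩ := (Nat.dvd_prime_pow (by norm_num)).1 hy
  obtain ⟨j, hj, e5⟩ := (Nat.dvd_prime_pow (by norm_num)).1 hz
  obtain ⟨k, hk, e6⟩ := (Nat.dvd_prime_pow (by norm_num)).1 hw
  obtain ⟨l, hl, e7⟩ := (Nat.dvd_prime_pow (by norm_num)).1 hv
  refine ⟨⟨i, by omega⟩, ⟨j, by omega⟩, ⟨k, by omega⟩, ⟨l, by omega⟩, ?_⟩
  rw [e1, e2, e3, e4, e5, e6, e7]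

/-- The numerical contradiction. -/
theorem num_co1 {a b : ℕ} (ha : a ∣ 4157776806543360000) (hb : b ∣ 4157776806543360000) (ha0 : 0 < a) (ha1 : a ≠ 1)
    (hb0 : 0 < b)
    {s ε : ℤ} (hs : (a % 23 = 1 ∧ s = 2) ∨ (a % 23 = 22 ∧ s = -2)) (hε : (b % 23 = 12 ∧ ε = 1) ∨ (b % 23 = 11 ∧ ε = -1))
    (h : 10 * s * a + 2 * ε * b + 2 = 0) : False := by
  have h2 : ¬ 23 ∣ b := by
    intro h23
    have := Nat.mod_eq_zero_of_dvd h23
    omega
  rcases hs with ⟨h1, rfl⟩ | ⟨h1, rfl⟩ <;> rcases hε with ⟨h3, rfl⟩ | ⟨h3, rfl⟩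
  · omega
  · have hb' : b = 10 * a + 1 := by omega
    obtain ⟨i, j, k, l, e⟩ := exists_exps hb (by omega) (by omega) h2
    refine (no_sol_co1 i j k l).1 ?_
    rw [← e]
    have e1 : (b - 1) / 10 = a := by omega
    rw [e1]
    exact ⟨by omega, h1, ha1, Nat.mod_eq_zero_of_dvd ha⟩
  · have hb' : b + 1 = 10 * a := by omega
    obtain ⟨i, j, k, l, e⟩ := exists_exps hb (by omega) (by omega) h2
    refine (no_sol_co1 i j k l).2 ?_
    rw [← e]
    have e1 : (b + 1) / 10 = a := by omega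
    rw [e1]
    exact ⟨by omega, h1, Nat.mod_eq_zero_of_dvd ha⟩
  · omega

theorem eight_co1' : Eight Spor.Co1 := by
  classical
  have hN : Nat.card Spor.Co1 = 4157776806543360000 := Cfsg.Agent.S0399.result.2
  have hfin : Finite Spor.Co1 := Nat.finite_of_card_ne_zero (by rw [hN]; norm_num)
  have hsim : IsSimpleGroup Spor.Co1 := Cfsg.Agent.S0399.result.1
  have hfirr : Finite (IrrCharacter Spor.Co1) := finite_irr
  have := Fintype.ofFinite (IrrCharacter Spor.Co1)
  have hnp : ¬ (Nat.card Spor.Co1).Prime := by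
    rw [hN]
    intro h
    have := (Nat.dvd_prime h).1 (by norm_num : 2 ∣ 4157776806543360000)
    omega
  have hG : ¬ IsMulCommutative Spor.Co1 := by
    intro h
    let _ : CommGroup Spor.Co1 := { (inferInstance : Group Spor.Co1) with mul_comm := fun a b => h.is_comm.comm a b }
    exact hnp IsSimpleGroup.prime_card
  have : Fact (Nat.Prime 23) := ⟨by norm_num⟩
  obtain ⟨x, hx⟩ := exists_prime_orderOf_dvd_card' (G := Spor.Co1) 23 (by rw [hN]; norm_num)
  have hc : Nat.card (centralizer ({x} : Set Spor.Co1)) = 23 * 1 :=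
    Cfsg.Agent.H208.DS.cent_co1 ⟨MulEquiv.refl _⟩ hx
  obtain ⟨P, W, hP, -, hcol, hok⟩ := exists_col hG hN hx hc 11 2 [(0, 0), (1, 2), (11, -1), (12, 1), (22, -2)] 2 true
    (by decide +kernel)
  have hmem : ∀ χ : IrrCharacter Spor.Co1, (deg χ % 23 = 0 ∧ W χ = 0) ∨ (deg χ % 23 = 1 ∧ W χ = 2) ∨
      (deg χ % 23 = 11 ∧ W χ = -1) ∨ (deg χ % 23 = 12 ∧ W χ = 1) ∨ (deg χ % 23 = 22 ∧ W χ = -2) := by
    intro χ
    have h := hok.mem χ
    simpa using h
  have hdeg : ∑ χ, W χ * (deg χ : ℤ) = 0 := hok.deg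
  have hsq : ∑ χ, W χ * W χ = 46 := hok.sq
  have hcnt : ∑ χ, (bif Nat.beq (W χ).natAbs 1 then (1 : ℤ) else 0) = 2 := hok.cnt rfl
  have hone : ∀ χ : IrrCharacter Spor.Co1, (χ : Spor.Co1 → ℂ) = 1 → W χ = 2 := hok.one
  by_contra h8
  -- the set of the degrees
  have hfd : (charDegrees Spor.Co1).Finite := finite_charDegrees
  set A := hfd.toFinset with hA
  have hmA : ∀ d, d ∈ A ↔ d ∈ charDegrees Spor.Co1 := fun d => by rw [hA, Set.Finite.mem_toFinset]
  have hdA : ∀ χ : IrrCharacter Spor.Co1, deg χ ∈ A := fun χ => (hmA _).2 ⟨χ, rfl⟩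
  have hAc : A.card ≤ 7 := by
    have h1 : (charDegrees Spor.Co1).ncard = A.card := Set.ncard_eq_toFinset_card _ hfd
    have h2 : ¬ 8 ≤ (charDegrees Spor.Co1).ncard := h8
    omega
  set K : Finset ℕ := {1, 276, 299, 17250, 80730} with hK
  have hKA : K ⊆ A := by
    intro d hd
    rw [hmA]
    simp only [hK, Finset.mem_insert, Finset.mem_singleton] at hd
    rcases hd with rfl | rfl | rfl | rfl | rfl
    · exact one_mem
    · exact H843.IMC.Co1B.hasDeg_276
    · exact H843.IMC.Co1B.hasDeg_299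
    · exact H843.IMC.Co1D.hasDeg.1
    · exact H843.IMC.Co1D.hasDeg.2
  have hBc : (A \ K).card ≤ 2 := by
    rw [Finset.card_sdiff_of_subset hKA, show K.card = 5 by decide]
    omega
  -- the principal character
  set χ₀ : IrrCharacter Spor.Co1 := ⟨1, isIrr_one⟩ with hχ₀
  have hW0 : W χ₀ = 2 := hone χ₀ rfl
  have hd0 : deg χ₀ = 1 := by
    show charDegree (1 : Spor.Co1 → ℂ) = 1
    unfold charDegree
    simp
  have hne1 : ∀ χ : IrrCharacter Spor.Co1, χ ≠ χ₀ → deg χ ≠ 1 := by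
    intro χ hχ h1
    exact hχ (Subtype.ext (one_of_deg hnp χ h1))
  -- degrees prime to 23
  have hinB : ∀ χ : IrrCharacter Spor.Co1, W χ ≠ 0 → χ ≠ χ₀ → deg χ ∈ A \ K := by
    intro χ hχ h0
    rw [Finset.mem_sdiff]
    refine ⟨hdA χ, fun hd => ?_⟩
    have h1 := hne1 χ h0
    have h2 := hmem χ
    simp only [hK, Finset.mem_insert, Finset.mem_singleton] at hd
    rcases hd with hd | hd | hd | hd | hd <;> rw [hd] at h1 h2 <;> omega
  -- an exceptional character
  obtain ⟨χe, hχe⟩ : ∃ χ, W χ = 1 ∨ W χ = -1 := by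
    by_contra hcon
    push Not at hcon
    have h1 : ∑ χ, (bif Nat.beq (W χ).natAbs 1 then (1 : ℤ) else 0) = 0 := by
      refine Finset.sum_eq_zero fun χ _ => ?_
      have h2 := hcon χ
      have h3 : Nat.beq (W χ).natAbs 1 = false := by
        rw [Bool.eq_false_iff]
        intro h4
        have := Nat.eq_of_beq_eq_true h4
        omega
      rw [h3, cond_false]
    rw [h1] at hcnt
    norm_num at hcnt
  -- the squares
  have hsq' : ∀ χ, W χ * W χ = 4 * (if W χ = 2 ∨ W χ = -2 then (1 : ℤ) else 0) +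
      (bif Nat.beq (W χ).natAbs 1 then (1 : ℤ) else 0) := by
    intro χ
    rcases hmem χ with h | h | h | h | h <;> rw [h.2] <;> decide
  have hn2 : ∑ χ, (if W χ = 2 ∨ W χ = -2 then (1 : ℤ) else 0) = 11 := by
    have h1 := hsq
    rw [Finset.sum_congr rfl fun χ _ => hsq' χ, Finset.sum_add_distrib, ← Finset.mul_sum, hcnt] at h1
    omega
  -- a nonexceptional character
  obtain ⟨χn, hχn, hχn0⟩ : ∃ χ, (W χ = 2 ∨ W χ = -2) ∧ χ ≠ χ₀ := by
    by_contra hcon
    push Not at hcon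
    have h1 : ∑ χ, (if W χ = 2 ∨ W χ = -2 then (1 : ℤ) else 0) = 1 := by
      rw [Finset.sum_eq_single χ₀]
      · rw [if_pos (Or.inl hW0)]
      · intro χ _ hχ
        rw [if_neg]
        exact fun h => hχ (hcon χ h)
      · intro h
        exact absurd (Finset.mem_univ _) h
    rw [h1] at hn2
    norm_num at hn2
  set a := deg χn with ha
  set b := deg χe with hb
  have he0 : χe ≠ χ₀ := by
    rintro rfl
    rw [hW0] at hχe
    omega
  have haB : a ∈ A \ K := hinB χn (by omega) hχn0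
  have hbB : b ∈ A \ K := hinB χe (by omega) he0
  have hab : a ≠ b := by
    intro h
    have h1 := hmem χn
    have h2 := hmem χe
    rw [← ha, h] at h1
    rw [← hb] at h2
    omega
  have hB2 : A \ K = {a, b} := by
    symm
    apply Finset.eq_of_subset_of_card_le
    · intro d hd
      rw [Finset.mem_insert, Finset.mem_singleton] at hd
      rcases hd with rfl | rfl
      · exact haB
      · exact hbB
    · rw [Finset.card_pair hab]
      exact hBc
  -- all the degrees
  have hall : ∀ χ : IrrCharacter Spor.Co1, W χ ≠ 0 → χ ≠ χ₀ → deg χ = a ∨ deg χ = b := by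
    intro χ h1 h2
    have h3 := hinB χ h1 h2
    rw [hB2, Finset.mem_insert, Finset.mem_singleton] at h3
    exact h3
  have hs : (a % 23 = 1 ∧ W χn = 2) ∨ (a % 23 = 22 ∧ W χn = -2) := by
    have h1 := hmem χn
    rw [← ha] at h1
    omega
  have hε : (b % 23 = 12 ∧ W χe = 1) ∨ (b % 23 = 11 ∧ W χe = -1) := by
    have h1 := hmem χe
    rw [← hb] at h1
    omega
  -- the sum
  have b01 : Nat.beq 0 1 = false := rfl
  have b21 : Nat.beq 2 1 = false := rfl
  have hterm : ∀ χ, W χ * (deg χ : ℤ) = (W χn * a) * (if W χ = 2 ∨ W χ = -2 then (1 : ℤ) else 0) +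
      (W χe * b) * (bif Nat.beq (W χ).natAbs 1 then (1 : ℤ) else 0) + (if χ = χ₀ then 2 - W χn * a else 0) := by
    intro χ
    by_cases h0 : χ = χ₀
    · rw [h0, hW0, hd0]
      simp [b21]
    · rw [if_neg h0, add_zero]
      rcases hmem χ with h | h | h | h | h
      · rw [h.2]; simp [b01]
      · have h1 : deg χ = a ∧ W χn = 2 := by
          have := hall χ (by omega) h0
          omega
        rw [h.2, h1.1, h1.2]; simp [b21]
      · have h1 : deg χ = b ∧ W χe = -1 := by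
          have := hall χ (by omega) h0
          omega
        rw [h.2, h1.1, h1.2]; simp [b21]
      · have h1 : deg χ = b ∧ W χe = 1 := by
          have := hall χ (by omega) h0
          omega
        rw [h.2, h1.1, h1.2]; simp [b21]
      · have h1 : deg χ = a ∧ W χn = -2 := by
          have := hall χ (by omega) h0
          omega
        rw [h.2, h1.1, h1.2]; simp [b21]
  have hfinal : 10 * W χn * a + 2 * W χe * b + 2 = 0 := by
    have h1 := hdeg
    rw [Finset.sum_congr rfl fun χ _ => hterm χ, Finset.sum_add_distrib, Finset.sum_add_distrib, ← Finset.mul_sum,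
      ← Finset.mul_sum, hn2, hcnt, Finset.sum_ite_eq' Finset.univ χ₀] at h1
    simp only [Finset.mem_univ, if_true] at h1
    linarith
  have hdvd : ∀ χ : IrrCharacter Spor.Co1, deg χ ∣ 4157776806543360000 := by
    intro χ
    rw [← hN]
    exact Blocks.Knorr.charDegree_dvd χ.2
  have hpos : ∀ χ : IrrCharacter Spor.Co1, 0 < deg χ := by
    intro χ
    exact Nat.pos_of_dvd_of_pos (hdvd χ) (by norm_num)
  exact num_co1 (hdvd χn) (hdvd χe) (hpos χn) (hne1 χn hχn0) (hpos χe) hs hε hfinal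

/-- **`Co1`.** -/
theorem eight_co1 {S : Type u} [Group S] (h : Spor.IsoCo1 S) : Eight S := by
  obtain ⟨e⟩ := h
  exact eight_co1'.of_equiv e

end Cfsg.Agent.H83.Eight
end

-- part: H471/Eight/CertJ4
section
/-!
# J4 has at least eight character degrees: certificates (helper471, for S4899)
-/

set_option autoImplicit false
set_option maxRecDepth 100000
set_option maxHeartbeats 4000000
set_option linter.unusedSectionVars false

namespace Cfsg.Agent.H471.Eight.CertJ4

open Cfsg Cfsg.Agent.Characters.Core Cfsg.Agent.H653.Sys Cfsg.Agent.H653.Sieve Cfsg.Agent.H471.Eight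
open Cfsg.Agent.H664.Eight

universe u

def L : List (ℕ × ℕ) := [(43, 1), (37, 1), (31, 1), (29, 1), (23, 1), (11, 3), (7, 1), (5, 1), (3, 3), (2, 21)]

def Ds : List PD := [⟨43, 1, 14, 3, [(0, 0), (1, 3), (14, -1), (29, 1), (42, -3)], 129, 3, true⟩,
  ⟨37, 1, 12, 3, [(0, 0), (1, 3), (12, -1), (25, 1), (36, -3)], 111, 3, true⟩,
  ⟨31, 1, 10, 3, [(0, 0), (1, 3), (10, -1), (21, 1), (30, -3)], 93, 3, true⟩,
  ⟨29, 1, 28, 1, [(0, 0), (1, 1), (28, -1)], 29, 0, false⟩,
  ⟨23, 1, 22, 1, [(0, 0), (1, 1), (22, -1)], 23, 0, false⟩]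

def Cs : List Cond := [condEq 889111, condEq 1776888, condEq 4290927, condEq 95288172, condEq 35411145]

/-- the table of the degrees and column values -/
def B : List (List (ℕ × List ℤ)) := [[],
  [(98691321, [0, 0, 0, 0, 0]), (326457032, [0, 3, 0, 1, 0]), (393877506, [0, 0, 0, -1, -1]), (401132466, [0, 0, -3, 0, 0]), (723736354, [0, 0, 0, 0, 0]), (883631595, [-3, 0, 0, 0, 0]), (1973826420, [0, 0, 0, 0, 0]), (2201686960, [-1, -3, 0, 0, 0]), (2727495848, [0, 0, 3, -1, 0]), (2962269728, [1, 0, 0, 0, 0]), (7599231717, [0, 0, 0, 0, 0])],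
  [(887777, [-3, -3, -3, 0, 0]), (3403149, [0, 0, 0, -1, 0]), (10658109, [0, 0, -3, 0, 1]), (197382642, [0, 0, 0, 0, 0]), (686548320, [0, 0, 0, 0, -1]), (720334538, [0, 3, 0, 0, -1]), (1016407168, [0, 0, 0, 1, 0]), (1447472708, [0, 0, 0, 0, 0]), (2072517741, [0, 0, 0, 0, 0]), (2173331456, [0, 0, -1, 0, 0]), (2528143992, [-1, 0, 0, 1, 0]), (2731348992, [0, 3, 0, 0, 0]), (3053952880, [0, 3, 3, 0, 0]), (3947652840, [0, 0, 0, 0, 0]), (5163956688, [0, -3, 0, 0, 0]), (7208757360, [0, 0, 0, 0, 1]), (8482863312, [-3, 0, 0, 0, 0])],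
  [(1333, [0, 3, 0, -1, -1]), (299367, [3, 0, 0, 0, -1]), (887778, [0, 0, 0, 1, 1]), (1280755, [0, 0, 1, -1, 0]), (34427205, [1, 0, 0, 0, 0]), (102094470, [0, 0, 0, -1, 0]), (160194608, [0, 0, 0, 0, -1]), (170306560, [1, 0, 0, 0, 1]), (229046466, [0, 3, 1, 0, 0]), (296073963, [0, 0, 0, 0, 0]), (490053456, [0, 0, 0, 1, 0]), (921118996, [0, 0, 0, 0, 0]), (2171209062, [0, 0, 0, 0, 0]), (5255639840, [-1, 0, 3, 0, 0]), (5490413720, [0, 0, 0, 1, 0]), (5660770304, [3, 0, 1, 0, 0]), (5921479260, [0, 0, 0, 0, 0]), (6057358615, [0, 0, 0, 0, 1]), (8421659392, [0, 0, 0, 0, 0]), (8886809184, [3, 0, 0, 0, 0])],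
  [(394765284, [0, 0, 0, 0, 0]), (1120624032, [0, 0, -1, 0, 0]), (1182518964, [3, 0, 3, 0, 0]), (1705812480, [1, 0, 3, 0, 0]), (2894945416, [0, 0, 0, 0, 0]), (3054840657, [-3, 0, 0, 0, 0]), (4145035482, [0, 0, 0, 0, 0]), (4406682240, [-1, 0, 0, 0, 0]), (7895305680, [0, 0, 0, 0, 0]), (8217909568, [0, 0, 3, 0, 0])],
  [(3011505, [0, 3, -1, 0, 0]), (4290927, [0, 0, 0, 0, 1]), (62391065, [0, 0, 0, 1, 0]), (88021989, [0, 1, 0, 0, 0]), (191015460, [0, 0, 3, 0, 0]), (273846188, [0, -1, 0, 0, 0]), (299477112, [0, 0, 0, -1, 0]), (493456605, [0, 0, 0, 0, 0]), (594270320, [0, 0, -1, 0, 0]), (629335960, [0, 0, 0, 0, 1]), (856854880, [1, 0, 0, 0, 0]), (2368591704, [0, 0, 0, 0, 0]), (3584895552, [0, -3, 0, 0, 0]), (3618681770, [0, 0, 0, 0, 0]), (5393003154, [0, 0, 1, 0, 0]), (6608027580, [0, 0, 0, 0, -1]), (6777693153, [0, 3, 0, 0, 0]), (7368951968, [0, 0, 0, 0, 0]), (7834101760, [3, 0, 0, 0, 0])],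
  [(642320, [1, 0, 0, -1, -1]), (889111, [0, 3, 0, 0, 0]), (1187145, [3, 0, 0, 1, 0]), (7897280, [1, 0, -3, 0, 0]), (67916608, [0, 0, -1, 0, 0]), (102982248, [0, 0, 0, 0, 1]), (186713310, [0, 1, 0, 0, 0]), (330501168, [1, 0, 0, 0, 0]), (592147926, [0, 0, 0, 0, 0]), (625934144, [0, 3, 0, 0, 0]), (786127419, [0, 0, 0, 1, 0]), (1081313604, [0, 0, 0, 0, -1]), (1183406741, [0, -3, 0, 0, 0]), (1842237992, [0, 0, 0, 0, 0]), (2001151845, [0, 0, -1, 1, -1]), (2568096740, [0, 0, -1, 0, 0]), (4342418124, [0, 0, 0, 0, 0]), (6217553223, [0, 0, 0, 0, 0]), (6519994368, [0, 0, -3, 0, 0])],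
  [(32007996, [0, -3, 0, 0, 0]), (65794214, [0, 0, 0, 0, 0]), (99580432, [0, 3, 0, 0, 0]), (690839247, [0, 0, 0, 0, 0]), (910449664, [0, 1, 0, 0, 0]), (1315884280, [0, 0, 0, 0, 0]), (1375599456, [3, 1, 0, 0, 0]), (1509863773, [0, 0, 0, 1, 0]), (1721318896, [0, -1, 0, 0, 0]), (1746949820, [0, 0, 0, -1, 0]), (2076808668, [0, 0, 0, 0, 1]), (2827621104, [-1, 0, 0, 0, 0]), (3781980160, [-3, 0, 0, -1, 0]), (4441109445, [0, 0, 0, 0, 0]), (5066154478, [0, 0, 0, 0, 0]), (6316244544, [0, 0, 0, 0, 0]), (6721679160, [0, -1, 0, 0, 0]), (8055500288, [0, 0, 0, 0, -1]), (8385359136, [0, 0, 0, 1, 0])],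
  [(1776888, [-3, 0, -3, 0, 0]), (4292260, [0, 3, 0, -1, 0]), (4590294, [3, 0, 0, 0, 0]), (28606180, [0, 0, 0, 0, -1]), (63671820, [0, 0, 1, 0, 0]), (164485535, [0, 0, 0, 0, 0]), (300364890, [0, 0, 0, 0, 1]), (384095952, [0, 1, 0, 0, 0]), (466926680, [0, 0, -3, 0, 0]), (562011648, [-1, 0, 0, 0, 1]), (706699840, [0, 1, 3, 0, 0]), (789530568, [0, 0, 0, 0, 0]), (1194965184, [0, -1, 0, 0, 0]), (1903741279, [0, 0, 0, 0, -1]), (2259231051, [0, 1, 0, 0, 0]), (2470686174, [0, 0, 0, -1, 0]), (2858645160, [0, 0, 0, 1, 0]), (4237359621, [0, 0, 3, 0, 0]), (5789890832, [0, 0, 0, 0, 0]), (6112494720, [0, 0, 3, 0, 0]), (8290070964, [0, 0, 0, 0, 0]), (9251343360, [0, 3, -3, 0, 0])],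
  [(288144, [3, 1, -3, 0, 0]), (592296, [-1, 0, -1, 0, 0]), (1530098, [1, 0, 0, 0, 0]), (35411145, [0, -3, 0, -1, 0]), (103281615, [3, 0, 0, 0, 0]), (205076718, [0, 0, 0, -1, 1]), (263176856, [0, 0, 0, 0, 0]), (463524864, [0, 3, -3, 0, -1]), (888221889, [0, 0, 0, 0, 0]), (991215360, [0, -1, 3, 0, 0]), (1412453207, [0, 0, 1, 0, 0]), (2037498240, [0, 0, 1, 0, 0]), (2763356988, [0, 0, 0, 0, 0]), (3083781120, [0, 1, -1, 0, 0]), (3194422528, [0, 0, 0, -1, 0]), (3524281376, [0, 0, 0, 0, 1]), (5263537120, [0, 0, 0, 0, 0]), (6513627186, [0, 0, 0, 0, 0])],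
  [(6378405, [0, -1, 0, 0, -1]), (31616352, [0, 0, -1, 1, 0]), (32307363, [3, -3, 0, 0, -1]), (59427032, [0, 0, 3, 0, 0]), (142257760, [0, -1, 0, 0, 0]), (201972936, [3, 0, 0, 0, 0]), (259775040, [0, 3, 0, 0, -1]), (361868177, [0, 0, 0, 0, 0]), (986913210, [0, 0, 0, 0, 0]), (2855381760, [-3, 0, 3, 0, 1]), (3520879560, [0, 3, 0, 0, 0]), (4011324660, [0, 0, 1, 0, 0]), (4248017730, [0, 0, 0, 0, 1]), (4737183408, [0, 0, 0, 0, 0]), (4998830166, [-1, 0, 0, 0, 0]), (7237363540, [0, 0, 0, 0, 0]), (8225806848, [1, 0, 0, 0, 0])],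
  [(2076255, [0, 0, -3, 0, -1]), (165126522, [1, -3, 0, 0, 0]), (426773280, [0, -3, 0, 0, 0]), (460559498, [0, 0, 0, 0, 0]), (544290560, [0, 1, 0, 0, -1]), (925709290, [3, 0, 0, 0, 0]), (1085604531, [0, 0, 0, 0, 0]), (2471573952, [0, 0, 0, 0, 1]), (2960739630, [0, 0, 0, 0, 0]), (4210829696, [0, 0, 0, 0, 0]), (5627481552, [0, 0, -3, 0, -1]), (7961099894, [0, 0, 0, 0, 0]), (9211189960, [0, 0, 0, 0, 0])],
  [(17036514, [0, -1, -3, 0, 0]), (35019501, [0, 0, -1, 0, 0]), (53002488, [0, 1, 1, 0, 0]), (195852544, [-1, 0, 0, 0, 0]), (256809674, [0, 0, 3, 0, 0]), (458437104, [0, 0, 1, 0, 0]), (491583554, [1, 0, 0, 1, 0]), (693850752, [0, 3, -1, 0, 0]), (1184295852, [0, 0, 0, 0, 0]), (1445942610, [-1, 0, 0, 0, 0]), (1809340885, [0, 0, 0, 0, 0]), (2267824128, [0, 0, 3, 0, 1]), (3361872096, [0, 0, -3, 0, 0]), (3684475984, [0, 0, 0, 0, 0]), (4958581936, [-3, 0, 0, 0, -1]), (8684836248, [0, 0, 0, 0, 0])],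
  [(11223, [0, -1, 3, 0, -1]), (295482, [1, 0, 1, 1, 1]), (32897107, [0, 0, 0, 0, 0]), (133710822, [0, 0, -1, 0, 0]), (192792348, [-3, 0, 0, 0, 0]), (294543865, [-1, 0, 0, 0, 0]), (657942140, [0, 0, 0, 0, 0]), (885461060, [1, 0, 0, 0, -1]), (953716736, [-3, 0, 0, 0, 1]), (980546028, [0, 0, 3, 0, 0]), (1089007680, [0, 0, 0, -1, 0]), (1096262640, [0, 0, -3, 0, 1]), (2533077239, [0, 0, 0, 0, 0]), (2692972480, [-3, 0, 0, 0, 0]), (2828263424, [0, 0, 0, -1, -1]), (3158122272, [0, 0, 0, 0, 0]), (5227236864, [0, 0, 0, 1, 0]), (6908392470, [0, 0, 0, 0, 0])],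
  [(97504176, [-3, 0, 0, -1, 0]), (97802210, [0, -3, 0, 0, 0]), (105957504, [0, -1, 0, 1, 0]), (131588428, [0, 0, 0, 0, 0]), (394172988, [1, 0, 1, 0, 0]), (714597120, [1, 1, 0, 0, 0]), (885257856, [0, 0, 3, -1, 0]), (1018280219, [-1, 0, 0, 0, 0]), (1381678494, [0, 0, 0, 0, 0]), (2631768560, [0, 0, 0, 0, 0]), (3087148020, [0, -3, 0, 0, -1]), (3256813593, [0, 0, 0, 0, 0]), (8882218890, [0, 0, 0, 0, 0])],
  [(10669332, [0, -1, 0, 0, 0]), (36300256, [0, 0, 0, -1, 0]), (94400394, [0, 0, 0, 0, -1]), (230279749, [0, 0, 0, 0, 0]), (264065967, [0, 3, 0, 0, 0]), (366159104, [0, 0, 0, 0, 1]), (501450048, [3, 0, 0, -1, 0]), (821538564, [0, -3, 0, 0, 0]), (991204137, [0, 0, 0, 0, 1]), (1480369815, [0, 0, 0, 0, 0]), (1782810960, [0, 0, -3, 0, 0]), (2105414848, [0, 0, 0, 0, 0]), (2206228563, [0, 0, -1, 0, 0]), (2570564640, [3, 0, 0, 0, 0]), (3844670592, [0, 0, 0, 0, -1]), (3980549947, [0, 0, 0, 0, 0]), (4605594980, [0, 0, 0, 0, 0]), (7105775112, [0, 0, 0, 0, 0]),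 (7511209728, [0, -1, 0, 0, 0]), (8617511936, [-1, 0, 0, 0, 0])],
  [(391644, [0, -3, 1, -1, 0]), (6367182, [0, 0, -3, 0, 0]), (67324312, [1, 0, 0, 0, 0]), (159552288, [-1, 0, 0, 1, 0]), (162409280, [0, 0, 3, 0, 1]), (193091715, [0, 0, 0, 0, -1]), (328971070, [0, 0, 0, 0, 0]), (1173626520, [0, 1, 0, 0, 0]), (1579061136, [0, 0, 0, 0, 0]), (1901665024, [0, 0, 3, 0, 0]), (2922316980, [0, 0, 1, 1, 0]), (3151755090, [0, 0, 3, 0, 0]), (3454196235, [0, 0, 0, 0, 0]), (4544391060, [3, 0, 0, 0, 0]), (6614487040, [0, 0, 1, 0, 1])],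
  [(64264116, [-1, 0, 0, 0, 0]), (97410566, [0, 0, -1, 1, 0]), (105058503, [0, 0, -3, 0, 0]), (159007464, [0, 3, 3, 0, 0]), (164831040, [0, -3, -1, -1, -1]), (326848676, [0, 0, 1, 0, 0]), (587557632, [-3, 0, 0, 0, 0]), (1052707424, [0, 0, 0, 0, 0]), (1981808640, [3, 1, -3, -1, 1]), (2302797490, [0, 0, 0, 0, 0]), (3316194486, [0, 0, 1, 0, -1]), (3552887556, [0, 0, 0, 0, 0]), (4278746304, [0, 0, -1, 0, 0]), (4861077760, [0, 0, 0, 1, -1]), (5428022655, [0, 0, 0, 0, 0]), (8984313360, [0, 0, 0, -1, 0])],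
  [(2122394, [0, 0, -1, 0, 0]), (3401816, [0, -3, 0, 0, 1]), (61203920, [-3, 0, 0, 0, 0]), (95288172, [0, 0, 0, 1, 0]), (203749824, [0, 0, -3, 0, 0]), (491288072, [0, 0, -1, 0, -1]), (526353712, [0, 0, 0, 0, 0]), (560139930, [0, 3, 0, 0, 0]), (668899616, [3, 0, -3, 0, 0]), (1050585030, [0, 0, 1, 0, 0]), (1151398745, [0, 0, 0, 0, 0]), (1514797020, [1, 0, 0, 0, 0]), (1776443778, [0, 0, 0, 0, 0]), (2265609456, [0, 0, 0, 0, -1]), (5121279360, [0, 1, 0, 0, 0]), (5526713976, [0, 0, 0, 0, 0]), (7704290220, [0, 0, -3, 0, 0]), (8787818496, [0, 0, 0, 0, 1])]]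

def RS : List (ℕ × List ℕ) := [(43, [0, 1, 14, 29, 42]), (37, [0, 1, 12, 25, 36]), (31, [0, 1, 10, 21, 30]), (29, [0, 1, 28]), (23, [0, 1, 22])]

theorem hB : allDiv 86775571046077562880 (tabD 86775571046077562880 RS (Ds.map PD.fam) 19 B) L 1 = true :=
  Cfsg.Agent.H653.Sys.Qk.tab 9315340629 (by decide +kernel)

section

variable {S : Type u} [Group S] [Finite S] [Fintype (IrrCharacter S)]

theorem tab [IsSimpleGroup S] (hN : Nat.card S = 86775571046077562880) (hx : ∀ D ∈ Ds, D.Cent S) (hC : ∀ c ∈ Cs, c.Holds S) :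
    Tab S (fun g : S => orderOf g) 86775571046077562880 L (Ds.map PD.fam) Cs B.flatten :=
  Tab.of_primes hN (by norm_num) (by decide +kernel) (by decide +kernel) rfl (by decide +kernel) hx hB hC

variable {lab : S → ℕ}

def Q1 : List ℕ := [642320, 159552288, 501450048, 1981808640, 2528143992]

theorem must_1 (C : Tab S lab 86775571046077562880 L (Ds.map PD.fam) Cs B.flatten) : ∃ d ∈ Q1, d ∈ charDegrees S :=
  Cfsg.Agent.H471.Eight.Qp.must C _ 0
    [⟨0, 0, 0, [0, 0, 289251903486925, 0]⟩, ⟨0, 0, 0, [0, 0, 0]⟩, ⟨0, 0, 0, [0, 0]⟩, ⟨0, 0, 0, [0]⟩, ⟨0, 0, 0, []⟩]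
    [0, 0, 0, 0, 0] (by decide +kernel)

def Q2 : List ℕ := [4292260, 105957504, 205076718, 885257856, 2001151845, 2727495848]

theorem must_2 (C : Tab S lab 86775571046077562880 L (Ds.map PD.fam) Cs B.flatten) : ∃ d ∈ Q2, d ∈ charDegrees S :=
  Cfsg.Agent.H471.Eight.Qp.must C _ 7
    [⟨202856219, 1430155091194942, -1755779606329311, [257484697816881110, -9841391232214989, -151391409389115987, -215553111050952651]⟩, ⟨-788771411, 19012404848210894, 0, [322398266590579331, 88165494372298177260, -1005351055611682303]⟩, ⟨-543225172, 8207354156718290, 114836612475481049260, [116954769788593944120, 726542007950858694]⟩, ⟨9035126795, 2122206807177907658, 0, [255127928265300559353]⟩, ⟨-10545153492, 4059184375366840922, 0, []⟩]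
    [-169012871670134502, 0, -4014055702165694422, -3042231690062421036, -266561810957844022565] (by decide +kernel)

end

/-- **Eight degrees**; `hx` : elements of prime order and their centralizers; `hK` : known degrees. -/
theorem eight {S : Type u} [Group S] [Finite S] [IsSimpleGroup S] (hN : Nat.card S = 86775571046077562880)
    (hx : ∀ pk ∈ ([(43, 1), (37, 1), (31, 1), (29, 1), (23, 1)] : List (ℕ × ℕ)), ∃ x : S, orderOf x = pk.1 ∧
      Nat.card (Subgroup.centralizer ({x} : Set S)) = pk.1 * pk.2)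
    (hK : ∀ d ∈ ([889111, 1776888, 4290927, 95288172, 35411145] : List ℕ), d ∈ charDegrees S) :
    Eight S := by
  classical
  have := finite_irr (G := S)
  let _ := Fintype.ofFinite (IrrCharacter S)
  have T := tab (S := S) hN (by
    intro D hD
    simp only [Ds, List.mem_cons, List.not_mem_nil, or_false] at hD
    rcases hD with rfl | rfl | rfl | rfl | rfl
    · exact hx (43, 1) (by simp)
    · exact hx (37, 1) (by simp)
    · exact hx (31, 1) (by simp)
    · exact hx (29, 1) (by simp)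
    · exact hx (23, 1) (by simp)) (by
    intro c hc
    simp only [Cs, List.mem_cons, List.not_mem_nil, or_false] at hc
    rcases hc with rfl | rfl | rfl | rfl | rfl
    · exact condEq_holds (hK 889111 (by simp))
    · exact condEq_holds (hK 1776888 (by simp))
    · exact condEq_holds (hK 4290927 (by simp))
    · exact condEq_holds (hK 95288172 (by simp))
    · exact condEq_holds (hK 35411145 (by simp)))
  refine eight_of_pack [889111, 1776888, 4290927, 95288172, 35411145] hK [(1, Q1), (1, Q2)] ?_ 1 (Cfsg.Agent.H471.Eight.Qp.pack 43 (by decide +kernel))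
  intro q hq
  simp only [List.mem_cons, List.not_mem_nil, or_false] at hq
  rcases hq with rfl | rfl
  · exact must_1 T
  · exact must_2 T

end Cfsg.Agent.H471.Eight.CertJ4
end

-- part: H492/RowJ4
section
/-!
# `J4` has at least eight character degrees (helper492, for S4899)
-/

set_option autoImplicit false

namespace Cfsg.Agent.H492.RowJ4

open Cfsg Cfsg.Agent.Characters.Core Cfsg.Agent.H664.Eight
open Cfsg.Agent.H859.BigNum Cfsg.Agent.H858 Cfsg.Agent.H417.JFourDeg

universe u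

theorem eight_j4' : Eight Spor.J4 := by
  have hfin : Finite Spor.J4 := H337.finite_of_isoJ4 isoK
  have hsim : IsSimpleGroup Spor.J4 := (KFacts.J4.Base.exists_full isoK).2.1
  have ex : ∀ p : ℕ, p.Prime → p ∣ 86775571046077562880 → ∃ x : Spor.J4, orderOf x = p := by
    intro p hp hd
    have := Fact.mk hp
    exact exists_prime_orderOf_dvd_card' (G := Spor.J4) p (by rw [card_K]; exact hd)
  refine H471.Eight.CertJ4.eight card_K ?_ ?_
  · intro pk hpk
    simp only [List.mem_cons, List.not_mem_nil, or_false] at hpk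
    rcases hpk with rfl | rfl | rfl | rfl | rfl
    · obtain ⟨x, hx⟩ := ex 43 (by norm_num) (by norm_num)
      exact ⟨x, hx, (cent_of (fun P hP => (data43 hP).1) x hx).trans (by norm_num)⟩
    · obtain ⟨x, hx⟩ := ex 37 (by norm_num) (by norm_num)
      exact ⟨x, hx, (cent_of (fun P hP => (data37 hP).1) x hx).trans (by norm_num)⟩
    · obtain ⟨x, hx⟩ := ex 31 (by norm_num) (by norm_num)
      exact ⟨x, hx, (cent_of (fun P hP => (data31 hP).1) x hx).trans (by norm_num)⟩
    · obtain ⟨x, hx⟩ := ex 29 (by norm_num) (by norm_num)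
      exact ⟨x, hx, (cent_of (fun P hP => (data29' hP).1) x hx).trans (by norm_num)⟩
    · obtain ⟨x, hx⟩ := ex 23 (by norm_num) (by norm_num)
      exact ⟨x, hx, (cent_of (fun P hP => (data23 hP).1) x hx).trans (by norm_num)⟩
  · intro d hd
    simp only [List.mem_cons, List.not_mem_nil, or_false] at hd
    rcases hd with rfl | rfl | rfl | rfl | rfl
    · obtain ⟨χ, hχ⟩ := H492.IMJ4.exists_889111
      exact ⟨χ, H670.PSing.charDegree_eq_of hχ⟩
    · obtain ⟨χ, hχ⟩ := H492.IMJ4.exists_1776888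
      exact ⟨χ, H670.PSing.charDegree_eq_of hχ⟩
    · obtain ⟨χ, hχ⟩ := H492.IMJ4.exists_4290927
      exact ⟨χ, H670.PSing.charDegree_eq_of hχ⟩
    · obtain ⟨χ, hχ⟩ := H492.IMJ4.exists_95288172
      exact ⟨χ, H670.PSing.charDegree_eq_of hχ⟩
    · obtain ⟨χ, hχ⟩ := H492.IMJ4.exists_35411145
      exact ⟨χ, H670.PSing.charDegree_eq_of hχ⟩

/-- **`J4`.** -/
theorem eight_j4 {S : Type u} [Group S] (h : Spor.IsoJ4 S) : Eight S := by
  obtain ⟨e⟩ := h
  exact eight_j4'.of_equiv e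

end Cfsg.Agent.H492.RowJ4
end

private theorem dce_08dcecc573eb : _root_.True := by
  try have : _root_.True := by simp only [_root_.Cfsg.Agent.H471.Eight.CertJ4.Ds.eq_1]
  try have : _root_.True := by simp only [_root_.Cfsg.Agent.H471.Eight.CertJ4.Cs.eq_1]
  exact _root_.True.intro
end

-- part: H471/Eight/RowFi23
section
set_option linter.all false
open scoped Cfsg.Agent.FastGrp

/-!
# `Fi23` has at least eight character degrees (helper471, for S4899)

`p = 23`: the degrees 782, 106743 and a multiple of 115 are divisible by 23; 30888 is a nonexceptional degree; there are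
two more nonexceptional degrees, and the exceptional one.
-/

set_option autoImplicit false
set_option maxRecDepth 100000

namespace Cfsg.Agent.H471.Eight.RowFi23

open Cfsg Subgroup Cfsg.Agent.Characters.Core Cfsg.Agent.H664.Eight Cfsg.Agent.H289.Eight
open Cfsg.Agent.Lib.PermNet Cfsg.Agent.Fischer.Fi23Hom Cfsg.Agent.LThreeFi23
open Cfsg.Agent.H839.Fi23 Cfsg.Agent.H678.DG.FiBlk
open Cfsg.Spor (Fi23)

universe u

theorem chk_fi23 : Cyc.chk 4089470473293004800 23 11
    [(23, 1), (17, 1), (13, 1), (11, 1), (7, 1), (5, 2), (3, 13), (2, 18)] (-30888) = true := by decide +kernel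

theorem eight_fi23' : Eight Fi23 := by
  have h0 : Spor.IsoFi23 Fi23 := ⟨MulEquiv.refl _⟩
  have hs : IsSimpleGroup Fi23 := S1697.result.1
  have hfin : Finite Fi23 := Nat.finite_of_card_ne_zero (by rw [cardG]; norm_num)
  have hy : orderOf (elw y23) = 23 := orderOf_eq_prime pow23 y23_ne
  have hc : Nat.card (centralizer ({elw y23} : Set Fi23)) = 23 := by
    rw [H870.IMLocal.centralizer_zpowers, self_cent23, card_y23]
  obtain ⟨χ₁, h1⟩ := (H672.SporIM.fi23 h0).1
  obtain ⟨χ₂, h2⟩ := (H672.SporIM.fi23 h0).2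
  obtain ⟨χ₃, h3⟩ := H678.DG.FiPts.im_fi23 h0
  obtain ⟨χ₄, h4⟩ := im_115
  have hmem : ∀ {n : ℕ} {χ : IrrCharacter Fi23}, charDegree (χ : Fi23 → ℂ) = n → n ∈ charDegrees Fi23 :=
    fun {n χ} h => ⟨χ, h⟩
  have : Fact (Nat.Prime 23) := ⟨by norm_num⟩
  refine Cyc.eight_of_elt (p := 23) (by norm_num) hy hc (e := 11) (t := 2) (by norm_num)
    cardG (by norm_num) (by norm_num) (by norm_num) (by norm_num)
    (L := [(23, 1), (17, 1), (13, 1), (11, 1), (7, 1), (5, 2), (3, 13), (2, 18)]) (by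
      intro pa hpa
      fin_cases hpa <;> norm_num) (by decide +kernel) (by norm_num) (by norm_num) (d0 := -30888)
    (by rw [show (-30888 : ℤ).natAbs = 30888 by norm_num]; first | exact hmem h1 | exact hmem h2)
    (by decide) (by decide) chk_fi23 [782, 106743, charDegree (χ₄ : Fi23 → ℂ)] ?_ ?_ (by simp)
  · intro k hk
    simp only [List.mem_cons, List.not_mem_nil, or_false] at hk
    rcases hk with rfl | rfl | rfl
    · exact ⟨by first | exact hmem h1 | exact hmem h2, by norm_num⟩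
    · exact ⟨hmem h3, by norm_num⟩
    · exact ⟨⟨χ₄, rfl⟩, (by norm_num : 23 ∣ 115).trans h4⟩
  · have h5 : 5 ∣ charDegree (χ₄ : Fi23 → ℂ) := (by norm_num : 5 ∣ 115).trans h4
    simp only [List.nodup_cons, List.mem_cons, List.not_mem_nil, or_false, not_or, not_false_eq_true, List.nodup_nil,
      and_true]
    refine ⟨⟨by norm_num, fun h => ?_⟩, fun h => ?_⟩
    · rw [← h] at h5; norm_num at h5
    · rw [← h] at h5; norm_num at h5

/-- **`Fi23`.** -/
theorem eight_fi23 {S : Type u} [Group S] (h : Spor.IsoFi23 S) : Eight S := by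
  obtain ⟨e⟩ := h
  exact eight_fi23'.of_equiv e

end Cfsg.Agent.H471.Eight.RowFi23
end

-- part: H175/Eight/Mathieu_mg
section
prune_inst 0x216034447dc20200081c059273003c47ff000190002b8001f9660f460e8eff63a906af20fef01f02914ea6e4503bc048131001f9421000002a008e00411901a08cab56c2b37cad0c35008f81b887590c0000000000000000000080000005100400c010000
set_option linter.all false
open scoped Cfsg.Agent.FastGrp

-- part: H175/Eight/Mathieu
section
/-!
# The character degrees of `M₁₁`, `M₁₂`, `M₂₂` (helper175, S4899)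

* `m11` : a simple group of order 7920 has exactly seven character degrees;
* `eight_m12`, `eight_m22` : simple groups of orders 95040, 443520 have at least eight.
-/

set_option autoImplicit false

open Cfsg

namespace Cfsg.Agent.H175.Eight

open Cfsg.Agent.H664.Eight

universe u

variable {S : Type u} [Group S]

/-- **`M₁₁` : the degrees are `1, 10, 11, 16, 44, 45, 55`.** -/
theorem mem_m11 [Finite S] (h : Cfsg.IsM11 S) (d : ℕ) : d ∈ charDegrees S ↔ d ∈ [1, 10, 11, 16, 44, 45, 55] := by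
  obtain ⟨e, he⟩ := H590.MElevenDeg.exists_equiv h
  have hd : ∀ i, charDegree (e i : S → ℂ) = H590.MElevenDeg.deg10 i := fun i => Blocks.Basic.charDegree_of_eq (he i)
  constructor
  · rintro ⟨χ, rfl⟩
    obtain ⟨i, rfl⟩ := e.surjective χ
    rw [hd i]
    fin_cases i <;> simp [H590.MElevenDeg.deg10]
  · intro h
    simp only [List.mem_cons, List.not_mem_nil, or_false] at h
    rcases h with rfl | rfl | rfl | rfl | rfl | rfl | rfl
    · exact ⟨e 0, hd 0⟩
    · exact ⟨e 1, hd 1⟩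
    · exact ⟨e 7, hd 7⟩
    · exact ⟨e 5, hd 5⟩
    · exact ⟨e 8, hd 8⟩
    · exact ⟨e 4, hd 4⟩
    · exact ⟨e 9, hd 9⟩

/-- **`M₁₁` has seven character degrees.** -/
theorem m11 (h : Cfsg.IsM11 S) : (charDegrees S).ncard = 7 := by
  have : Finite S := Nat.finite_of_card_ne_zero (by rw [h.2]; norm_num)
  exact ncard_eq_of_list [1, 10, 11, 16, 44, 45, 55] (by decide) (mem_m11 h)

/-- **`M₁₂` has at least eight character degrees.** -/
theorem eight_m12 (h : Cfsg.IsM12 S) : Eight S := by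
  classical
  have hs : IsSimpleGroup S := h.1
  have hc : Nat.card S = 95040 := h.2
  have : Finite S := Nat.finite_of_card_ne_zero (by rw [h.2]; norm_num)
  have := Fintype.ofFinite S
  have := Characters.Core.finite_irr (G := S)
  have := Fintype.ofFinite (IrrCharacter S)
  have h11 := fun P : Sylow 11 S => Cfsg.Agent.MTwelve.SylowEleven.centralizer_sylow11 hc P
  have hN := fun P : Sylow 11 S => Cfsg.Agent.MTwelve.SylowEleven.card_normalizer_sylow11 hc P
  obtain ⟨C, t, hdeg, ho, ht2, ht1, hst⟩ := H417.DegMTwelve.exists_ctx hc h11 hN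
  have hcd : ∀ ψ : IrrCharacter S, charDegree (ψ : S → ℂ) = C.deg ψ := fun ψ => by
    rw [hdeg]
    exact MTwelve.ElevenMain.charDegree_eq_deg ψ
  obtain ⟨d, hd, hd33⟩ := (H417.DegMTwelve.exists_both h).2
  obtain ⟨χ, hχ, -, hχ1⟩ := MTwelve.DegreeElevenMain.exists_real_eleven hc h11 hN
  have e11 : charDegree χ = 11 := Blocks.Basic.charDegree_of_eq (by rw [hχ1]; norm_num)
  refine eight_of_list [1, 11, 16, 45, 54, 120, 144, d] ?_ (by simp) ?_
  · have : ∀ x ∈ [1, 11, 16, 45, 54, 120, 144], x ≠ d := by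
      intro x hx hxd
      subst hxd
      simp only [List.mem_cons, List.not_mem_nil, or_false] at hx
      omega
    simp only [List.mem_cons, List.not_mem_nil, or_false] at this
    simp only [List.nodup_cons, List.mem_cons, List.not_mem_nil, or_false, not_or, List.nodup_nil, not_false_eq_true,
      and_true]
    refine ⟨⟨by norm_num, by norm_num, by norm_num, by norm_num, by norm_num, by norm_num, this _ (by tauto)⟩,
      ⟨by norm_num, by norm_num, by norm_num, by norm_num, by norm_num, this _ (by tauto)⟩,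
      ⟨by norm_num, by norm_num, by norm_num, by norm_num, this _ (by tauto)⟩,
      ⟨by norm_num, by norm_num, by norm_num, this _ (by tauto)⟩,
      ⟨by norm_num, by norm_num, this _ (by tauto)⟩, ⟨by norm_num, this _ (by tauto)⟩, this _ (by tauto)⟩
  · intro x hx
    simp only [List.mem_cons, List.not_mem_nil, or_false] at hx
    rcases hx with rfl | rfl | rfl | rfl | rfl | rfl | rfl | rfl
    · exact one_mem
    · exact ⟨⟨χ, hχ⟩, e11⟩
    · exact ⟨C.th, (hcd _).trans C.dth⟩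
    · exact ⟨C.c45, (hcd _).trans C.d45⟩
    · exact ⟨C.c54, (hcd _).trans C.d54⟩
    · exact ⟨C.c120, (hcd _).trans C.d120⟩
    · exact ⟨C.c144, (hcd _).trans C.d144⟩
    · exact hd

/-- **`M₂₂` has at least eight character degrees.** -/
theorem eight_m22 (h : Cfsg.IsM22 S) : Eight S := by
  have : Finite S := Nat.finite_of_card_ne_zero (by rw [h.2]; norm_num)
  obtain ⟨f, hf⟩ := H417.DegMTwentyTwo.exists_enum h
  refine eight_of_list [1, 21, 45, 55, 99, 154, 210, 231] (by decide) (by simp) ?_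
  intro x hx
  simp only [List.mem_cons, List.not_mem_nil, or_false] at hx
  rcases hx with rfl | rfl | rfl | rfl | rfl | rfl | rfl | rfl
  · exact ⟨f 0, hf 0⟩
  · exact ⟨f 1, hf 1⟩
  · exact ⟨f 2, hf 2⟩
  · exact ⟨f 4, hf 4⟩
  · exact ⟨f 5, hf 5⟩
  · exact ⟨f 6, hf 6⟩
  · exact ⟨f 7, hf 7⟩
  · exact ⟨f 8, hf 8⟩

end Cfsg.Agent.H175.Eight
end

-- part: H471/Eight/CertCo3
section
/-!
# Co3 has at least eight character degrees: certificates (helper471, for S4899)
-/

set_option autoImplicit false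
set_option maxRecDepth 100000
set_option maxHeartbeats 4000000
set_option linter.unusedSectionVars false

namespace Cfsg.Agent.H471.Eight.CertCo3

open Cfsg Cfsg.Agent.Characters.Core Cfsg.Agent.H653.Sys Cfsg.Agent.H653.Sieve Cfsg.Agent.H471.Eight
open Cfsg.Agent.H664.Eight

universe u

def L : List (ℕ × ℕ) := [(23, 1), (11, 1), (7, 1), (5, 3), (3, 7), (2, 10)]

def Ds : List PD := [⟨23, 1, 11, 2, [(0, 0), (1, 2), (11, -1), (12, 1), (22, -2)], 46, 2, true⟩,
  ⟨11, 2, 5, 2, [(0, 0), (1, 2), (5, -1), (6, 1), (10, -2)], 44, 0, false⟩]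

def Cs : List Cond := [condEq 23, condEq 275, condEq 2024, condEq 8855]

/-- the table of the degrees and column values -/
def B : List (List (ℕ × List ℤ)) := (let yq1 : List (List (ℕ × List ℤ)) := (let yq2 : List (List (ℕ × List ℤ)) := (let yq3 : List (List (ℕ × List ℤ)) := %[[(276, [0, 2]), (31625, [0, 0]), (40320, [2, -1]), (44550, [-2, 0]), (91080, [0, 0]), (402408, [0, 1]), (566720, [0, 0]), (635904, [0, -1])],
  [(230, [0, -2]), (3520, [2, 0]), (4554, [0, 0]), (28336, [0, 0]), (75900, [0, 0]), (218592, [0, 0]), (231000, [-1, 0]), (335340, [0, -1]), (529920, [0, 1])],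
  [(231, [2, 0]), (1265, [0, 0]), (1782, [-1, 0]), (5589, [0, 2]), (8832, [0, -2]), (34776, [0, -1]), (60720, [0, 0]), (85536, [-2, 0]), (239085, [0, 0]), (579600, [0, -2])],
  [(138, [0, 1]), (2300, [0, 2]), (22275, [-1, 0]), (26082, [0, 2]), (41216, [0, -2]), (45540, [0, 0]), (283360, [0, 0])],
  [(45, [-2, 2]), (4416, [0, -1]), (5544, [2, 0]), (30360, [0, 0]), (42768, [-1, 0]), (46575, [0, 2]), (73600, [0, -2]), (289800, [0, -1]), (506000, [0, 0])],
  [(2772, [1, 0]), (15180, [0, 0]), (36800, [0, -1]), (67068, [0, 2]), (105984, [0, -2]), (133056, [2, 0]), (253000, [0, 0]), (417312, [0, -1])] | []];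
  %[[(3795, [0, 0]), (63250, [0, 0]), (182160, [0, 0]), (279450, [0, 1]), (441600, [0, -1])],
  [(506, [0, 0]), (1540, [-2, 0]), (4830, [0, 2]), (10752, [-1, -1]), (11880, [1, 0]), (24288, [0, 0]), (95634, [0, 0]), (404800, [0, 0]), (570240, [2, 0]), (621000, [0, 1])],
  [(1024, [1, 2]), (9108, [0, 0]), (9625, [-1, 0]), (56672, [0, 0]), (151800, [0, 0]), (232875, [0, -1]), (368000, [0, 1]), (437184, [0, 0]), (462000, [-2, 0]), (670680, [0, -2])],
  [(6336, [-1, 0]), (17710, [0, 0]), (19872, [0, 1]), (21000, [2, 2]), (136620, [0, 0]), (304128, [-2, 0]), (331200, [0, 2])],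
  [(368, [0, -1]), (2530, [0, 0]), (3564, [-2, 0]), (24150, [0, -1]), (69552, [0, -2]), (91125, [-2, 2]), (121440, [0, 0]), (478170, [0, 0])],
  [(275, [-2, 0]), (1920, [-1, 1]), (15456, [0, 2]), (24057, [-2, 0]), (106260, [0, 0]), (236544, [1, 0]), (284625, [0, 0])] | yq3]);
  (let yq4 : type_of% yq2 := %[[(264, [-1, 0]), (875, [2, 1]), (12672, [-2, 0]), (13800, [0, 1]), (35420, [0, 0]), (39744, [0, 2]), (94875, [0, 0]), (156492, [0, 1]), (247296, [0, -1]), (273240, [0, 0]), (324000, [-2, 1])],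
  [(4025, [0, -2]), (5670, [1, -1]), (20240, [0, 0]), (79695, [0, 0]), (89424, [0, -1]), (614790, [0, 0])],
  [(736, [0, -2]), (2898, [0, -1]), (5060, [0, 0]), (48300, [0, -2]), (242880, [0, 0]), (467775, [2, 0])],
  [(126, [-1, -1]), (1771, [0, 0]), (11500, [0, -1]), (13662, [0, 0]), (33120, [0, -2]), (46656, [1, -1]), (85008, [0, 0]), (130410, [0, -1]), (206080, [0, 1]), (227700, [0, 0]), (655776, [0, 0])],
  [(644, [0, 1]), (3840, [-2, 2]), (9856, [1, 0]), (34155, [0, 0]), (212520, [0, 0]), (238464, [0, 1]), (252000, [1, 2]), (569250, [0, 0])],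
  [(2760, [0, -2]), (3888, [2, -1]), (7084, [0, 0]), (18975, [0, 0]), (42240, [1, 0]), (54648, [0, 0]), (181125, [0, -2]), (255150, [-1, -1]), (340032, [0, 0])] | yq2];
  %[[(23, [0, 2]), (540, [-1, 2]), (7590, [0, 0]), (33534, [0, 1]), (52992, [0, -1]), (66528, [1, 0]), (126500, [0, 0]), (281600, [-1, 0]), (364320, [0, 0]), (558900, [0, 2])],
  [(8625, [0, 2]), (16192, [0, 0]), (63756, [0, 0]), (154560, [0, -2]), (170775, [0, 0]), (491832, [0, 0])],
  [(495, [1, 0]), (1012, [0, 0]), (21504, [-2, -2]), (23760, [2, 0]), (48576, [0, 0]), (74520, [0, 1]), (117760, [0, -1]), (191268, [0, 0]), (512325, [0, 0])],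
  [(7452, [0, -1]), (11776, [0, 1]), (80960, [0, 0]), (124200, [0, -2]), (174960, [-2, -1]), (246400, [2, 0]), (318780, [0, 0]), (449064, [1, 0])],
  [(6325, [0, 0]), (18216, [0, 0]), (19250, [-2, 0]), (27945, [0, -1]), (44160, [0, 1]), (113344, [0, 0]), (148500, [1, 0]), (303600, [0, 0]), (465750, [0, -2]), (553311, [0, 0])],
  [(3036, [0, 0]), (7360, [0, 2]), (28980, [0, 1]), (50600, [0, 0]), (145728, [0, 0]), (172800, [2, 2]), (443520, [-1, 0]), (483000, [0, 2]), (573804, [0, 0])] | yq4]));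
  (let yq5 : type_of% yq1 := (let yq6 : type_of% yq1 := %[[(252, [-2, -2]), (1380, [0, -1]), (3542, [0, 0]), (23000, [0, -2]), (27324, [0, 0]), (93312, [2, -2]), (170016, [0, 0]), (260820, [0, -2]), (412160, [0, 2]), (455400, [0, 0])],
  [(253, [0, 0]), (770, [-1, 0]), (2415, [0, 1]), (12144, [0, 0]), (36960, [-2, 0]), (40250, [0, 2]), (47817, [0, 0]), (202400, [0, 0]), (285120, [1, 0]), (368874, [0, 0]), (582912, [0, 0])],
  [(160, [-2, 1]), (1288, [0, 2]), (8855, [0, 0]), (10500, [1, 1]), (19712, [2, 0]), (68310, [0, 0]), (152064, [-1, 0]), (165600, [0, 1]), (425040, [0, 0]), (476928, [0, 2])],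
  [(1242, [0, -2]), (6600, [-2, 0]), (7728, [0, 1]), (46080, [-1, 2]), (53130, [0, 0]), (128800, [0, 2]), (409860, [0, 0]), (647680, [0, 0])],
  [(115, [0, -1]), (1760, [1, 0]), (2277, [0, 0]), (14168, [0, 0]), (21735, [0, -2]), (37950, [0, 0]), (84480, [2, 0]), (109296, [0, 0]), (430353, [0, 0]), (510300, [-2, -2]), (680064, [0, 0])],
  [(22, [-2, 0]), (1150, [0, 1]), (3312, [0, 2]), (13041, [0, 1]), (20608, [0, -1]), (22770, [0, 0]), (69300, [2, 0]), (141680, [0, 0]), (217350, [0, 2]), (379500, [0, 0]), (483840, [1, -1]), (534600, [-1, 0])] | yq1];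
  %[[(11, [-1, 0]), (528, [-2, 0]), (1656, [0, 1]), (11385, [0, 0]), (27600, [0, 2]), (34650, [1, 0]), (70840, [0, 0]), (108675, [0, 1]), (189750, [0, 0]), (312984, [0, 2]), (494592, [0, -2]), (546480, [0, 0])],
  [(12, [1, 2]), (8096, [0, 0]), (12420, [0, 2]), (31878, [0, 0]), (77280, [0, -1]), (245916, [0, 0]), (388608, [0, 0]), (531300, [0, 0])],
  [(483, [0, -2]), (1000, [-1, -2]), (11340, [2, -2]), (40480, [0, 0]), (62100, [0, -1]), (123200, [1, 0]), (159390, [0, 0]), (178848, [0, -2])],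
  [(1518, [0, 0]), (3680, [0, 1]), (12375, [2, 0]), (25300, [0, 0]), (72864, [0, 0]), (86400, [1, 1]), (241500, [0, 1]), (286902, [0, 0]), (453376, [0, 0]), (695520, [0, 2])],
  [(5796, [0, -2]), (10120, [0, 0]), (136080, [1, -2]), (307395, [0, 0]), (485760, [0, 0]), (664125, [0, 0])],
  [(3024, [-1, -2]), (6831, [0, 0]), (16560, [0, -1]), (42504, [0, 0]), (113850, [0, 0]), (160380, [2, 0]), (276000, [0, -2]), (327888, [0, 0])] | yq6]);
  (let yq7 : type_of% yq5 := %[[(5175, [0, -1]), (14904, [0, -2]), (18711, [1, 0]), (23552, [0, 2]), (79200, [-1, 0]), (92736, [0, 1]), (102465, [0, 0]), (161920, [0, 0]), (221375, [0, 0]), (637560, [0, 0])],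
  [(4048, [0, 0]), (6210, [0, 1]), (15939, [0, 0]), (103500, [0, 2]), (122958, [0, 0]), (194304, [0, 0]), (265650, [0, 0]), (644000, [0, -1])],
  [(759, [0, 0]), (5600, [-1, 2]), (12650, [0, 0]), (36432, [0, 0]), (55890, [0, -2]), (88320, [0, 2]), (143451, [0, 0]), (226688, [0, 0]), (297000, [2, 0]), (347760, [0, 1]), (607200, [0, 0])],
  [(10395, [-2, 0]), (21252, [0, 0]), (44000, [2, 0]), (56925, [0, 0]), (80190, [1, 0]), (138000, [0, -1]), (163944, [0, 0]), (251505, [0, 2]), (259072, [0, 0]), (354200, [0, 0]), (397440, [0, -2])],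
  [(6072, [0, 0]), (7200, [2, 1]), (18480, [-1, 0]), (20125, [0, 1]), (57960, [0, 2]), (101200, [0, 0]), (184437, [0, 0]), (291456, [0, 0]), (398475, [0, 0])],
  [(621, [0, -1]), (3300, [-1, 0]), (10350, [0, -2]), (26565, [0, 0]), (37422, [2, 0]), (64400, [0, 1]), (117369, [0, -2]), (158400, [-2, 0]), (185472, [0, 2]), (204930, [0, 0]), (323840, [0, 0]), (442750, [0, 0])] | yq5];
  %[[],
  [(1035, [0, 2]), (6440, [0, -1]), (20493, [0, 0]), (24300, [1, 2]), (32384, [0, 0]), (44275, [0, 0]), (127512, [0, 0]), (341550, [0, 0])],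
  [(5313, [0, 0]), (12880, [0, -2]), (40986, [0, 0]), (64768, [0, 0]), (88550, [0, 0]), (124740, [-1, 0]), (255024, [0, 0]), (528000, [1, 0]), (683100, [0, 0])],
  [(896, [-2, -1]), (990, [2, 0]), (2024, [0, 0]), (51750, [0, 1]), (61479, [0, 0]), (97152, [0, 0]), (132825, [0, 0]), (149040, [0, 2]), (382536, [0, 0]), (586845, [0, 1])],
  [(2025, [2, 2]), (10626, [0, 0]), (22000, [1, 0]), (81972, [0, 0]), (129536, [0, 0]), (177100, [0, 0]), (198720, [0, -1]), (249480, [-2, 0]), (510048, [0, 0])] | yq7])))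

def RS : List (ℕ × List ℕ) := [(23, [0, 1, 11, 12, 22]), (11, [0, 1, 5, 6, 10])]

theorem hB : allDiv 495766656000 (tabD 495766656000 RS (Ds.map PD.fam) 47 B) L 1 = true :=
  Cfsg.Agent.H653.Sys.Qk.tab 704106 (by decide +kernel)

section

variable {S : Type u} [Group S] [Finite S] [Fintype (IrrCharacter S)]

theorem tab [IsSimpleGroup S] (hN : Nat.card S = 495766656000) (hx : ∀ D ∈ Ds, D.Cent S) (hC : ∀ c ∈ Cs, c.Holds S) :
    Tab S (fun g : S => orderOf g) 495766656000 L (Ds.map PD.fam) Cs B.flatten :=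
  Tab.of_primes hN (by norm_num) (by decide +kernel) (by decide +kernel) rfl (by decide +kernel) hx hB hC

variable {lab : S → ℕ}

def Q1 : List ℕ := (let yq8 : List ℕ := (let yq9 : List ℕ := (let yq10 : List ℕ := (let yq11 : List ℕ := %[529920, 558900, 586845, 621000, 695520 | []];
  %[368000, 402408, 412160, 476928, 483000 | yq11]);
  (let yq12 : type_of% yq10 := %[279450, 312984, 324000, 331200, 347760 | yq10];
  %[217350, 238464, 241500, 251505, 252000 | yq12]));
  (let yq13 : type_of% yq9 := (let yq14 : type_of% yq9 := %[156492, 165600, 172800, 185472, 206080 | yq9];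
  %[92736, 103500, 108675, 128800, 149040 | yq14]);
  (let yq15 : type_of% yq13 := %[67068, 74520, 86400, 88320, 91125 | yq13];
  %[46080, 46575, 51750, 57960, 64400 | yq15])));
  (let yq16 : type_of% yq8 := (let yq17 : type_of% yq8 := (let yq18 : type_of% yq8 := %[28980, 33534, 39744, 40250, 44160 | yq8];
  %[21000, 23552, 24300, 26082, 27600 | yq18]);
  (let yq19 : type_of% yq17 := %[13041, 13800, 15456, 19872, 20125 | yq17];
  %[7728, 8625, 10500, 11776, 12420 | yq19]));
  (let yq20 : type_of% yq16 := (let yq21 : type_of% yq16 := %[5589, 5600, 6210, 7200, 7360 | yq16];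
  %[2415, 3312, 3680, 3840, 4830 | yq21]);
  (let yq22 : type_of% yq20 := %[1150, 1288, 1656, 1920, 2300 | yq20];
  %[45, 160, 540, 644, 1035 | yq22]))))

theorem must_1 (C : Tab S lab 495766656000 L (Ds.map PD.fam) Cs B.flatten) : ∃ d ∈ Q1, d ∈ charDegrees S :=
  Cfsg.Agent.H471.Eight.Qp.must C _ 0
    [⟨0, 0, 0, [328714848]⟩, ⟨-163296, 22534848, 0, []⟩]
    [-82627776, 0, 0, 0] (by decide +kernel)

def Q2 : List ℕ := (let yq23 : List ℕ := (let yq24 : List ℕ := (let yq25 : List ℕ := (let yq26 : List ℕ := %[494592, 510300, 579600, 635904, 644000, 670680 | []];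
  %[397440, 417312, 441600, 465750, 483840 | yq26]);
  (let yq27 : type_of% yq25 := %[255150, 260820, 276000, 289800, 335340 | yq25];
  %[178848, 181125, 198720, 232875, 247296 | yq27]));
  (let yq28 : type_of% yq24 := (let yq29 : type_of% yq24 := %[130410, 136080, 138000, 154560, 174960 | yq24];
  %[93312, 105984, 117369, 117760, 124200 | yq29]);
  (let yq30 : type_of% yq28 := %[62100, 69552, 73600, 77280, 89424 | yq28];
  %[41216, 46656, 48300, 52992, 55890 | yq30])));
  (let yq31 : type_of% yq23 := (let yq32 : type_of% yq23 := (let yq33 : type_of% yq23 := %[27945, 33120, 34776, 36800, 40320 | yq23];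
  %[20608, 21504, 21735, 23000, 24150 | yq33]);
  (let yq34 : type_of% yq32 := %[11340, 11500, 12880, 14904, 16560 | yq32];
  %[6440, 7452, 8832, 10350, 10752 | yq34]));
  (let yq35 : type_of% yq31 := (let yq36 : type_of% yq31 := %[4025, 4416, 5175, 5670, 5796 | yq31];
  %[1380, 2760, 2898, 3024, 3888 | yq36]);
  (let yq37 : type_of% yq35 := %[621, 736, 896, 1000, 1242 | yq35];
  %[115, 230, 252, 368, 483 | yq37]))))

theorem must_2 (C : Tab S lab 495766656000 L (Ds.map PD.fam) Cs B.flatten) : ∃ d ∈ Q2, d ∈ charDegrees S :=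
  Cfsg.Agent.H471.Eight.Qp.must C _ 0
    [⟨0, 0, 247883328, [21555072]⟩, ⟨1959552, -22534848, 0, []⟩]
    [0, 0, 0, 0] (by decide +kernel)

def Q3 : List ℕ := (let yq38 : List ℕ := (let yq39 : List ℕ := (let yq40 : List ℕ := %[324000, 443520, 462000, 510300, 534600 | []];
  %[231000, 249480, 255150, 281600, 304128 | yq40]);
  (let yq41 : type_of% yq39 := %[91125, 124740, 152064, 158400, 174960 | yq39];
  %[42768, 44550, 46080, 79200, 85536 | yq41]));
  (let yq42 : type_of% yq38 := (let yq43 : type_of% yq38 := %[19250, 21504, 22275, 24057, 36960 | yq38];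
  %[9625, 10395, 10752, 12672, 18480 | yq43]);
  (let yq44 : type_of% yq42 := %[3564, 3840, 5600, 6336, 6600 | yq42];
  %[45, 160, 540, 1540, 1920 | yq44])))

theorem must_3 (C : Tab S lab 495766656000 L (Ds.map PD.fam) Cs B.flatten) : ∃ d ∈ Q3, d ∈ charDegrees S :=
  Cfsg.Agent.H471.Eight.Qp.must C _ 0
    [⟨489888, 129330432, 1487299968, [2163345408]⟩, ⟨0, 0, 0, []⟩]
    [0, -247883328, 0, 0] (by decide +kernel)

def Q4 : List ℕ := (let yq45 : List ℕ := (let yq46 : List ℕ := (let yq47 : List ℕ := (let yq48 : List ℕ := %[467775, 483840, 528000, 570240 | []];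
  %[252000, 285120, 297000, 449064 | yq48]);
  (let yq49 : type_of% yq47 := %[160380, 172800, 236544, 246400 | yq47];
  %[123200, 133056, 136080, 148500 | yq49]));
  (let yq50 : type_of% yq46 := (let yq51 : type_of% yq46 := %[80190, 84480, 86400, 93312 | yq46];
  %[44000, 46656, 66528, 69300 | yq51]);
  (let yq52 : type_of% yq50 := %[34650, 37422, 40320, 42240 | yq50];
  %[21000, 22000, 23760, 24300 | yq52])));
  (let yq53 : type_of% yq45 := (let yq54 : type_of% yq45 := (let yq55 : type_of% yq45 := %[11880, 12375, 18711, 19712 | yq45];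
  %[7200, 9856, 10500, 11340 | yq55]);
  (let yq56 : type_of% yq54 := %[3300, 3520, 5544, 5670 | yq54];
  %[1782, 2025, 2772, 3024 | yq56]));
  (let yq57 : type_of% yq53 := (let yq58 : type_of% yq53 := %[990, 1000, 1024, 1760 | yq53];
  %[495, 770, 875, 896 | yq58]);
  %[11, 12, 22, 126, 231, 252, 264 | yq57])))

theorem must_4 (C : Tab S lab 495766656000 L (Ds.map PD.fam) Cs B.flatten) : ∃ d ∈ Q4, d ∈ charDegrees S :=
  Cfsg.Agent.H471.Eight.Qp.must C _ 0
    [⟨-489888, -67359600, -2912629104, [-2039403744]⟩, ⟨0, 0, 0, []⟩]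
    [0, 0, 0, 0] (by decide +kernel)

def Q5 : List ℕ := (let yq59 : List ℕ := (let yq60 : List ℕ := (let yq61 : List ℕ := (let yq62 : List ℕ := %[449064, 467775, 483840, 528000, 570240 | []];
  %[246400, 252000, 285120, 297000 | yq62]);
  (let yq63 : type_of% yq61 := %[148500, 160380, 172800, 236544 | yq61];
  %[86400, 123200, 133056, 136080 | yq63]));
  (let yq64 : type_of% yq60 := (let yq65 : type_of% yq60 := %[66528, 69300, 79200, 80190, 84480 | yq60];
  %[42240, 42768, 44000, 46656 | yq65]);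
  (let yq66 : type_of% yq64 := %[23760, 24300, 34650, 37422 | yq64];
  %[21000, 21504, 22000, 22275 | yq66])));
  (let yq67 : type_of% yq59 := (let yq68 : type_of% yq59 := (let yq69 : type_of% yq59 := %[11880, 12375, 18480, 18711, 19712 | yq59];
  %[9625, 9856, 10500, 10752 | yq69]);
  (let yq70 : type_of% yq68 := %[5544, 5670, 6336, 7200 | yq68];
  %[2772, 3024, 3300, 3520 | yq70]));
  (let yq71 : type_of% yq67 := (let yq72 : type_of% yq67 := %[1024, 1760, 1782, 1920, 2025 | yq67];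
  %[875, 896, 990, 1000 | yq72]);
  (let yq73 : type_of% yq71 := %[252, 264, 495, 770 | yq71];
  %[11, 12, 126, 231 | yq73]))))

theorem must_5 (C : Tab S lab 495766656000 L (Ds.map PD.fam) Cs B.flatten) : ∃ d ∈ Q5, d ∈ charDegrees S :=
  Cfsg.Agent.H471.Eight.Qp.must C _ 0
    [⟨-244944, -2694384, -22991178672, [-11430801648]⟩, ⟨0, 0, 0, []⟩]
    [0, -123941664, 0, 0] (by decide +kernel)

def Q6 : List ℕ := (let yq74 : List ℕ := (let yq75 : List ℕ := (let yq76 : List ℕ := (let yq77 : List ℕ := %[494592, 510300, 534600, 579600, 635904, 644000, 670680 | []];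
  %[397440, 417312, 441600, 443520, 462000, 465750 | yq77]);
  (let yq78 : type_of% yq76 := %[276000, 281600, 289800, 304128, 324000, 335340 | yq76];
  %[231000, 232875, 247296, 249480, 255150, 260820 | yq78]));
  (let yq79 : type_of% yq75 := (let yq80 : type_of% yq75 := %[152064, 154560, 158400, 174960, 178848, 181125, 198720 | yq75];
  %[117760, 124200, 124740, 130410, 136080, 138000 | yq80]);
  (let yq81 : type_of% yq79 := %[85536, 89424, 91125, 93312, 105984, 117369 | yq79];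
  %[55890, 62100, 69552, 73600, 77280, 79200 | yq81])));
  (let yq82 : type_of% yq74 := (let yq83 : type_of% yq74 := (let yq84 : type_of% yq74 := %[34776, 36800, 36960, 41216, 44550, 48300, 52992 | yq74];
  %[21735, 23000, 24057, 24150, 27945, 33120 | yq84]);
  (let yq85 : type_of% yq83 := %[12672, 12880, 14904, 16560, 19250, 20608 | yq83];
  %[7452, 8832, 10350, 10395, 11340, 11500 | yq85]));
  (let yq86 : type_of% yq82 := (let yq87 : type_of% yq82 := %[4025, 4416, 5175, 5796, 6440, 6600 | yq82];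
  %[1540, 2760, 2898, 3564, 3840, 3888 | yq87]);
  (let yq88 : type_of% yq86 := %[528, 540, 621, 736, 1242, 1380 | yq86];
  %[45, 115, 160, 230, 368, 483 | yq88]))))

theorem must_6 (C : Tab S lab 495766656000 L (Ds.map PD.fam) Cs B.flatten) : ∃ d ∈ Q6, d ∈ charDegrees S :=
  Cfsg.Agent.H471.Eight.Qp.must C _ 1
    [⟨1789003284, 245987951548, 76266104497873, [41777771716393]⟩, ⟨1529663742, -17591133028, 0, []⟩]
    [0, 0, 0, 0] (by decide +kernel)

def Q7 : List ℕ := (let yq89 : List ℕ := (let yq90 : List ℕ := (let yq91 : List ℕ := (let yq92 : List ℕ := (let yq93 : List ℕ := %[579600, 635904, 644000, 670680 | []];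
  %[465750, 494592, 510300, 534600 | yq93]);
  %[324000, 335340, 397440, 417312, 441600, 443520, 462000 | yq92]);
  (let yq94 : type_of% yq91 := %[249480, 255150, 260820, 276000, 281600, 289800, 304128 | yq91];
  %[174960, 178848, 181125, 198720, 231000, 232875, 247296 | yq94]));
  (let yq95 : type_of% yq90 := (let yq96 : type_of% yq90 := (let yq97 : type_of% yq90 := %[138000, 152064, 154560, 158400 | yq90];
  %[124200, 124740, 130410, 136080 | yq97]);
  %[77280, 79200, 85536, 89424, 105984, 117369, 117760 | yq96]);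
  (let yq98 : type_of% yq95 := %[46656, 48300, 52992, 55890, 62100, 69552, 73600 | yq95];
  %[33120, 34776, 36800, 36960, 41216, 42768, 44550 | yq98])));
  (let yq99 : type_of% yq89 := (let yq100 : type_of% yq89 := (let yq101 : type_of% yq89 := (let yq102 : type_of% yq89 := %[23000, 24057, 24150, 27945 | yq89];
  %[20608, 21504, 21735, 22275 | yq102]);
  %[11500, 12672, 12880, 14904, 16560, 18480, 19250 | yq101]);
  (let yq103 : type_of% yq100 := %[7452, 8832, 9625, 9856, 10350, 10395, 10752 | yq100];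
  %[5175, 5600, 5670, 5796, 6336, 6440, 6600 | yq103]));
  (let yq104 : type_of% yq99 := (let yq105 : type_of% yq99 := %[2772, 2898, 3024, 3300, 3564, 4025, 4416 | yq99];
  %[1242, 1380, 1540, 1760, 1782, 1920, 2760 | yq105]);
  (let yq106 : type_of% yq104 := %[540, 621, 736, 770, 896, 1000, 1024 | yq104];
  %[11, 12, 126, 252, 264, 368, 495 | yq106]))))

theorem must_7 (C : Tab S lab 495766656000 L (Ds.map PD.fam) Cs B.flatten) : ∃ d ∈ Q7, d ∈ charDegrees S :=
  Cfsg.Agent.H471.Eight.Qp.must C _ 1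
    [⟨160987929, 42500813343, -1955037413767, [-87770792175]⟩, ⟨157295016, 37986746425, 0, []⟩]
    [-159182556449, -81459892240, 0, 0] (by decide +kernel)

def Q8 : List ℕ := (let yq107 : List ℕ := (let yq108 : List ℕ := (let yq109 : List ℕ := (let yq110 : List ℕ := %[529920, 558900, 570240, 586845, 621000, 695520 | []];
  %[402408, 412160, 467775, 476928, 483000, 528000 | yq110]);
  (let yq111 : type_of% yq109 := %[279450, 297000, 312984, 331200, 347760, 368000 | yq109];
  %[217350, 238464, 241500, 246400, 251505 | yq111]));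
  (let yq112 : type_of% yq108 := (let yq113 : type_of% yq108 := %[149040, 156492, 160380, 165600, 185472, 206080 | yq108];
  %[92736, 93312, 103500, 108675, 128800, 133056 | yq113]);
  (let yq114 : type_of% yq112 := %[67068, 69300, 74520, 84480, 88320, 91125 | yq112];
  %[44160, 46575, 51750, 57960, 64400 | yq114])));
  (let yq115 : type_of% yq107 := (let yq116 : type_of% yq107 := (let yq117 : type_of% yq107 := %[33534, 37422, 39744, 40250, 40320, 44000 | yq107];
  %[20125, 23552, 23760, 26082, 27600, 28980 | yq117]);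
  (let yq118 : type_of% yq116 := %[12420, 13041, 13800, 15456, 19712, 19872 | yq116];
  %[7728, 8625, 11340, 11776, 12375 | yq118]));
  (let yq119 : type_of% yq115 := (let yq120 : type_of% yq115 := %[3888, 4830, 5544, 5589, 6210, 7360 | yq115];
  %[2300, 2415, 3312, 3520, 3680, 3840 | yq120]);
  (let yq121 : type_of% yq119 := %[644, 990, 1035, 1150, 1288, 1656 | yq119];
  %[45, 138, 160, 231, 276 | yq121]))))

theorem must_8 (C : Tab S lab 495766656000 L (Ds.map PD.fam) Cs B.flatten) : ∃ d ∈ Q8, d ∈ charDegrees S :=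
  Cfsg.Agent.H471.Eight.Qp.must C _ 0
    [⟨-653184, -7185024, 316051243200, [158029540704]⟩, ⟨-326592, 3755808, 0, []⟩]
    [0, -330511104, 0, 0] (by decide +kernel)

def Q9 : List ℕ := (let yq122 : List ℕ := (let yq123 : List ℕ := (let yq124 : List ℕ := (let yq125 : List ℕ := (let yq126 : List ℕ := %[570240, 586845, 621000, 695520 | []];
  %[483840, 528000, 529920, 558900 | yq126]);
  %[368000, 402408, 412160, 449064, 467775, 476928, 483000 | yq125]);
  (let yq127 : type_of% yq124 := %[252000, 279450, 285120, 297000, 312984, 331200, 347760 | yq124];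
  %[206080, 217350, 236544, 238464, 241500, 246400, 251505 | yq127]));
  (let yq128 : type_of% yq123 := (let yq129 : type_of% yq123 := (let yq130 : type_of% yq123 := %[160380, 165600, 172800, 185472 | yq123];
  %[133056, 148500, 149040, 156492 | yq130]);
  %[88320, 92736, 93312, 103500, 108675, 123200, 128800 | yq129]);
  (let yq131 : type_of% yq128 := %[66528, 67068, 69300, 74520, 80190, 84480, 86400 | yq128];
  %[44000, 44160, 46575, 46656, 51750, 57960, 64400 | yq131])));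
  (let yq132 : type_of% yq122 := (let yq133 : type_of% yq122 := (let yq134 : type_of% yq122 := (let yq135 : type_of% yq122 := %[39744, 40250, 40320, 42240 | yq122];
  %[28980, 33534, 34650, 37422 | yq135]);
  %[21000, 22000, 23552, 23760, 24300, 26082, 27600 | yq134]);
  (let yq136 : type_of% yq133 := %[13041, 13800, 15456, 18711, 19712, 19872, 20125 | yq133];
  %[9856, 10500, 11340, 11776, 11880, 12375, 12420 | yq136]));
  (let yq137 : type_of% yq132 := (let yq138 : type_of% yq132 := %[5589, 5670, 6210, 7200, 7360, 7728, 8625 | yq132];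
  %[2772, 3312, 3520, 3680, 3888, 4830, 5544 | yq138]);
  (let yq139 : type_of% yq137 := %[1150, 1288, 1656, 1760, 2025, 2300, 2415 | yq137];
  %[22, 231, 644, 875, 990, 1024, 1035 | yq139]))))

theorem must_9 (C : Tab S lab 495766656000 L (Ds.map PD.fam) Cs B.flatten) : ∃ d ∈ Q9, d ∈ charDegrees S :=
  Cfsg.Agent.H471.Eight.Qp.must C _ 1
    [⟨-324454355, -44511069369, 205115975337, [-38880714139]⟩, ⟨-161024753, 22221415874, 0, []⟩]
    [-81478524871, -405618045, 0, 0] (by decide +kernel)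

def Q10 : List ℕ := (let yq140 : List ℕ := (let yq141 : List ℕ := (let yq142 : List ℕ := (let yq143 : List ℕ := (let yq144 : List ℕ := %[570240, 586845, 621000, 695520 | []];
  %[483000, 528000, 529920, 558900 | yq144]);
  %[347760, 368000, 402408, 412160, 449064, 467775, 476928 | yq143]);
  (let yq145 : type_of% yq142 := %[251505, 252000, 279450, 285120, 297000, 312984, 331200 | yq142];
  %[185472, 206080, 217350, 236544, 238464, 241500, 246400 | yq145]));
  (let yq146 : type_of% yq141 := (let yq147 : type_of% yq141 := %[133056, 148500, 149040, 156492, 160380, 165600, 172800 | yq141];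
  %[86400, 88320, 92736, 103500, 108675, 123200, 128800 | yq147]);
  (let yq148 : type_of% yq146 := %[64400, 66528, 67068, 69300, 74520, 80190, 84480 | yq146];
  %[42240, 44000, 44160, 46080, 46575, 51750, 57960 | yq148])));
  (let yq149 : type_of% yq140 := (let yq150 : type_of% yq140 := (let yq151 : type_of% yq140 := %[28980, 33534, 34650, 37422, 39744, 40250, 40320 | yq140];
  %[21000, 22000, 23552, 23760, 24300, 26082, 27600 | yq151]);
  (let yq152 : type_of% yq150 := %[13041, 13800, 15456, 18711, 19712, 19872, 20125 | yq150];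
  %[8625, 9856, 10500, 11776, 11880, 12375, 12420 | yq152]));
  (let yq153 : type_of% yq149 := (let yq154 : type_of% yq149 := %[5544, 5589, 5600, 6210, 7200, 7360, 7728 | yq149];
  %[2415, 2772, 3312, 3520, 3680, 3888, 4830 | yq154]);
  (let yq155 : type_of% yq153 := %[1024, 1035, 1150, 1288, 1656, 2025, 2300 | yq153];
  %[22, 138, 231, 276, 644, 875, 990 | yq155]))))

theorem must_10 (C : Tab S lab 495766656000 L (Ds.map PD.fam) Cs B.flatten) : ∃ d ∈ Q10, d ∈ charDegrees S :=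
  Cfsg.Agent.H471.Eight.Qp.must C _ 1
    [⟨-2936679957, -341822662054, 5510379385946, [-431628400605]⟩, ⟨-2934031914, 33741367005, 0, []⟩]
    [0, -247883328000, 0, 0] (by decide +kernel)

end

/-- **Eight degrees**; `hx` : elements of prime order and their centralizers; `hK` : known degrees. -/
theorem eight {S : Type u} [Group S] [Finite S] [IsSimpleGroup S] (hN : Nat.card S = 495766656000)
    (hx : ∀ pk ∈ ([(23, 1), (11, 2)] : List (ℕ × ℕ)), ∃ x : S, orderOf x = pk.1 ∧
      Nat.card (Subgroup.centralizer ({x} : Set S)) = pk.1 * pk.2)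
    (hK : ∀ d ∈ ([23, 275, 2024, 8855] : List ℕ), d ∈ charDegrees S) :
    Eight S := by
  classical
  have := finite_irr (G := S)
  let _ := Fintype.ofFinite (IrrCharacter S)
  have T := tab (S := S) hN (by
    intro D hD
    simp only [Ds, List.mem_cons, List.not_mem_nil, or_false] at hD
    rcases hD with rfl | rfl
    · exact hx (23, 1) (by simp)
    · exact hx (11, 2) (by simp)) (by
    intro c hc
    simp only [Cs, List.mem_cons, List.not_mem_nil, or_false] at hc
    rcases hc with rfl | rfl | rfl | rfl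
    · exact condEq_holds (hK 23 (by simp))
    · exact condEq_holds (hK 275 (by simp))
    · exact condEq_holds (hK 2024 (by simp))
    · exact condEq_holds (hK 8855 (by simp)))
  refine eight_of_pack [23, 275, 2024, 8855] hK [(1, Q1), (1, Q2), (2, Q3), (1, Q4), (1, Q5), (1, Q6), (1, Q7), (1, Q8), (1, Q9), (1, Q10)] ?_ 5 (Cfsg.Agent.H471.Eight.Qp.pack 2207 (by decide +kernel))
  intro q hq
  simp only [List.mem_cons, List.not_mem_nil, or_false] at hq
  rcases hq with rfl | rfl | rfl | rfl | rfl | rfl | rfl | rfl | rfl | rfl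
  · exact must_1 T
  · exact must_2 T
  · exact must_3 T
  · exact must_4 T
  · exact must_5 T
  · exact must_6 T
  · exact must_7 T
  · exact must_8 T
  · exact must_9 T
  · exact must_10 T

end Cfsg.Agent.H471.Eight.CertCo3
end

-- part: H934/Eight/Co3
section
/-!
# `Co3` has at least eight character degrees (helper934, for S4899)
-/

set_option autoImplicit false

namespace Cfsg.Agent.H934.Eight.Co3

open Cfsg Cfsg.Agent.Characters.Core Cfsg.Agent.H664.Eight

universe u

theorem cent_zpowers {G : Type*} [Group G] (x : G) :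
    Subgroup.centralizer ((Subgroup.zpowers x : Subgroup G) : Set G) = Subgroup.centralizer ({x} : Set G) := by
  rw [Subgroup.zpowers_eq_closure, Subgroup.centralizer_closure]

theorem eight_co3' : Eight Spor.Co3 := by
  have hI : Spor.IsoCo3 Spor.Co3 := ⟨MulEquiv.refl _⟩
  obtain ⟨hs, hcard⟩ := Cfsg.Agent.OddHalf.D8.RowCo3.card_of hI
  have hfin : Finite Spor.Co3 := Nat.finite_of_card_ne_zero (by rw [hcard]; norm_num)
  have ex : ∀ p : ℕ, p.Prime → p ∣ 495766656000 → ∃ x : Spor.Co3, orderOf x = p := by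
    intro p hp hd
    have := Fact.mk hp
    exact exists_prime_orderOf_dvd_card' (G := Spor.Co3) p (by rw [hcard]; exact hd)
  refine Cfsg.Agent.H471.Eight.CertCo3.eight hcard ?_ ?_
  · intro pk hpk
    simp only [List.mem_cons, List.not_mem_nil, or_false] at hpk
    rcases hpk with rfl | rfl
    · obtain ⟨x, hx⟩ := ex 23 (by norm_num) (by norm_num)
      refine ⟨x, hx, ?_⟩
      have h := Cfsg.Agent.H555.TwoSp.c23 hI (Subgroup.zpowers x) (by rw [Nat.card_zpowers, hx])
      rw [cent_zpowers] at h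
      exact h.trans (by norm_num)
    · obtain ⟨x, hx⟩ := ex 11 (by norm_num) (by norm_num)
      refine ⟨x, hx, ?_⟩
      have h := Cfsg.Agent.H555.TwoSp.c11 hI (Subgroup.zpowers x) (by rw [Nat.card_zpowers, hx])
      rw [cent_zpowers] at h
      exact h.trans (by norm_num)
  · intro d hd
    simp only [List.mem_cons, List.not_mem_nil, or_false] at hd
    rcases hd with rfl | rfl | rfl | rfl
    · obtain ⟨χ, hχ⟩ := Cfsg.Agent.H843.IMC.Co3A.hasDeg_23
      exact ⟨χ, hχ⟩
    · obtain ⟨χ, hχ⟩ := Cfsg.Agent.H843.IMC.Co3A.hasDeg_275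
      exact ⟨χ, hχ⟩
    · obtain ⟨⟨χ, hχ, -⟩, -⟩ := Cfsg.Agent.H769.PB.CoThreeRank5.exists_chars
      exact ⟨χ, hχ⟩
    · obtain ⟨-, χ, hχ, -⟩ := Cfsg.Agent.H769.PB.CoThreeRank5.exists_chars
      exact ⟨χ, hχ⟩

/-- **`Co3`.** -/
theorem eight_co3 {S : Type u} [Group S] (h : Spor.IsoCo3 S) : Eight S := by
  obtain ⟨e⟩ := h
  exact eight_co3'.of_equiv e

end Cfsg.Agent.H934.Eight.Co3
end

private theorem dce_1741583331a8 : _root_.True := by
  try have : _root_.True := by simp only [_root_.Cfsg.Agent.H471.Eight.CertCo3.Cs.eq_1]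
  try have : _root_.True := by simp only [_root_.Cfsg.Agent.H590.MElevenDeg.deg10.eq_1]
  try have : _root_.True := by simp only [_root_.Cfsg.Agent.H471.Eight.CertCo3.Ds.eq_1]
  exact _root_.True.intro
end

-- part: H315/Eight/RowMcL
section
set_option linter.all false
open scoped Cfsg.Agent.FastGrp

-- part: H471/Eight/CertMcL
section
/-!
# McL has at least eight character degrees: certificates (helper471, for S4899)
-/

set_option autoImplicit false
set_option maxRecDepth 100000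
set_option maxHeartbeats 4000000
set_option linter.unusedSectionVars false

namespace Cfsg.Agent.H471.Eight.CertMcL

open Cfsg Cfsg.Agent.Characters.Core Cfsg.Agent.H653.Sys Cfsg.Agent.H653.Sieve Cfsg.Agent.H471.Eight
open Cfsg.Agent.H664.Eight

universe u

def L : List (ℕ × ℕ) := [(11, 1), (7, 1), (5, 3), (3, 6), (2, 7)]

def Ds : List PD := [⟨11, 1, 5, 2, [(0, 0), (1, 2), (5, -1), (6, 1), (10, -2)], 22, 2, true⟩,
  ⟨7, 2, 3, 2, [(0, 0), (1, 2), (3, -1), (4, 1), (6, -2)], 28, 0, false⟩]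

def Cs : List Cond := [condEq 22, condEq 252, condEq 3520, condEq 4500, condEq 5103]

/-- the table of the degrees and column values -/
def B : List (List (ℕ × List ℤ)) := [[],
  [(231, [0, 0]), (875, [1, 0]), (990, [0, -1]), (3520, [0, -2]), (3888, [-1, -1]), (5544, [0, 0]), (7200, [1, 1]), (11340, [-2, 0]), (12375, [0, -2]), (21000, [2, 0])],
  [(462, [0, 0]), (945, [-2, 0]), (1750, [2, 0]), (1980, [0, -2]), (3360, [-1, 0]), (5775, [0, 0]), (7776, [-2, -2]), (11088, [0, 0]), (14400, [2, 2])],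
  [(210, [2, 0]), (440, [0, -2]), (693, [0, 0]), (1728, [2, -2]), (2464, [0, 0]), (3200, [-2, 2]), (10560, [0, 1]), (16632, [0, 0])],
  [(27, [-1, -2]), (50, [1, 2]), (165, [0, 1]), (280, [-1, 0]), (648, [-2, 1]), (924, [0, 0]), (1200, [2, -1]), (6237, [0, 0]), (6720, [-2, 0]), (11550, [0, 0]), (22176, [0, 0]), (26730, [0, 1])],
  [(28, [1, 0]), (120, [-2, 2]), (396, [0, 1]), (672, [2, 0]), (1155, [0, 0]), (1408, [0, 2]), (2673, [0, -2]), (4950, [0, 2]), (10125, [-1, -1]), (27720, [0, 0])],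
  [(6, [1, -2]), (144, [2, 1]), (1386, [0, 0]), (4928, [0, 0]), (5940, [0, 1]), (11000, [0, -1]), (17325, [0, 0]), (21120, [0, 2])],
  [(99, [0, 2]), (375, [2, 1]), (720, [-1, -2]), (1134, [2, 0]), (2100, [-2, 0]), (2376, [0, -1]), (4032, [1, 0]), (4400, [0, 1]), (6930, [0, 0]), (16038, [0, 2]), (17280, [-2, 1]), (24640, [0, 0]), (29700, [0, -2])],
  [(77, [0, 0]), (192, [-1, -1]), (330, [0, 2]), (560, [-2, 0]), (1848, [0, 0]), (7920, [0, -1]), (12474, [0, 0]), (23100, [0, 0]), (25515, [1, 0])],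
  [(32, [-2, 1]), (55, [0, -2]), (308, [0, 0]), (1320, [0, 1]), (2079, [0, 0]), (3850, [0, 0]), (7392, [0, 0]), (7875, [-2, 0]), (8910, [0, -2]), (15120, [1, 0]), (16500, [0, 2]), (28000, [-1, 0])],
  [(10, [-2, -1]), (56, [2, 0]), (792, [0, 2]), (2310, [0, 0]), (4725, [1, 0]), (19008, [0, -1]), (20250, [-2, -2]), (28875, [0, 0])],
  [(11, [0, 1]), (126, [-1, 0]), (540, [2, 2]), (770, [0, 0]), (1000, [-2, -2]), (1782, [0, 1]), (3024, [-2, 0]), (3300, [0, -1]), (5600, [2, 0]), (6336, [0, 2]), (9625, [0, 0]), (18480, [0, 0]), (22275, [0, 2])],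
  [(1760, [0, -1]), (2772, [0, 0]), (5670, [-1, 0]), (9856, [0, 0]), (10500, [1, 0]), (11880, [0, 2]), (18711, [0, 0]), (22000, [0, -2]), (24300, [2, -1])],
  [(105, [1, 0]), (220, [0, -1]), (864, [1, -1]), (1232, [0, 0]), (1485, [0, 2]), (1600, [-1, 1]), (2520, [2, 0]), (2750, [0, -2]), (8316, [0, 0]), (15400, [0, 0]), (29568, [0, 0])],
  [(60, [-1, 1]), (175, [-2, 0]), (336, [1, 0]), (704, [0, 1]), (2475, [0, 1]), (4752, [0, -2]), (8064, [2, 0]), (8800, [0, 2]), (13860, [0, 0])],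
  [(176, [0, 2]), (567, [1, 0]), (1050, [-1, 0]), (2430, [-2, 2]), (3465, [0, 0]), (4224, [0, -1]), (4500, [2, -2]), (8019, [0, 1]), (12320, [0, 0]), (13608, [2, 0]), (14850, [0, -1]), (25200, [-2, 0]), (28512, [0, 2])],
  [(154, [0, 0]), (384, [-2, -2]), (1925, [0, 0]), (3696, [0, 0]), (4455, [0, -1]), (8250, [0, 1]), (15840, [0, -2]), (24948, [0, 0])],
  [(132, [0, -2]), (270, [1, 1]), (385, [0, 0]), (500, [-1, -1]), (1512, [-1, 0]), (2800, [1, 0]), (3168, [0, 1]), (9240, [0, 0]), (21384, [0, -2])],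
  [(225, [-1, 2]), (616, [0, 0]), (1260, [1, 0]), (1375, [0, -1]), (2640, [0, 2]), (2916, [2, 1]), (4158, [0, 0]), (5400, [-2, -1]), (7700, [0, 0]), (10368, [1, 2]), (14784, [0, 0])],
  [(88, [0, 1]), (594, [0, -2]), (1100, [0, 2]), (1215, [-1, 1]), (2250, [1, -1]), (6160, [0, 0]), (6804, [1, 0]), (12600, [-1, 0]), (14256, [0, 1]), (26400, [0, -1])],
  [(66, [0, -1]), (825, [0, -2]), (3240, [1, -2]), (4620, [0, 0]), (5103, [-2, 0]), (6000, [-1, 2]), (9450, [2, 0]), (10692, [0, -1]), (18144, [-1, 0]), (19800, [0, 1])],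
  [(21, [-2, 0]), (297, [0, -1]), (550, [0, 1]), (1056, [0, -2]), (3080, [0, 0]), (14580, [-1, -2]), (20790, [0, 0]), (27000, [1, 2])],
  [(22, [0, 2]), (45, [2, -1]), (160, [1, -2]), (252, [-2, 0]), (528, [0, -1]), (896, [-1, 0]), (1540, [0, 0]), (3564, [0, 2]), (6600, [0, -2]), (10395, [0, 0]), (19250, [0, 0])]]

def RS : List (ℕ × List ℕ) := [(11, [0, 1, 5, 6, 10]), (7, [0, 1, 3, 4, 6])]

theorem hB : allDiv 898128000 (tabD 898128000 RS (Ds.map PD.fam) 23 B) L 1 = true := by decide +kernel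

section

variable {S : Type u} [Group S] [Finite S] [Fintype (IrrCharacter S)]

theorem tab [IsSimpleGroup S] (hN : Nat.card S = 898128000) (hx : ∀ D ∈ Ds, D.Cent S) (hC : ∀ c ∈ Cs, c.Holds S) :
    Tab S (fun g : S => orderOf g) 898128000 L (Ds.map PD.fam) Cs B.flatten :=
  Tab.of_primes hN (by norm_num) (by decide +kernel) (by decide +kernel) rfl (by decide +kernel) hx hB hC

variable {lab : S → ℕ}

def Q1 : List ℕ := [77, 154, 231, 308, 385, 462, 540, 616, 693, 704, 770, 924, 1155, 1232, 1320, 1386, 1408, 1485, 1540, 1782, 1848, 1925, 2079, 2310, 2464, 2475, 2640, 2772, 3080, 3168, 3465, 3564, 3696, 3850, 4158, 4400, 4620, 4928, 4950, 5544, 5775, 5940, 6160, 6237, 6336, 6930, 7200, 7392, 7700, 8019, 8250, 8316, 8800, 9240, 9625, 9856, 10368, 10395, 10560, 11088, 11550, 11880, 12320, 12474, 13860, 14256, 14400, 14784, 15400, 16038, 16500, 16632, 17325, 18480, 18711, 19250, 19800, 20790, 21120, 22176, 22275, 23100, 24640, 24948, 25515, 26730,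 27000, 27720, 28512, 28875, 29568]

theorem must_1 (C : Tab S lab 898128000 L (Ds.map PD.fam) Cs B.flatten) : ∃ d ∈ Q1, d ∈ charDegrees S :=
  Tab.must C _ (-34)
    [⟨-443520, 8453400275, 6124918762, [-11136250820]⟩, ⟨-3654656, 2020477587, 0, []⟩]
    [-7921088799, -34034948579, -33384030897, -114643435572, -37443465870] (by decide +kernel)

def Q2 : List ℕ := [6, 27, 28, 50, 60, 105, 126, 160, 192, 225, 270, 280, 336, 500, 567, 720, 864, 875, 896, 1050, 1215, 1260, 1512, 1600, 2250, 2800, 3240, 3360, 3888, 4032, 4725, 5670, 6000, 6804, 10125, 11340, 12600, 14580, 17280, 18144, 20250, 25200, 28000]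

theorem must_2 (C : Tab S lab 898128000 L (Ds.map PD.fam) Cs B.flatten) : ∃ d ∈ Q2, d ∈ charDegrees S :=
  Tab.must C _ 1
    [⟨5554286, 21870000000, -74844000000, [12983142857]⟩, ⟨0, 0, 0, []⟩]
    [0, -84680640000, 0, -85536000000, -30792960000] (by decide +kernel)

end

/-- **Eight degrees**; `hx` : elements of prime order and their centralizers; `hK` : known degrees. -/
theorem eight {S : Type u} [Group S] [Finite S] [IsSimpleGroup S] (hN : Nat.card S = 898128000)
    (hx : ∀ pk ∈ ([(11, 1), (7, 2)] : List (ℕ × ℕ)), ∃ x : S, orderOf x = pk.1 ∧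
      Nat.card (Subgroup.centralizer ({x} : Set S)) = pk.1 * pk.2)
    (hK : ∀ d ∈ ([22, 252, 3520, 4500, 5103] : List ℕ), d ∈ charDegrees S) :
    Eight S := by
  classical
  have := finite_irr (G := S)
  let _ := Fintype.ofFinite (IrrCharacter S)
  have T := tab (S := S) hN (by
    intro D hD
    simp only [Ds, List.mem_cons, List.not_mem_nil, or_false] at hD
    rcases hD with rfl | rfl
    · exact hx (11, 1) (by simp)
    · exact hx (7, 2) (by simp)) (by
    intro c hc
    simp only [Cs, List.mem_cons, List.not_mem_nil, or_false] at hc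
    rcases hc with rfl | rfl | rfl | rfl | rfl
    · exact condEq_holds (hK 22 (by simp))
    · exact condEq_holds (hK 252 (by simp))
    · exact condEq_holds (hK 3520 (by simp))
    · exact condEq_holds (hK 4500 (by simp))
    · exact condEq_holds (hK 5103 (by simp)))
  refine eight_of_pack [22, 252, 3520, 4500, 5103] hK [(1, Q1), (1, Q2)] ?_ 1 (by decide +kernel)
  intro q hq
  simp only [List.mem_cons, List.not_mem_nil, or_false] at hq
  rcases hq with rfl | rfl
  · exact must_1 T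
  · exact must_2 T

end Cfsg.Agent.H471.Eight.CertMcL
end

-- part: H315/Eight/RowMcL
section
/-!
# `McL` has at least eight character degrees (helper315, for S4899)

Degrees 22, 252 (helper713, helper334), 3520, 4500, 5103 (helper678), centralizers of the elements of order 7 and 11
(helper848, helper904), certificate of helper471.
-/

set_option autoImplicit false

namespace Cfsg.Agent.H315.Eight.RowMcL

open Cfsg Subgroup Cfsg.Agent.Characters.Core Cfsg.Agent.H664.Eight Cfsg.Agent.H334.DS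
open Cfsg.Agent.Blocks.Basic (irr_one_eq_charDegree)

universe u

theorem mem_of_hasDeg {G : Type*} [Group G] [Finite G] {m : ℕ} (h : HasDeg G m) : m ∈ charDegrees G := by
  obtain ⟨χ, h1, h2⟩ := h
  refine ⟨⟨χ, h1⟩, ?_⟩
  have h3 := irr_one_eq_charDegree h1
  rw [h2] at h3
  exact_mod_cast h3.symm

open Cfsg.Agent.H904.McLCent Cfsg.Agent.McLType.X275 Cfsg.Agent.McLType.Gens in
theorem eight_mcl' : Eight Spor.McL := by
  have h : Spor.IsoMcL Spor.McL := ⟨MulEquiv.refl _⟩
  obtain ⟨hfin, hs, -⟩ := H848.McLLocal.facts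
  have hcard := H904.McLCent.card_L h
  obtain ⟨θ, R⟩ := exists_rep h
  let f : Spor.McL ≃* K0 := (MonoidHom.ofInjective R.inj).trans (MulEquiv.subgroupCongr R.range)
  refine H471.Eight.CertMcL.eight hcard ?_ ?_
  · intro pk hpk
    simp only [List.mem_cons, List.not_mem_nil, or_false] at hpk
    rcases hpk with rfl | rfl
    · have : Fact (Nat.Prime 11) := ⟨by norm_num⟩
      obtain ⟨x, hx⟩ := exists_prime_orderOf_dvd_card' (G := Spor.McL) 11 (by rw [hcard]; norm_num)
      refine ⟨x, hx, ?_⟩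
      have h1 := (H904.McLCent.eleven h (zpowers x) (by rw [Nat.card_zpowers, hx])).1
      rw [show (zpowers x : Subgroup Spor.McL) = Subgroup.closure {x} from zpowers_eq_closure x,
        centralizer_closure] at h1
      exact h1
    · exact H848.McLLocal.mcl_seven
  · intro d hd
    simp only [List.mem_cons, List.not_mem_nil, or_false] at hd
    rcases hd with rfl | rfl | rfl | rfl | rfl
    · exact mem_of_hasDeg (H334.DS.mcl h).1
    · exact mem_of_hasDeg (H334.DS.mcl h).2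
    · exact charDegrees_subset f H678.DG.McLDeg.deg_3520
    · exact charDegrees_subset f H678.DG.McLDeg.deg_4500
    · exact charDegrees_subset f H678.DG.McLDeg.deg_5103

/-- **`McL`.** -/
theorem eight_mcl {S : Type u} [Group S] (h : Spor.IsoMcL S) : Eight S := by
  obtain ⟨e⟩ := h
  exact eight_mcl'.of_equiv e

end Cfsg.Agent.H315.Eight.RowMcL
end

private theorem dce_299f969fb611 : _root_.True := by
  try have : _root_.True := by simp only [_root_.Cfsg.Agent.H471.Eight.CertMcL.Ds.eq_1]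
  try have : _root_.True := by simp only [_root_.Cfsg.Agent.H471.Eight.CertMcL.Cs.eq_1]
  exact _root_.True.intro
end

-- part: H235/Eight/Th
section
prune_inst 0x80000001000000c010000
set_option linter.all false
open scoped Cfsg.Agent.FastGrp

/-!
# S4899: the row of the Thompson group (helper235)

The degrees `30875, 61256, 4881384, 28861000, 51684750` are known; if there is at most one more, then the column of an
element of order 19 (rational, `|C(x)| = 19`) gives a contradiction.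
-/

set_option autoImplicit false

namespace Cfsg.Agent.H235.Eight.Th

open Cfsg Subgroup
open scoped ComplexConjugate
open Cfsg.Agent.H664.Eight Cfsg.Agent.Characters.Core

universe u

/-- the known degrees of value 0 -/
def Z : List ℕ := [30875, 61256, 28861000, 51684750]

/-- the check -/
def chk : Bool :=
  (List.range 19).all fun b => (List.range 19).all fun c => (List.range 9).all fun w =>
    let W : ℤ := (w : ℤ) - 4
    (c * W ^ 2 != 18 - (b : ℤ)) || (c * W == 0) || (4881384 * (b : ℤ) - 1) % (c * W) != 0 ||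
      90745943887872000 % ((4881384 * (b : ℤ) - 1) / (c * W)) != 0

theorem chk_true : chk = true := by decide +kernel

theorem arith (b c d : ℕ) (w : ℤ) (hb : b < 19) (hb0 : b ≠ 0) (hw : -4 ≤ w ∧ w ≤ 4) (h1 : 1 + (b : ℤ) + c * w ^ 2 = 19)
    (h2 : 1 + b * (-4881384) + c * (d * w) = (0 : ℤ)) (hd : d ∣ 90745943887872000) : False := by
  have hcw : (c : ℤ) * w ≠ 0 := by
    intro h
    have h3 : (c : ℤ) * (d * w) = 0 := by
      rw [show (c : ℤ) * (d * w) = d * (c * w) by ring, h, mul_zero]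
    rw [h3] at h2
    omega
  have hw0 : w ≠ 0 := fun h => hcw (by rw [h, mul_zero])
  have hw2 : 1 ≤ w ^ 2 := by
    have : 0 < w ^ 2 := by positivity
    omega
  have hc : c < 19 := by
    by_contra hc
    push Not at hc
    have h3 : (19 : ℤ) * 1 ≤ c * w ^ 2 := mul_le_mul (by exact_mod_cast hc) hw2 (by norm_num) (by positivity)
    omega
  have h := chk_true
  unfold chk at h
  simp only [List.all_eq_true, List.mem_range] at h
  have h3 := h b hb c hc (w + 4).toNat (by omega)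
  have h4 : (((w + 4).toNat : ℕ) : ℤ) - 4 = w := by omega
  simp only [h4] at h3
  have h5 : 4881384 * (b : ℤ) - 1 = c * w * d := by linear_combination -h2
  rw [h5] at h3
  simp only [Bool.or_eq_true, bne_iff_ne, beq_iff_eq, ne_eq] at h3
  rcases h3 with ((h3 | h3) | h3) | h3
  · exact h3 (by linear_combination h1)
  · exact hcw h3
  · exact h3 (Int.mul_emod_right _ _)
  · rw [Int.mul_ediv_cancel_left _ hcw] at h3
    refine h3 (Int.emod_eq_zero_of_dvd ?_)
    exact_mod_cast hd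

theorem count {ι : Type*} [Fintype ι] (D : ι → ℕ) (v : ι → ℤ) (t : ι) (h1 : ∀ χ, D χ = 1 ↔ χ = t)
    (hv : ∀ χ, (19 : ℤ) ∣ v χ - D χ) (hb : ∀ χ, v χ ^ 2 ≤ 19) (hs : ∑ χ, v χ ^ 2 = 19)
    (hz : ∑ χ, (D χ : ℤ) * v χ = 0) (hN : ∀ χ, D χ ∣ 90745943887872000) (d : ℕ)
    (hd : ∀ χ, D χ = 1 ∨ D χ = 4881384 ∨ D χ ∈ Z ∨ D χ = d) (hex : ∃ χ, D χ = 4881384) : False := by
  classical
  have hb' : ∀ χ, -4 ≤ v χ ∧ v χ ≤ 4 := fun χ => ⟨by nlinarith [hb χ], by nlinarith [hb χ]⟩
  obtain ⟨E, hE⟩ : ∃ E : ι → Prop, ∀ χ, E χ ↔ (D χ = d ∧ d ≠ 1 ∧ d ≠ 4881384 ∧ d ∉ Z) := ⟨_, fun _ => Iff.rfl⟩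
  obtain ⟨w, hw, hwE⟩ : ∃ w : ℤ, (-4 ≤ w ∧ w ≤ 4) ∧ ∀ χ, E χ → v χ = w := by
    by_cases he : ∃ χ, E χ
    · obtain ⟨χ, hχ⟩ := he
      refine ⟨v χ, hb' χ, fun ψ hψ => ?_⟩
      have h2 := hv χ
      have h3 := hv ψ
      rw [((hE χ).1 hχ).1] at h2
      rw [((hE ψ).1 hψ).1] at h3
      obtain ⟨h4, h5⟩ := hb' χ
      obtain ⟨h6, h7⟩ := hb' ψ
      omega
    · exact ⟨0, by norm_num, fun χ hχ => absurd ⟨χ, hχ⟩ he⟩
  have hA : ∀ χ, D χ = 1 → v χ = 1 := by
    intro χ h
    have h2 := hv χ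
    rw [h] at h2
    obtain ⟨h4, h5⟩ := hb' χ
    omega
  have hB : ∀ χ, D χ = 4881384 → v χ = -1 := by
    intro χ h
    have h2 := hv χ
    rw [h] at h2
    obtain ⟨h4, h5⟩ := hb' χ
    omega
  have hC : ∀ χ, D χ ∈ Z → v χ = 0 := by
    intro χ h
    have h2 := hv χ
    obtain ⟨h4, h5⟩ := hb' χ
    simp only [Z, List.mem_cons, List.not_mem_nil, or_false] at h
    rcases h with h | h | h | h <;> (rw [h] at h2; omega)
  have hcases : ∀ χ, (D χ = 1 ∧ v χ = 1 ∧ ¬ E χ) ∨ (D χ = 4881384 ∧ v χ = -1 ∧ ¬ E χ) ∨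
      (D χ ≠ 1 ∧ D χ ≠ 4881384 ∧ v χ = 0 ∧ ¬ E χ) ∨ (D χ ≠ 1 ∧ D χ ≠ 4881384 ∧ v χ = w ∧ E χ ∧ D χ = d) := by
    intro χ
    by_cases a1 : D χ = 1
    · exact Or.inl ⟨a1, hA χ a1, fun e => ((hE χ).1 e).2.1 (((hE χ).1 e).1.symm.trans a1)⟩
    by_cases a2 : D χ = 4881384
    · exact Or.inr (Or.inl ⟨a2, hB χ a2, fun e => ((hE χ).1 e).2.2.1 (((hE χ).1 e).1.symm.trans a2)⟩)
    by_cases a3 : D χ ∈ Z
    · exact Or.inr (Or.inr (Or.inl ⟨a1, a2, hC χ a3, fun e => ((hE χ).1 e).2.2.2 (by rw [← ((hE χ).1 e).1]; exact a3)⟩))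
    · have h4 : D χ = d := (((hd χ).resolve_left a1).resolve_left a2).resolve_left a3
      have h5 : E χ := (hE χ).2 ⟨h4, by rwa [← h4], by rwa [← h4], by rwa [← h4]⟩
      exact Or.inr (Or.inr (Or.inr ⟨a1, a2, hwE χ h5, h5, h4⟩))
  have k1 : ∀ χ, v χ ^ 2 = (if D χ = 1 then 1 else 0) + (if D χ = 4881384 then 1 else 0) + (if E χ then w ^ 2 else 0) := by
    intro χ
    rcases hcases χ with ⟨a, b, c⟩ | ⟨a, b, c⟩ | ⟨a, a', b, c⟩ | ⟨a, a', b, c, -⟩
    · rw [b, a, if_neg c]; norm_num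
    · rw [b, a, if_neg c]; norm_num
    · rw [b, if_neg a, if_neg a', if_neg c]; norm_num
    · rw [b, if_neg a, if_neg a', if_pos c]; norm_num
  have k2 : ∀ χ, (D χ : ℤ) * v χ = (if D χ = 1 then 1 else 0) + (if D χ = 4881384 then (-4881384) else 0) +
      (if E χ then (d * w : ℤ) else 0) := by
    intro χ
    rcases hcases χ with ⟨a, b, c⟩ | ⟨a, b, c⟩ | ⟨a, a', b, c⟩ | ⟨a, a', b, c, e⟩
    · rw [b, a, if_neg c]; norm_num
    · rw [b, a, if_neg c]; norm_num
    · rw [b, if_neg a, if_neg a', if_neg c]; norm_num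
    · rw [b, if_neg a, if_neg a', if_pos c, e]; norm_num
  rw [Finset.sum_congr rfl fun χ _ => k1 χ] at hs
  rw [Finset.sum_congr rfl fun χ _ => k2 χ] at hz
  simp only [Finset.sum_add_distrib, Finset.sum_ite, Finset.sum_const, Finset.sum_const_zero, add_zero,
    nsmul_eq_mul] at hs hz
  have hone : (Finset.univ.filter fun χ => D χ = 1).card = 1 := by
    rw [Finset.card_eq_one]
    refine ⟨t, ?_⟩
    ext χ
    rw [Finset.mem_filter, Finset.mem_singleton]
    exact ⟨fun h => (h1 χ).1 h.2, fun h => ⟨Finset.mem_univ _, (h1 χ).2 h⟩⟩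
  rw [hone] at hs hz
  set B := (Finset.univ.filter fun χ => D χ = 4881384).card with hBdef
  set C := (Finset.univ.filter fun χ => E χ).card with hCdef
  have hB0 : B ≠ 0 := by
    obtain ⟨χ, hχ⟩ := hex
    exact Finset.card_ne_zero_of_mem (Finset.mem_filter.2 ⟨Finset.mem_univ χ, hχ⟩)
  have hBlt : B < 19 := by
    have h3 : (0 : ℤ) ≤ C * w ^ 2 := by positivity
    push_cast at hs
    omega
  have hN' : C ≠ 0 → d ∣ 90745943887872000 := by
    intro h
    obtain ⟨χ, hχ⟩ := Finset.card_pos.1 (Nat.pos_of_ne_zero h)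
    rw [← ((hE χ).1 (Finset.mem_filter.1 hχ).2).1]
    exact hN χ
  by_cases hC0 : C = 0
  · rw [hC0] at hz
    push_cast at hz
    omega
  · exact arith B C d w hBlt hB0 hw (by push_cast at hs; linear_combination hs) (by push_cast at hz; linear_combination hz)
      (hN' hC0)

theorem eight_Th : Eight Cfsg.Spor.Th := by
  classical
  have hcard : Nat.card Cfsg.Spor.Th = 90745943887872000 := Cfsg.Agent.H723.Spor.Th.card_th
  have hfin : Finite Cfsg.Spor.Th := Nat.finite_of_card_ne_zero (by rw [hcard]; norm_num)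
  have hs : IsSimpleGroup Cfsg.Spor.Th := Cfsg.Agent.S1700.result.1
  have := Fintype.ofFinite Cfsg.Spor.Th
  have hfi : Finite (IrrCharacter Cfsg.Spor.Th) := finite_irr
  have := Fintype.ofFinite (IrrCharacter Cfsg.Spor.Th)
  by_contra hno
  unfold Eight at hno
  push Not at hno
  -- at most one more degree
  let K : Finset ℕ := {1, 30875, 61256, 4881384, 28861000, 51684750}
  obtain ⟨m1, m2, m3⟩ := H669.Dl.Th.mem
  obtain ⟨m4, m5⟩ := H859.Two.mem_Th
  have hK : ∀ d ∈ K, d ∈ charDegrees Cfsg.Spor.Th := by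
    intro d hd
    simp only [K, Finset.mem_insert, Finset.mem_singleton] at hd
    rcases hd with rfl | rfl | rfl | rfl | rfl | rfl
    · exact one_mem
    · exact m5
    · exact m4
    · exact m2
    · exact m3
    · exact m1
  have hKc : K.card = 6 := by decide
  obtain ⟨d, hd⟩ : ∃ d : ℕ, ∀ e ∈ charDegrees Cfsg.Spor.Th, e ∈ K ∨ e = d := by
    by_cases he : ∃ d ∈ charDegrees Cfsg.Spor.Th, d ∉ K
    · obtain ⟨d, hd, hdK⟩ := he
      refine ⟨d, fun e he => ?_⟩
      by_contra hc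
      push Not at hc
      have h1 := card_le_ncard (S := Cfsg.Spor.Th) (insert e (insert d K)) (by
        intro a ha
        rw [Finset.mem_insert, Finset.mem_insert] at ha
        rcases ha with rfl | rfl | ha
        · exact he
        · exact hd
        · exact hK a ha)
      rw [Finset.card_insert_of_notMem, Finset.card_insert_of_notMem hdK, hKc] at h1
      · omega
      · rw [Finset.mem_insert]
        rintro (h | h)
        · exact hc.2 h
        · exact hc.1 h
    · push Not at he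
      exact ⟨1, fun e h => Or.inl (he e h)⟩
  choose v hv hv1 hv2 using H669.Dl.Th.value
  let x := H669.Dl.Th.x
  have hx1 : x ≠ 1 := by
    intro h
    have h2 := H669.Dl.Th.x_order
    rw [show H669.Dl.Th.x = 1 from h, orderOf_one] at h2
    omega
  have hD : ∀ χ : IrrCharacter Cfsg.Spor.Th, (χ : Cfsg.Spor.Th → ℂ) 1 = (charDegree (χ : Cfsg.Spor.Th → ℂ) : ℕ) :=
    fun χ => Cfsg.Agent.Blocks.Basic.irr_one_eq_charDegree χ.2
  refine count (fun χ : IrrCharacter Cfsg.Spor.Th => charDegree (χ : Cfsg.Spor.Th → ℂ)) v ⟨1, isIrr_one⟩ ?_ hv1 hv2 ?_ ?_ ?_ d ?_ ?_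
  · intro χ
    constructor
    · intro h
      exact Subtype.ext (H653.Sieve.one_of_deg (by rw [hcard]; norm_num) χ h)
    · rintro rfl
      show charDegree (1 : Cfsg.Spor.Th → ℂ) = 1
      unfold charDegree
      simp
  · have h := S0145.sum_irr_mul_conj x x
    rw [if_pos (IsConj.refl _), H669.Dl.Th.card_cent] at h
    have h2 : ∀ χ : IrrCharacter Cfsg.Spor.Th, (χ : Cfsg.Spor.Th → ℂ) x * conj ((χ : Cfsg.Spor.Th → ℂ) x) =
        ((v χ ^ 2 : ℤ) : ℂ) := by
      intro χ
      rw [show (χ : Cfsg.Spor.Th → ℂ) x = v χ from hv χ]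
      simp [pow_two]
    rw [Finset.sum_congr rfl fun χ _ => h2 χ, ← Int.cast_sum] at h
    exact_mod_cast h
  · have h := S0145.sum_irr_mul_conj x (1 : Cfsg.Spor.Th)
    rw [if_neg (by rw [isConj_comm, isConj_one_right]; exact hx1)] at h
    have h2 : ∀ χ : IrrCharacter Cfsg.Spor.Th, (χ : Cfsg.Spor.Th → ℂ) x * conj ((χ : Cfsg.Spor.Th → ℂ) 1) =
        (((charDegree (χ : Cfsg.Spor.Th → ℂ) : ℤ) * v χ : ℤ) : ℂ) := by
      intro χ
      rw [show (χ : Cfsg.Spor.Th → ℂ) x = v χ from hv χ, hD χ]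
      simp [mul_comm]
    rw [Finset.sum_congr rfl fun χ _ => h2 χ, ← Int.cast_sum] at h
    exact_mod_cast h
  · intro χ
    rw [← hcard]
    exact H596.charDegree_dvd_card χ.2
  · intro χ
    rcases hd _ ⟨χ, rfl⟩ with h | h
    · simp only [K, Finset.mem_insert, Finset.mem_singleton] at h
      simp only [Z, List.mem_cons, List.not_mem_nil, or_false]
      tauto
    · exact Or.inr (Or.inr (Or.inr h))
  · exact m2

/-- **The row of the Thompson group.** -/
theorem row {S : Type u} [Group S] (h : Spor.IsoTh S) : Eight S := by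
  obtain ⟨e⟩ := h
  exact eight_Th.of_equiv e

end Cfsg.Agent.H235.Eight.Th

private theorem dce_5f65717e2429 : _root_.True := by
  try have : _root_.True := by simp only [_root_.Cfsg.Agent.H235.Eight.Th.Z.eq_1]
  exact _root_.True.intro
end

-- part: H471/Eight/RowFi24
section
set_option linter.all false
open scoped Cfsg.Agent.FastGrp

/-!
# `Fi24'` has at least eight character degrees (helper471, for S4899)
-/

set_option autoImplicit false

namespace Cfsg.Agent.H471.Eight.RowFi24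

open Cfsg Subgroup Cfsg.Agent.Characters.Core Cfsg.Agent.H664.Eight

universe u

theorem cent {p : ℕ} (hp : p.Prime) (hm : 306936 % p ≠ 0) (hd : p ∣ 1255205709190661721292800)
    (hD : ∀ R : Subgroup Spor.Fi24, Nat.card R = p → Nat.card (centralizer (R : Set Spor.Fi24)) ∣ 2 * p) :
    ∃ x : Spor.Fi24', orderOf x = p ∧ Nat.card (Subgroup.centralizer ({x} : Set Spor.Fi24')) = p * 1 := by
  have hfin : Finite Spor.Fi24' := H30.GraphFi24.finite_Fi24'
  have := Fact.mk hp
  obtain ⟨x, hx⟩ := exists_prime_orderOf_dvd_card' (G := Spor.Fi24') p (by rw [H30.GraphFi24.card_F]; exact hd)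
  exact ⟨x, hx, by rw [mul_one]; exact H968.Tor.card_cent24 hp hm hD hx⟩

theorem eight_fi24' : Eight Spor.Fi24' := by
  have hfin : Finite Spor.Fi24' := H30.GraphFi24.finite_Fi24'
  have hs : IsSimpleGroup Spor.Fi24' := R08.FiTwentyFour.isFi24'.1
  refine CertFi24.eight H30.GraphFi24.card_F ?_ ?_
  · intro pk hpk
    simp only [List.mem_cons, List.not_mem_nil, or_false] at hpk
    rcases hpk with rfl | rfl | rfl
    · obtain ⟨x, t, hx, hC, -⟩ := H30.IMFi24.exists_x
      exact ⟨x, hx, hC⟩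
    · exact cent (by norm_num) (by norm_num) (by norm_num) fun R hR => (H256.Sep.FiData.data23 hR).1
    · exact cent (by norm_num) (by norm_num) (by norm_num) fun R hR => (H256.Sep.FiData.data17 hR).1
  · intro d hd
    simp only [List.mem_cons, List.not_mem_nil, or_false] at hd
    rcases hd with rfl | rfl
    · obtain ⟨χ, h⟩ := H30.GraphFi24.exists_deg.1
      exact ⟨χ, h⟩
    · obtain ⟨χ, h⟩ := H30.GraphFi24.exists_deg.2
      exact ⟨χ, h⟩

/-- **`Fi24'`.** -/
theorem eight_fi24 {S : Type u} [Group S] (h : Spor.IsoFi24' S) : Eight S := by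
  obtain ⟨e⟩ := h
  exact eight_fi24'.of_equiv e

end Cfsg.Agent.H471.Eight.RowFi24
end
end
end
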